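import Groth.Agent.Lib.Cyc.FieldDim
import Groth.Prelude.Def_Flat
import Mathlib.AlgebraicGeometry.Restrict

/-!
# Local dimension of schemes locally of finite type over a field and of fibres
-/

set_option autoImplicit false

universe u

namespace Groth.Agent.Lib.Cyc.LocalDim

open AlgebraicGeometry CategoryTheory Groth.Agent.Lib.Cyc

variable {X Y : Scheme.{u}}

section Field

variable {K : Type u} [Field K] (f : X ⟶ Spec (CommRingCat.of K)) [LocallyOfFiniteType f]

theorem fdelta_le_topologicalKrullDim (ξ : X) :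
    ((FieldDim.fdelta f ξ).toNat : WithBot ℕ∞) ≤ topologicalKrullDim X := by
  rw [← FieldDim.topologicalKrullDim_closure f ξ]
  exact topologicalKrullDim_subspace_le X _

theorem topologicalKrullDim_le_iff (n : ℕ) :
    topologicalKrullDim X ≤ (n : WithBot ℕ∞) ↔ ∀ x, FieldDim.fdelta f x ≤ n := by
  refine ⟨fun h x => ?_, fun h => iSup_le fun l => ?_⟩
  · have h1 := (fdelta_le_topologicalKrullDim f x).trans h
    have h2 : (FieldDim.fdelta f x).toNat ≤ n := by exact_mod_cast h1
    omega
  · have hδ := FieldDim.isDimFun_fdelta f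
    have key : ∀ i : ℕ, (hi : i < l.length + 1) →
        (i : ℤ) ≤ FieldDim.fdelta f (l ⟨i, hi⟩).2.genericPoint := by
      intro i
      induction i with
      | zero => intro _; exact FieldDim.fdelta_nonneg f _
      | succ i ih =>
        intro hi
        have := ih (by omega)
        have hlt : l ⟨i, by omega⟩ < l ⟨i + 1, hi⟩ := l.step ⟨i, by omega⟩
        have h1 := (l ⟨i, by omega⟩).2.isGenericPoint_genericPoint (l ⟨i, by omega⟩).3
        have h2 := (l ⟨i + 1, hi⟩).2.isGenericPoint_genericPoint (l ⟨i + 1, hi⟩).3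
        have := DimFun.lt_of_specializes hδ (h2.specializes (hlt.le h1.mem)) (fun he => by
          apply hlt.ne
          apply SetLike.coe_injective
          rw [he] at h2
          exact h1.def.symm.trans h2.def)
        push_cast
        omega
    have h1 := key l.length (Nat.lt_succ_self _)
    have h2 := h (l ⟨l.length, Nat.lt_succ_self _⟩).2.genericPoint
    exact_mod_cast (show l.length ≤ n by omega)

theorem fdelta_ι (U : X.Opens) (u : U) :
    FieldDim.fdelta (U.ι ≫ f) u = FieldDim.fdelta f (U.ι u) := by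
  rw [FieldDim.fdelta, FieldDim.fdelta, Residue.trdegAt_comp,
    FieldDim.trdegAt_eq_zero_of_surjective U.ι u (FieldDim.residueFieldMap_surjective _ _), add_zero]

theorem localDim_le_iff (x : X) (n : ℕ) :
    FlatMor.localDim X x ≤ (n : WithBot ℕ∞) ↔ ∀ ξ, ξ ⤳ x → FieldDim.fdelta f ξ ≤ n := by
  have : IsLocallyNoetherian X := LocallyOfFiniteType.isLocallyNoetherian f
  have hδ := FieldDim.isDimFun_fdelta f
  constructor
  · intro h ξ hξ
    by_contra hc
    have key : ((n + 1 : ℕ) : WithBot ℕ∞) ≤ FlatMor.localDim X x := by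
      refine le_iInf fun U => ?_
      have hξU : ξ ∈ (U.1 : X.Opens) := hξ.mem_open U.1.2 U.2
      let U' : X.Opens := U.1
      have h1 := fdelta_le_topologicalKrullDim (U'.ι ≫ f) (⟨ξ, hξU⟩ : U')
      rw [fdelta_ι] at h1
      refine le_trans ?_ h1
      change ((n + 1 : ℕ) : WithBot ℕ∞) ≤ ((FieldDim.fdelta f (U'.ι ⟨ξ, hξU⟩)).toNat : WithBot ℕ∞)
      change ((n + 1 : ℕ) : WithBot ℕ∞) ≤ ((FieldDim.fdelta f ξ).toNat : WithBot ℕ∞)
      exact_mod_cast (show n + 1 ≤ (FieldDim.fdelta f ξ).toNat by omega)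
    have : n + 1 ≤ n := by exact_mod_cast key.trans h
    omega
  · intro h
    obtain ⟨V, hV, hxV, hfin⟩ := DimFun.exists_open_finite_maxPts (X := X) isClosed_univ x
    let B : Set X := ⋃ η ∈ {η | η ∈ V ∧ DimFun.IsMaxPt η ∧ ¬ η ⤳ x}, closure {η}
    have hB : IsClosed B := Set.Finite.isClosed_biUnion
      (hfin.subset fun η hη => ⟨hη.1, trivial, fun y _ => hη.2.1 y⟩) fun η _ => isClosed_closure
    let U : X.Opens := ⟨V ∩ Bᶜ, hV.inter hB.isOpen_compl⟩
    have hxU : x ∈ U := ⟨hxV, by
      simp only [B, Set.mem_compl_iff, Set.mem_iUnion, not_exists]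
      exact fun η hη hc => hη.2.2 (specializes_iff_mem_closure.mpr hc)⟩
    refine (iInf_le _ ⟨U, hxU⟩).trans ?_
    refine (topologicalKrullDim_le_iff (U.ι ≫ f) n).mpr fun u => ?_
    rw [fdelta_ι]
    obtain ⟨ξ, hξu, hξ⟩ := DimFun.exists_isMaxPt_specializes (U.ι u)
    have hξx : ξ ⤳ x := by
      by_contra hc
      exact u.2.2 (Set.mem_biUnion (⟨hξu.mem_open hV u.2.1, hξ, hc⟩ :
        ξ ∈ {η | η ∈ V ∧ DimFun.IsMaxPt η ∧ ¬ η ⤳ x}) (specializes_iff_mem_closure.mp hξu))
    exact (DimFun.le_of_specializes hδ hξu).trans (h ξ hξx)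

theorem localDim_mono {x x' : X} (h : x ⤳ x') :
    FlatMor.localDim X x ≤ FlatMor.localDim X x' :=
  le_iInf fun U => iInf_le (fun V : {V : TopologicalSpace.Opens X // x ∈ V} =>
    topologicalKrullDim (V.1 : Set X)) ⟨U.1, h.mem_open U.1.2 U.2⟩

end Field

/-- The local dimension of a fibre in terms of residue field extensions. -/
theorem fibreDimAt_le_iff (f : X ⟶ Y) [LocallyOfFiniteType f] (x : X) (n : ℕ) :
    FlatMor.fibreDimAt f x ≤ (n : WithBot ℕ∞) ↔
      ∀ ξ, f ξ = f x → ξ ⤳ x → Residue.trdegAt f ξ ≤ (n : Cardinal) := by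
  have : LocallyOfFiniteType (X := f.fiber (f x)) (Y := Spec (CommRingCat.of (Y.residueField (f x))))
      (f.fiberToSpecResidueField (f x)) := MorphismProperty.pullback_snd _ _ ‹_›
  have hiff : ∀ z : f.fiber (f x),
      FieldDim.fdelta (K := Y.residueField (f x)) (f.fiberToSpecResidueField (f x)) z ≤ n ↔
        Residue.trdegAt f (f.fiberι (f x) z) ≤ (n : Cardinal) := by
    intro z
    rw [← FieldDim.trdegAt_fiber,
      FieldDim.trdegAt_eq_fdelta (K := Y.residueField (f x)) (f.fiberToSpecResidueField (f x)),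
      Nat.cast_le]
    have := FieldDim.fdelta_nonneg (K := Y.residueField (f x)) (f.fiberToSpecResidueField (f x)) z
    omega
  refine (localDim_le_iff (K := Y.residueField (f x)) (f.fiberToSpecResidueField (f x))
    (f.asFiber x) n).trans ⟨fun h ξ hξ hs => ?_, fun h z hz => ?_⟩
  · obtain ⟨z, rfl⟩ := FieldDim.exists_fiberι_eq f ξ (f x) hξ
    refine (hiff z).mp (h z ?_)
    rw [FieldDim.fiber_specializes_iff, f.fiberι_asFiber]
    exact hs
  · refine (hiff z).mpr (h _ (FieldDim.apply_fiberι f _ z) ?_)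
    rw [FieldDim.fiber_specializes_iff, f.fiberι_asFiber] at hz
    exact hz

theorem trdegAt_le_of_fibreDimAt_le (f : X ⟶ Y) [LocallyOfFiniteType f] (x : X) (n : ℕ)
    (h : FlatMor.fibreDimAt f x ≤ (n : WithBot ℕ∞)) : Residue.trdegAt f x ≤ (n : Cardinal) :=
  (fibreDimAt_le_iff f x n).mp h x rfl specializes_rfl

end Groth.Agent.Lib.Cyc.LocalDim
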