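import Groth.Agent.Lib.Regular.Descent
import Mathlib.RingTheory.RegularLocalRing.Polynomial
import Mathlib.RingTheory.Unramified.LocalRing
import Mathlib.RingTheory.RingHom.StandardSmooth
import Mathlib.AlgebraicGeometry.Morphisms.Smooth

/-!
Smooth over a field implies regular.
-/

universe u

open AlgebraicGeometry CategoryTheory IsLocalRing

namespace Groth.Agent.Lib.Cyc.SmoothReg

theorem isRegularLocalRing_of_etale {P A : Type u} [CommRing P] [IsRegularRing P] [CommRing A]
    [Algebra P A] [Algebra.Etale P A] (p : Ideal A) [p.IsPrime] :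
    IsRegularLocalRing (Localization.AtPrime p) := by
  have : IsNoetherianRing A := Algebra.FiniteType.isNoetherianRing P A
  let q := p.comap (algebraMap P A)
  letI : Algebra (Localization.AtPrime q) (Localization.AtPrime p) :=
    (Localization.localRingHom q p (algebraMap P A) rfl).toAlgebra
  have : IsScalarTower P (Localization.AtPrime q) (Localization.AtPrime p) :=
    IsScalarTower.of_algebraMap_eq fun x => by
      rw [RingHom.algebraMap_toAlgebra]
      exact (Localization.localRingHom_to_map q p (algebraMap P A) rfl x).symm
  have : IsLocalHom (algebraMap (Localization.AtPrime q) (Localization.AtPrime p)) := by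
    rw [RingHom.algebraMap_toAlgebra]; infer_instance
  have : Module.Flat P (Localization.AtPrime p) :=
    Module.Flat.trans P A (Localization.AtPrime p)
  have : Module.Flat (Localization.AtPrime q) (Localization.AtPrime p) := by
    rwa [Module.flat_iff_of_isLocalization (Localization.AtPrime q) q.primeCompl]
  have : Algebra.FormallyUnramified P (Localization.AtPrime p) :=
    have := Algebra.FormallyUnramified.of_isLocalization (Rₘ := Localization.AtPrime p) p.primeCompl
    Algebra.FormallyUnramified.comp P A (Localization.AtPrime p)
  have : Algebra.FormallyUnramified (Localization.AtPrime q) (Localization.AtPrime p) :=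
    Algebra.FormallyUnramified.of_restrictScalars P _ _
  have : Algebra.EssFiniteType P (Localization.AtPrime p) :=
    have := Algebra.EssFiniteType.of_isLocalization (S := Localization.AtPrime p) p.primeCompl
    Algebra.EssFiniteType.comp P A (Localization.AtPrime p)
  have : Algebra.EssFiniteType (Localization.AtPrime q) (Localization.AtPrime p) :=
    Algebra.EssFiniteType.of_comp P _ _
  have hm := Algebra.FormallyUnramified.map_maximalIdeal (R := Localization.AtPrime q)
    (S := Localization.AtPrime p)
  exact (Regular.Descent.isRegularLocalRing_iff (Localization.AtPrime p) hm).mp inferInstance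

theorem isRegularRing_of_isStandardSmooth {k A : Type u} [Field k] [CommRing A] (φ : k →+* A)
    (h : φ.IsStandardSmooth) : IsRegularRing A := by
  obtain ⟨n, g, -, hg⟩ := h.exists_etale_mvPolynomial
  algebraize [g]
  have : IsNoetherianRing A := Algebra.FiniteType.isNoetherianRing (MvPolynomial (Fin n) k) A
  exact (isRegularRing_iff).mpr fun p hp => isRegularLocalRing_of_etale (P := MvPolynomial (Fin n) k) p

theorem isRegularLocalRing_stalk {X : Scheme.{u}} {k : Type u} [Field k]
    (f : X ⟶ Spec (CommRingCat.of k)) [Smooth f] (x : X) :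
    IsRegularLocalRing (X.presheaf.stalk x) := by
  obtain ⟨U, hU, V, hV, hxV, e, hs⟩ := Smooth.exists_isStandardSmooth f x
  have hUtop : U = ⊤ := by
    ext y
    simp only [TopologicalSpace.Opens.coe_top, Set.mem_univ, iff_true]
    exact Subsingleton.elim (f x) y ▸ e hxV
  subst hUtop
  let ι := (Scheme.ΓSpecIso (CommRingCat.of k)).inv.hom
  have hb : Function.Bijective ι :=
    ConcreteCategory.bijective_of_isIso (Scheme.ΓSpecIso (CommRingCat.of k)).inv
  have : IsRegularRing Γ(X, V) := isRegularRing_of_isStandardSmooth ((f.appLE ⊤ V e).hom.comp ι)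
    (RingHom.isStandardSmooth_respectsIso.2 _ (RingEquiv.ofBijective ι hb) hs)
  letI : Algebra Γ(X, V) (X.presheaf.stalk x) := X.presheaf.algebra_section_stalk ⟨x, hxV⟩
  have : IsLocalization.AtPrime (X.presheaf.stalk x) (hV.primeIdealOf ⟨x, hxV⟩).asIdeal :=
    hV.isLocalization_stalk ⟨x, hxV⟩
  exact IsRegularLocalRing.of_ringEquiv (IsLocalization.algEquiv (hV.primeIdealOf ⟨x, hxV⟩).asIdeal.primeCompl
    (Localization.AtPrime (hV.primeIdealOf ⟨x, hxV⟩).asIdeal) (X.presheaf.stalk x)).toRingEquiv

end Groth.Agent.Lib.Cyc.SmoothReg
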