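import Groth.Agent.H25.TorLES
import Groth.Agent.H22.GlobalDim
import Mathlib.RingTheory.Spectrum.Prime.Topology
import Mathlib.Topology.KrullDimension
import Mathlib.AlgebraicGeometry.Stalk

/-!
Tor vanishes above the projective dimension; dimension of stalks.
-/

universe u

open CategoryTheory CategoryTheory.Limits AlgebraicGeometry

namespace Groth.Agent.Lib.Cyc.TorPD

variable {A : Type u} [CommRing A]

theorem isZero_tor (M : ModuleCat.{u} A) : ∀ (d : ℕ) (N : ModuleCat.{u} A),
    HasProjectiveDimensionLT N (d + 1) → ∀ p, d < p → IsZero ((H25.TorLES.T M p).obj N) := by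
  intro d
  induction d with
  | zero =>
    intro N h p hp
    have : Projective N := projective_iff_hasProjectiveDimensionLT_one.mpr h
    have := Lib.Tor.Balance.flat_of_projective N
    obtain ⟨q, rfl⟩ : ∃ q, p = q + 1 := ⟨p - 1, by omega⟩
    exact Lib.Tor.Balance.isZero_tor_succ_of_flat_right M N q
  | succ d ih =>
    intro N h p hp
    obtain ⟨q, rfl⟩ : ∃ q, p = q + 1 := ⟨p - 1, by omega⟩
    let π := Projective.π N
    let S : ShortComplex (ModuleCat.{u} A) := ShortComplex.mk (kernel.ι π) π (kernel.condition π)
    have hS : S.ShortExact :=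
      { exact := ShortComplex.exact_of_f_is_kernel _ (kernelIsKernel π) }
    have hP : Projective S.X₂ := inferInstanceAs (Projective (Projective.over N))
    refine H25.TorLES.isZero_right hS q ?_ (ih _ ?_ q (by omega))
    · have := Lib.Tor.Balance.flat_of_projective S.X₂
      exact Lib.Tor.Balance.isZero_tor_succ_of_flat_right M _ q
    · exact (hS.hasProjectiveDimensionLT_X₃_iff d hP).mp h

theorem ringKrullDim_stalk_le {X : Scheme.{u}} (x : X) :
    ringKrullDim (X.presheaf.stalk x) ≤ topologicalKrullDim X := by
  rw [← PrimeSpectrum.topologicalKrullDim_eq_ringKrullDim]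
  exact (X.fromSpecStalk x).isEmbedding.isInducing.topologicalKrullDim_le

end Groth.Agent.Lib.Cyc.TorPD
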