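import Groth.Agent.Lib.Cyc.DimFun
import Mathlib.RingTheory.LocalRing.Length
import Mathlib.RingTheory.TensorProduct.Quotient
import Mathlib.AlgebraicGeometry.Morphisms.Flat
import Mathlib.AlgebraicGeometry.Morphisms.UniversallyOpen
import Mathlib.RingTheory.HopkinsLevitzki

/-!
# The multiplicity `length O_{X,x}/𝔪_{f x}O_{X,x}` used by `Cyc.pullFun`

* it is finite exactly at generic points of components of fibres;
* it is multiplicative along flat compositions.
-/

set_option autoImplicit false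

universe u

namespace Groth.Agent.Lib.Cyc.FibLen

open AlgebraicGeometry CategoryTheory IsLocalRing Groth.Agent.Lib.Cyc.DimFun

variable {X Y Z : Scheme.{u}}

/-- `length O_{X,x}/𝔪_{f x}O_{X,x}`. -/
noncomputable def fibLen (f : X ⟶ Y) (x : X) : ℕ∞ :=
  Module.length (X.presheaf.stalk x) (X.presheaf.stalk x ⧸
    Ideal.map (f.stalkMap x).hom (maximalIdeal (Y.presheaf.stalk (f x))))

theorem pullFun_apply (f : X ⟶ Y) (δX : X → ℤ) (δY : Y → ℤ) (r : ℤ) (α : Y → ℤ) (x : X) :
    Cyc.pullFun f δX δY r α x =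
      if δX x = δY (f x) + r then α (f x) * ((fibLen f x).toNat : ℤ) else 0 := rfl

/-- `x` has no proper generalization in its fibre. -/
def IsMaxFib (f : X ⟶ Y) (x : X) : Prop := ∀ y : X, f y = f x → y ⤳ x → y = x

theorem map_le_iff (f : X ⟶ Y) (x : X) (p : PrimeSpectrum (X.presheaf.stalk x)) :
    Ideal.map (f.stalkMap x).hom (maximalIdeal (Y.presheaf.stalk (f x))) ≤ p.asIdeal ↔
      f (X.fromSpecStalk x p) = f x := by
  have h1 : f (X.fromSpecStalk x p) =
      Y.fromSpecStalk (f x) (PrimeSpectrum.comap (f.stalkMap x).hom p) := by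
    rw [← Scheme.Hom.comp_apply, ← Scheme.SpecMap_stalkMap_fromSpecStalk, Scheme.Hom.comp_apply]
    rfl
  have h2 : f x = Y.fromSpecStalk (f x) (closedPoint (Y.presheaf.stalk (f x))) :=
    Scheme.fromSpecStalk_closedPoint.symm
  rw [Ideal.map_le_iff_le_comap, h1]
  constructor
  · intro h
    have : PrimeSpectrum.comap (f.stalkMap x).hom p = closedPoint _ :=
      PrimeSpectrum.ext (le_antisymm (le_maximalIdeal (p.isPrime.comap _).ne_top) h)
    rw [this, ← h2]
  · intro h
    have := congrArg PrimeSpectrum.asIdeal (fromSpecStalk_injective (f x) (h.trans h2))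
    exact this.ge

theorem fibLen_ne_top_iff [IsLocallyNoetherian X] (f : X ⟶ Y) (x : X) :
    fibLen f x ≠ ⊤ ↔ IsMaxFib f x := by
  set I := Ideal.map (f.stalkMap x).hom (maximalIdeal (Y.presheaf.stalk (f x))) with hI
  have hlen : fibLen f x = Module.length (X.presheaf.stalk x ⧸ I) (X.presheaf.stalk x ⧸ I) :=
    Module.length_eq_of_surjective Ideal.Quotient.mk_surjective
  rw [hlen, Module.length_ne_top_iff, isFiniteLength_iff_isNoetherian_isArtinian]
  have : ∀ p ∈ PrimeSpectrum.zeroLocus (I : Set (X.presheaf.stalk x)),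
      f (X.fromSpecStalk x p) = f x := fun p hp => (map_le_iff f x p).mp hp
  constructor
  · rintro ⟨-, hart⟩ y hfy hy
    have : IsArtinianRing (X.presheaf.stalk x ⧸ I) := hart
    have h0 : Ring.KrullDimLE 0 (X.presheaf.stalk x ⧸ I) :=
      isArtinianRing_iff_krullDimLE_zero.mp this
    have hd : Order.krullDim (PrimeSpectrum.zeroLocus (I : Set (X.presheaf.stalk x))) ≤ 0 := by
      rw [← ringKrullDim_quotient]
      exact Ring.krullDimLE_iff.mp h0
    have hyI : genPrime x y hy ∈ PrimeSpectrum.zeroLocus (I : Set (X.presheaf.stalk x)) :=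
      (map_le_iff f x _).mpr (by rw [fromSpecStalk_genPrime, hfy])
    have hxI : closedPoint _ ∈ PrimeSpectrum.zeroLocus (I : Set (X.presheaf.stalk x)) :=
      (map_le_iff f x _).mpr (by rw [Scheme.fromSpecStalk_closedPoint])
    have h1 : genPrime x y hy ≤ closedPoint _ := le_maximalIdeal (genPrime x y hy).isPrime.ne_top
    have h2 : closedPoint _ ≤ genPrime x y hy :=
      (Order.krullDim_nonpos_iff_forall_isMax.mp hd
        (⟨_, hyI⟩ : PrimeSpectrum.zeroLocus (I : Set (X.presheaf.stalk x))) :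
          IsMax (⟨_, hyI⟩ : PrimeSpectrum.zeroLocus (I : Set (X.presheaf.stalk x))))
        (show (⟨_, hyI⟩ : PrimeSpectrum.zeroLocus (I : Set (X.presheaf.stalk x))) ≤ ⟨_, hxI⟩ from h1)
    rw [← fromSpecStalk_genPrime x y hy, le_antisymm h1 h2, Scheme.fromSpecStalk_closedPoint]
  · intro h
    refine ⟨inferInstance, ?_⟩
    have h0 : Ring.KrullDimLE 0 (X.presheaf.stalk x ⧸ I) := by
      rw [Ring.krullDimLE_iff, ringKrullDim_quotient]
      refine Order.krullDim_nonpos_iff_forall_isMax.mpr fun p q _ => ?_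
      refine (fromSpecStalk_specializes_iff x _ _).mp (specializes_of_eq ?_)
      rw [h _ (this _ q.2) (fromSpecStalk_specializes_self x _),
        h _ (this _ p.2) (fromSpecStalk_specializes_self x _)]
    exact isArtinianRing_iff_krullDimLE_zero.mpr h0

theorem toNat_fibLen_eq_zero [IsLocallyNoetherian X] (f : X ⟶ Y) (x : X) (h : ¬ IsMaxFib f x) :
    (fibLen f x).toNat = 0 := by
  have : fibLen f x = ⊤ := by
    by_contra hc
    exact h ((fibLen_ne_top_iff f x).mp hc)
  rw [this]
  rfl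

theorem toNat_fibLen_pos [IsLocallyNoetherian X] (f : X ⟶ Y) (x : X) (h : IsMaxFib f x) :
    0 < (fibLen f x).toNat := by
  obtain ⟨n, hn⟩ := ENat.ne_top_iff_exists.mp ((fibLen_ne_top_iff f x).mpr h)
  have hpos : 0 < fibLen f x := by
    refine Module.length_pos_iff.mpr (Ideal.Quotient.nontrivial_iff.mpr fun htop => ?_)
    have := (map_le_iff f x (closedPoint _)).mpr (by rw [Scheme.fromSpecStalk_closedPoint])
    exact (closedPoint (X.presheaf.stalk x)).isPrime.ne_top (top_le_iff.mp (htop ▸ this))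
  rw [← hn] at hpos ⊢
  exact_mod_cast hpos

theorem fibLen_comp (f : X ⟶ Y) [Flat f] (g : Y ⟶ Z) (x : X) :
    fibLen (f ≫ g) x = fibLen g (f x) * fibLen f x := by
  let := (f.stalkMap x).hom.toAlgebra
  have : IsLocalHom (algebraMap (Y.presheaf.stalk (f x)) (X.presheaf.stalk x)) :=
    inferInstanceAs (IsLocalHom (f.stalkMap x).hom)
  have : Module.Flat (Y.presheaf.stalk (f x)) (X.presheaf.stalk x) := Flat.stalkMap f x
  have h := IsLocalRing.length_baseChange (Y.presheaf.stalk (f x)) (X.presheaf.stalk x)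
    (Y.presheaf.stalk (f x) ⧸
      Ideal.map (g.stalkMap (f x)).hom (maximalIdeal (Z.presheaf.stalk (g (f x)))))
  rw [← (Algebra.TensorProduct.quotIdealMapEquivTensorQuot (X.presheaf.stalk x)
    (Ideal.map (g.stalkMap (f x)).hom
      (maximalIdeal (Z.presheaf.stalk (g (f x)))))).toLinearEquiv.length_eq] at h
  have e : Ideal.map ((f ≫ g).stalkMap x).hom (maximalIdeal (Z.presheaf.stalk (g (f x)))) =
      Ideal.map (algebraMap (Y.presheaf.stalk (f x)) (X.presheaf.stalk x))
        (Ideal.map (g.stalkMap (f x)).hom (maximalIdeal (Z.presheaf.stalk (g (f x))))) := by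
    rw [Ideal.map_map, Scheme.Hom.stalkMap_comp]
    rfl
  unfold fibLen
  rw [show maximalIdeal (Z.presheaf.stalk ((f ≫ g) x)) =
    maximalIdeal (Z.presheaf.stalk (g (f x))) from rfl]
  erw [e]
  exact h

/-- Along a flat map a generic point of a fibre of the composite is one of each step. -/
theorem isMaxFib_of_comp (f : X ⟶ Y) [Flat f] (g : Y ⟶ Z) (x : X) (h : IsMaxFib (f ≫ g) x) :
    IsMaxFib f x ∧ IsMaxFib g (f x) := by
  refine ⟨fun y hy hyx => h y (by simp only [Scheme.Hom.comp_apply, hy]) hyx, fun y' hy' hyx => ?_⟩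
  obtain ⟨y, hy, rfl⟩ := Flat.generalizingMap f hyx
  rw [h y (by simpa only [Scheme.Hom.comp_apply] using hy') hy]

/-- Pullback of cycles is functorial for flat maps as soon as the dimension shifts hold at generic
points of fibres. -/
theorem pullFun_comp [IsLocallyNoetherian X] (f : X ⟶ Y) [Flat f]
    (g : Y ⟶ Z) (δX : X → ℤ) (δY : Y → ℤ) (δZ : Z → ℤ) (r s : ℤ)
    (hf : ∀ x, IsMaxFib f x → δX x = δY (f x) + r)
    (hg : ∀ y, IsMaxFib g y → δY y = δZ (g y) + s) (α : Z → ℤ) :
    Cyc.pullFun f δX δY r (Cyc.pullFun g δY δZ s α) =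
      Cyc.pullFun (f ≫ g) δX δZ (r + s) α := by
  funext x
  simp only [pullFun_apply]
  have hmul : ((fibLen (f ≫ g) x).toNat : ℤ) =
      ((fibLen g (f x)).toNat : ℤ) * ((fibLen f x).toNat : ℤ) := by
    rw [fibLen_comp, ENat.toNat_mul, Nat.cast_mul]
  by_cases h : IsMaxFib (f ≫ g) x
  · have h' := isMaxFib_of_comp f g x h
    have e1 := hf x h'.1
    have e2 := hg (f x) h'.2
    rw [if_pos e1, if_pos e2, if_pos (show δX x = δZ ((f ≫ g) x) + (r + s) by
      simp only [Scheme.Hom.comp_apply]; omega), hmul, Scheme.Hom.comp_apply, mul_assoc]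
  · rw [toNat_fibLen_eq_zero (f ≫ g) x h, Nat.cast_zero] at hmul
    rw [toNat_fibLen_eq_zero (f ≫ g) x h, Nat.cast_zero, mul_zero, ite_self]
    split_ifs with a b
    · rw [mul_assoc, ← hmul, mul_zero]
    · rw [zero_mul]
    · rfl

/-- The dimension shift of a composite at generic points of its fibres. -/
theorem shift_comp (f : X ⟶ Y) [Flat f] (g : Y ⟶ Z) (δX : X → ℤ) (δY : Y → ℤ) (δZ : Z → ℤ)
    (r s : ℤ) (hf : ∀ x, IsMaxFib f x → δX x = δY (f x) + r)
    (hg : ∀ y, IsMaxFib g y → δY y = δZ (g y) + s) (x : X) (h : IsMaxFib (f ≫ g) x) :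
    δX x = δZ ((f ≫ g) x) + (r + s) := by
  have e1 := hf x (isMaxFib_of_comp f g x h).1
  have e2 := hg (f x) (isMaxFib_of_comp f g x h).2
  simp only [Scheme.Hom.comp_apply]
  omega

end Groth.Agent.Lib.Cyc.FibLen
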