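import Groth.Agent.Lib.Cyc.DimFun
import Mathlib.AlgebraicGeometry.Morphisms.FiniteType
import Mathlib.FieldTheory.IntermediateField.Adjoin.Algebra
import Mathlib.RingTheory.AlgebraicIndependent.Transcendental
import Mathlib.RingTheory.RingHom.EssFiniteType
import Mathlib.LinearAlgebra.Dimension.Free

/-!
# `Cyc.DeltaCompat` and residue field extensions
-/

set_option autoImplicit false

universe u

namespace Groth.Agent.Lib.Cyc.Residue

open AlgebraicGeometry CategoryTheory IsLocalRing

variable {X Y Z : Scheme.{u}} {f : X ⟶ Y} {g : Y ⟶ Z} {δX : X → ℤ} {δY : Y → ℤ} {δZ : Z → ℤ}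

/-- `trdeg_{κ(f x)} κ(x)`. -/
noncomputable def trdegAt (f : X ⟶ Y) (x : X) : Cardinal.{u} :=
  letI := (f.residueFieldMap x).hom.toAlgebra
  Algebra.trdeg (Y.residueField (f x)) (X.residueField x)

theorem exists_trdegAt (h : Cyc.DeltaCompat f δX δY) (x : X) :
    ∃ n : ℕ, trdegAt f x = n ∧ δX x = δY (f x) + n := h x

theorem deltaY_le (h : Cyc.DeltaCompat f δX δY) (x : X) : δY (f x) ≤ δX x := by
  obtain ⟨n, -, hn⟩ := h x
  omega

theorem trdegAt_eq_zero_iff_eq (h : Cyc.DeltaCompat f δX δY) (x : X) :
    trdegAt f x = 0 ↔ δX x = δY (f x) := by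
  obtain ⟨n, hn, hn'⟩ := exists_trdegAt h x
  rw [hn, Nat.cast_eq_zero]
  omega

theorem residueFieldMap_essFiniteType [LocallyOfFiniteType f] (x : X) :
    (f.residueFieldMap x).hom.EssFiniteType :=
  RingHom.EssFiniteType.residueFieldMap (LocallyOfFiniteType.stalkMap f x)

theorem residueFieldMap_finite_of_trdeg_eq_zero [LocallyOfFiniteType f] (x : X)
    (h : trdegAt f x = 0) : (f.residueFieldMap x).hom.Finite := by
  let := (f.residueFieldMap x).hom.toAlgebra
  have : Algebra.EssFiniteType (Y.residueField (f x)) (X.residueField x) :=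
    residueFieldMap_essFiniteType x
  have : Algebra.IsAlgebraic (Y.residueField (f x)) (X.residueField x) :=
    trdeg_eq_zero_iff.mp h
  exact Algebra.finite_of_essFiniteType_of_isAlgebraic

theorem trdegAt_eq_zero_of_finite (x : X) (h : (f.residueFieldMap x).hom.Finite) :
    trdegAt f x = 0 := by
  let := (f.residueFieldMap x).hom.toAlgebra
  have : Module.Finite (Y.residueField (f x)) (X.residueField x) := h
  exact trdeg_eq_zero_iff.mpr (Algebra.IsAlgebraic.of_finite _ _)

theorem residueDegree_pos_of_finite (x : X) (h : (f.residueFieldMap x).hom.Finite) :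
    0 < f.residueDegree x := by
  let := (f.residueFieldMap x).hom.toAlgebra
  have : Module.Finite (Y.residueField (f x)) (X.residueField x) := h
  exact Module.finrank_pos

theorem residueDegree_pos_of_eq [LocallyOfFiniteType f] (h : Cyc.DeltaCompat f δX δY) (x : X)
    (heq : δX x = δY (f x)) : 0 < f.residueDegree x :=
  residueDegree_pos_of_finite x
    (residueFieldMap_finite_of_trdeg_eq_zero x ((trdegAt_eq_zero_iff_eq h x).mpr heq))

theorem residueDegree_eq_one_of_surjective (x : X)
    (h : Function.Surjective (f.residueFieldMap x).hom) : f.residueDegree x = 1 := by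
  let := (f.residueFieldMap x).hom.toAlgebra
  rw [Scheme.Hom.residueDegree, ← (AlgEquiv.ofBijective
    (Algebra.ofId (Y.residueField (f x)) (X.residueField x))
    ⟨RingHom.injective _, h⟩).toLinearEquiv.finrank_eq, Module.finrank_self]

theorem residueFieldMap_finite_of_surjective (x : X)
    (h : Function.Surjective (f.residueFieldMap x).hom) : (f.residueFieldMap x).hom.Finite :=
  RingHom.Finite.of_surjective _ h

theorem trdegAt_comp (f : X ⟶ Y) (g : Y ⟶ Z) (x : X) :
    trdegAt (f ≫ g) x = trdegAt g (f x) + trdegAt f x := by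
  let := (f.residueFieldMap x).hom.toAlgebra
  let := (g.residueFieldMap (f x)).hom.toAlgebra
  let : Algebra (Z.residueField (g (f x))) (X.residueField x) :=
    ((f ≫ g).residueFieldMap x).hom.toAlgebra
  have : IsScalarTower (Z.residueField (g (f x))) (Y.residueField (f x)) (X.residueField x) :=
    IsScalarTower.of_algebraMap_eq' (congrArg CommRingCat.Hom.hom
      (Scheme.residueFieldMap_comp f g x))
  exact (trdeg_add_eq (Z.residueField (g (f x))) (Y.residueField (f x))).symm

theorem residueDegree_comp (f : X ⟶ Y) (g : Y ⟶ Z) (x : X) :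
    (f ≫ g).residueDegree x = g.residueDegree (f x) * f.residueDegree x := by
  let := (f.residueFieldMap x).hom.toAlgebra
  let := (g.residueFieldMap (f x)).hom.toAlgebra
  let : Algebra (Z.residueField (g (f x))) (X.residueField x) :=
    ((f ≫ g).residueFieldMap x).hom.toAlgebra
  have : IsScalarTower (Z.residueField (g (f x))) (Y.residueField (f x)) (X.residueField x) :=
    IsScalarTower.of_algebraMap_eq' (congrArg CommRingCat.Hom.hom
      (Scheme.residueFieldMap_comp f g x))
  exact (Module.finrank_mul_finrank (Z.residueField (g (f x))) (Y.residueField (f x))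
    (X.residueField x)).symm

theorem deltaCompat_comp (hf : Cyc.DeltaCompat f δX δY) (hg : Cyc.DeltaCompat g δY δZ) :
    Cyc.DeltaCompat (f ≫ g) δX δZ := by
  intro x
  obtain ⟨m, hm, hm'⟩ := exists_trdegAt hf x
  obtain ⟨n, hn, hn'⟩ := exists_trdegAt hg (f x)
  refine ⟨n + m, ?_, ?_⟩
  · show trdegAt (f ≫ g) x = _
    rw [trdegAt_comp, hm, hn]
    push_cast
    rfl
  · rw [Scheme.Hom.comp_apply]
    omega

theorem deltaCompat_id (δ : X → ℤ) : Cyc.DeltaCompat (𝟙 X) δ δ := by
  intro x
  refine ⟨0, ?_, by simp⟩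
  show trdegAt (𝟙 X) x = _
  rw [Nat.cast_zero]
  refine trdegAt_eq_zero_of_finite x (residueFieldMap_finite_of_surjective x ?_)
  rw [Scheme.residueFieldMap_id]
  exact Function.surjective_id

theorem mapCoeff_comp (hf : Cyc.DeltaCompat f δX δY) (hg : Cyc.DeltaCompat g δY δZ) (x : X) :
    AlgebraicCycle.mapCoeff (f ≫ g) δX δZ x =
      AlgebraicCycle.mapCoeff f δX δY x * AlgebraicCycle.mapCoeff g δY δZ (f x) := by
  have h1 := deltaY_le hf x
  have h2 := deltaY_le hg (f x)
  simp only [AlgebraicCycle.mapCoeff]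
  change (if δX x = δZ (g (f x)) then _ else _) = _
  split_ifs with a b c
  all_goals first
    | omega
    | (exfalso; omega)
    | rw [residueDegree_comp, mul_comm]
    | simp

end Groth.Agent.Lib.Cyc.Residue
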