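import Groth.Agent.Lib.Cyc.Ord
import Groth.Agent.Lib.Cyc.Residue
import Groth.Agent.Lib.Cyc.FibLen
import Groth.Agent.Lib.Dim.Basic
import Mathlib.AlgebraicGeometry.Fiber
import Mathlib.AlgebraicGeometry.Morphisms.FiniteType
import Mathlib.Topology.JacobsonSpace

/-!
# `x ↦ trdeg κ(x)` on schemes locally of finite type over a field, and fibres

* it is a dimension function, vanishing at closed points, and computes `dim (closure {x})`;
* `Cyc.HasRelDim f r` iff `trdeg_{κ(f x)} κ(x) = r` at every generic point of a component of a fibre;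
* hence `δX x = δY (f x) + r` at those points for compatible dimension functions.
-/

set_option autoImplicit false

universe u

namespace Groth.Agent.Lib.Cyc.FieldDim

open AlgebraicGeometry CategoryTheory IsLocalRing

variable {X Y : Scheme.{u}}

theorem primeIdealOf_le_iff {U : X.Opens} (hU : IsAffineOpen U) {x y : X} (hx : x ∈ U)
    (hy : y ∈ U) : hU.primeIdealOf ⟨y, hy⟩ ≤ hU.primeIdealOf ⟨x, hx⟩ ↔ y ⤳ x := by
  rw [PrimeSpectrum.le_iff_specializes]
  refine (hU.fromSpec.isEmbedding.toIsInducing.specializes_iff).symm.trans ?_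
  erw [hU.fromSpec_primeIdealOf ⟨x, hx⟩, hU.fromSpec_primeIdealOf ⟨y, hy⟩]

theorem mem_primeIdealOf_iff {U : X.Opens} (hU : IsAffineOpen U) {x : X} (hx : x ∈ U)
    (a : Γ(X, U)) : a ∈ (hU.primeIdealOf ⟨x, hx⟩).asIdeal ↔ X.evaluation U x hx a = 0 := by
  rw [Scheme.evaluation_eq_zero_iff_notMem_basicOpen]
  have h1 : (hU.primeIdealOf ⟨x, hx⟩ : PrimeSpectrum Γ(X, U)) ∈ hU.fromSpec ⁻¹ᵁ X.basicOpen a ↔
      x ∈ X.basicOpen a := by
    show hU.fromSpec (hU.primeIdealOf ⟨x, hx⟩) ∈ X.basicOpen a ↔ _
    rw [hU.fromSpec_primeIdealOf ⟨x, hx⟩]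
  rw [hU.fromSpec_preimage_basicOpen] at h1
  rw [← h1]
  exact (not_not).symm

section Field

variable {K : Type u} [Field K] (f : X ⟶ Spec (CommRingCat.of K))

/-- The structure map of functions on `U`. -/
noncomputable def structHom (U : X.Opens) : K →+* Γ(X, U) :=
  ((Scheme.ΓSpecIso (CommRingCat.of K)).inv ≫ f.appLE ⊤ U (by simp)).hom

theorem structHom_finiteType [LocallyOfFiniteType f] {U : X.Opens} (hU : IsAffineOpen U) :
    (structHom f U).FiniteType := by
  have h := HasRingHomProperty.appLE @LocallyOfFiniteType f ‹_›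
    ⟨⊤, isAffineOpen_top _⟩ ⟨U, hU⟩ (by simp)
  exact RingHom.finiteType_respectsIso.2 (f.appLE ⊤ U (by simp)).hom
    ((Scheme.ΓSpecIso (CommRingCat.of K)).commRingCatIsoToRingEquiv.symm) h

/-- `trdeg_{κ(f x)} κ(x)` is computed by `dim Γ(X,U)/𝔭_x`. -/
theorem trdegAt_eq_dimQ [LocallyOfFiniteType f] {U : X.Opens} (hU : IsAffineOpen U) {x : X}
    (hx : x ∈ U) :
    letI := (structHom f U).toAlgebra
    Residue.trdegAt f x = (Dim.Basic.dimQ K (hU.primeIdealOf ⟨x, hx⟩).asIdeal : Cardinal) := by
  let := (structHom f U).toAlgebra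
  have hft : Algebra.FiniteType K Γ(X, U) := structHom_finiteType f hU
  set p := (hU.primeIdealOf ⟨x, hx⟩).asIdeal with hp
  have hpp : p.IsPrime := (hU.primeIdealOf ⟨x, hx⟩).isPrime
  let ev : Γ(X, U) →+* X.residueField x := (X.evaluation U x hx).hom
  let qev : (Γ(X, U) ⧸ p) →+* X.residueField x :=
    Ideal.Quotient.lift p ev fun a ha => (mem_primeIdealOf_iff hU hx a).mp ha
  let := qev.toAlgebra
  let := (ev.comp (structHom f U)).toAlgebra
  have : IsScalarTower K (Γ(X, U) ⧸ p) (X.residueField x) := IsScalarTower.of_algebraMap_eq fun c =>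
    show ev (structHom f U c) = qev (Ideal.Quotient.mk p (structHom f U c)) from rfl
  have hinj : Function.Injective qev := by
    rw [injective_iff_map_eq_zero]
    intro a ha
    obtain ⟨a, rfl⟩ := Ideal.Quotient.mk_surjective a
    exact Ideal.Quotient.eq_zero_iff_mem.mpr ((mem_primeIdealOf_iff hU hx a).mpr ha)
  have : FaithfulSMul (Γ(X, U) ⧸ p) (X.residueField x) :=
    (faithfulSMul_iff_algebraMap_injective _ _).mpr hinj
  have : IsFractionRing (Γ(X, U) ⧸ p) (X.residueField x) :=
    { map_units := fun b => isUnit_iff_ne_zero.mpr ((map_ne_zero_iff _ hinj).mpr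
        (nonZeroDivisors.coe_ne_zero b))
      surj := fun g => by
        obtain ⟨a, b, hb, hab⟩ := Ord.exists_section_fraction U hU x hx g
        exact ⟨⟨Ideal.Quotient.mk p a, ⟨Ideal.Quotient.mk p b, mem_nonZeroDivisors_of_ne_zero
          fun h0 => hb ((congrArg qev h0).trans qev.map_zero)⟩⟩, hab⟩
      exists_of_eq := fun {a b} hab => ⟨1, by simp [hinj hab]⟩ }
  have : Algebra.IsAlgebraic (Γ(X, U) ⧸ p) (X.residueField x) :=
    IsLocalization.isAlgebraic _ (nonZeroDivisors (Γ(X, U) ⧸ p))
  have h1 : Algebra.trdeg K (X.residueField x) = (Dim.Basic.dimQ K p : Cardinal) := by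
    have h := trdeg_add_eq K (Γ(X, U) ⧸ p) (A := X.residueField x)
    rw [trdeg_eq_zero (R := Γ(X, U) ⧸ p), add_zero, Dim.Basic.trdeg_quotient] at h
    exact h.symm
  let ψ : K →+* (Spec (CommRingCat.of K)).residueField (f x) :=
    ((Scheme.ΓSpecIso (CommRingCat.of K)).inv ≫
      (Spec (CommRingCat.of K)).evaluation ⊤ (f x) trivial).hom
  let := ψ.toAlgebra
  let := (f.residueFieldMap x).hom.toAlgebra
  have e : f.appLE ⊤ U (by simp) ≫ X.evaluation U x hx =
      (Spec (CommRingCat.of K)).evaluation ⊤ (f x) trivial ≫ f.residueFieldMap x := by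
    rw [Scheme.evaluation_naturality, Scheme.Hom.appLE, Category.assoc]
    congr 1
    exact (TopCat.Presheaf.germ_res_assoc X.presheaf _ _ _ _)
  have : IsScalarTower K ((Spec (CommRingCat.of K)).residueField (f x)) (X.residueField x) :=
    IsScalarTower.of_algebraMap_eq' (congrArg CommRingCat.Hom.hom
      (by rw [Category.assoc, Category.assoc, e] :
        ((Scheme.ΓSpecIso (CommRingCat.of K)).inv ≫ f.appLE ⊤ U (by simp)) ≫ X.evaluation U x hx =
        ((Scheme.ΓSpecIso (CommRingCat.of K)).inv ≫
          (Spec (CommRingCat.of K)).evaluation ⊤ (f x) trivial) ≫ f.residueFieldMap x))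
  have hψ : Function.Surjective ψ := by
    intro g
    obtain ⟨a, b, hb, hab⟩ := Ord.exists_section_fraction ⊤ (isAffineOpen_top _) (f x) trivial g
    let e := (Scheme.ΓSpecIso (CommRingCat.of K)).commRingCatIsoToRingEquiv
    have he : ∀ c, ψ (e c) = (Spec (CommRingCat.of K)).evaluation ⊤ (f x) trivial c := fun c =>
      congrArg ((Spec (CommRingCat.of K)).evaluation ⊤ (f x) trivial) (e.symm_apply_apply c)
    refine ⟨e a / e b, ?_⟩
    rw [map_div₀, he, he, ← hab, mul_div_assoc, div_self hb, mul_one]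
  have : Algebra.IsAlgebraic K ((Spec (CommRingCat.of K)).residueField (f x)) := by
    have : Module.Finite K ((Spec (CommRingCat.of K)).residueField (f x)) :=
      RingHom.Finite.of_surjective ψ hψ
    exact Algebra.IsAlgebraic.of_finite _ _
  have h2 := trdeg_add_eq K ((Spec (CommRingCat.of K)).residueField (f x)) (A := X.residueField x)
  rw [trdeg_eq_zero (R := K), zero_add, h1] at h2
  exact h2

/-- `trdeg_K κ(x)` as an integer. -/
noncomputable def fdelta (x : X) : ℤ := (Residue.trdegAt f x).toNat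

theorem fdelta_nonneg (x : X) : 0 ≤ fdelta f x := Int.natCast_nonneg _

theorem trdegAt_eq_fdelta [LocallyOfFiniteType f] (x : X) :
    Residue.trdegAt f x = ((fdelta f x).toNat : Cardinal) := by
  obtain ⟨_, ⟨U, hU, rfl⟩, hxU, -⟩ :=
    X.isBasis_affineOpens.exists_subset_of_mem_open (Set.mem_univ x) isOpen_univ
  simp [fdelta, trdegAt_eq_dimQ f hU hxU]

theorem isDimFun_fdelta [LocallyOfFiniteType f] : Cyc.IsDimFun X (fdelta f) := by
  intro y x hyx hne
  obtain ⟨_, ⟨U, hU, rfl⟩, hxU, -⟩ :=
    X.isBasis_affineOpens.exists_subset_of_mem_open (Set.mem_univ x) isOpen_univ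
  let := (structHom f U).toAlgebra
  have hft : Algebra.FiniteType K Γ(X, U) := structHom_finiteType f hU
  have hyU : y ∈ U := hyx.mem_open U.2 hxU
  have hval : ∀ z (hz : z ∈ U), fdelta f z =
      (Dim.Basic.dimQ K (hU.primeIdealOf ⟨z, hz⟩).asIdeal : ℤ) := fun z hz => by
    simp [fdelta, trdegAt_eq_dimQ f hU hz]
  have hinj : hU.primeIdealOf ⟨y, hyU⟩ ≠ hU.primeIdealOf ⟨x, hxU⟩ := fun h => hne (by
    have := congrArg hU.fromSpec h
    rwa [hU.fromSpec_primeIdealOf, hU.fromSpec_primeIdealOf] at this)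
  have hlt : hU.primeIdealOf ⟨y, hyU⟩ < hU.primeIdealOf ⟨x, hxU⟩ :=
    lt_of_le_of_ne ((primeIdealOf_le_iff hU hxU hyU).mpr hyx) hinj
  rw [hval y hyU, hval x hxU]
  refine ⟨by exact_mod_cast Dim.Basic.dimQ_lt_of_lt K hlt, fun himm => ?_⟩
  have hcov : hU.primeIdealOf ⟨y, hyU⟩ ⋖ hU.primeIdealOf ⟨x, hxU⟩ := by
    refine ⟨hlt, fun q hq1 hq2 => ?_⟩
    have hqU : hU.fromSpec q ∈ U := by
      have : hU.fromSpec q ∈ Set.range hU.fromSpec := ⟨q, rfl⟩
      rwa [hU.range_fromSpec] at this
    have hq : hU.primeIdealOf ⟨hU.fromSpec q, hqU⟩ = q :=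
      hU.fromSpec.isEmbedding.injective (hU.fromSpec_primeIdealOf ⟨_, hqU⟩)
    rcases himm _ ((primeIdealOf_le_iff hU hqU hyU).mp (hq1.le.trans_eq hq.symm))
      ((primeIdealOf_le_iff hU hxU hqU).mp (hq.le.trans hq2.le)) with h | h
    · exact hq1.ne (by rw [← hq]; exact congrArg hU.primeIdealOf (Subtype.ext h.symm))
    · exact hq2.ne (by rw [← hq]; exact congrArg hU.primeIdealOf (Subtype.ext h))
  have := Dim.Basic.dimQ_add_one_of_covBy K hcov
  omega

theorem fdelta_of_isClosed [LocallyOfFiniteType f] (x : X) (hx : IsClosed ({x} : Set X)) :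
    fdelta f x = 0 := by
  obtain ⟨_, ⟨U, hU, rfl⟩, hxU, -⟩ :=
    X.isBasis_affineOpens.exists_subset_of_mem_open (Set.mem_univ x) isOpen_univ
  let := (structHom f U).toAlgebra
  have hft : Algebra.FiniteType K Γ(X, U) := structHom_finiteType f hU
  have hmax : (hU.primeIdealOf ⟨x, hxU⟩).asIdeal.IsMaximal := by
    rw [← PrimeSpectrum.isClosed_singleton_iff_isMaximal]
    have heq : ({hU.primeIdealOf ⟨x, hxU⟩} : Set (Spec Γ(X, U))) = ⇑hU.fromSpec ⁻¹' {x} :=
      Set.ext fun q => ⟨fun h => (congrArg hU.fromSpec h).trans (hU.fromSpec_primeIdealOf _),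
        fun h => hU.fromSpec.isEmbedding.injective
          ((show hU.fromSpec q = x from h).trans (hU.fromSpec_primeIdealOf ⟨x, hxU⟩).symm)⟩
    have h := hx.preimage hU.fromSpec.continuous
    rw [← heq] at h
    exact h
  simp [fdelta, trdegAt_eq_dimQ f hU hxU, Dim.Basic.dimQ_eq_zero_of_isMaximal K]

/-- The dimension of the closure of a point is the transcendence degree of its residue field. -/
theorem topologicalKrullDim_closure [LocallyOfFiniteType f] (ξ : X) :
    topologicalKrullDim (closure ({ξ} : Set X)) = ((fdelta f ξ).toNat : WithBot ℕ∞) := by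
  have hδ := isDimFun_fdelta f
  have : JacobsonSpace X := LocallyOfFiniteType.jacobsonSpace f
  obtain ⟨z, hz, hzc⟩ := nonempty_inter_closedPoints
    (Z := closure ({ξ} : Set X)) ⟨ξ, subset_closure rfl⟩ isClosed_closure.isLocallyClosed
  have hz0 : fdelta f z = 0 := fdelta_of_isClosed f z hzc
  have hξz : ξ ⤳ z := specializes_iff_mem_closure.mpr hz
  let T := closure ({ξ} : Set X)
  have : QuasiSober T := isClosed_closure.isClosedEmbedding_subtypeVal.quasiSober
  let g : TopologicalSpace.IrreducibleCloseds T → X := fun C => C.2.genericPoint.1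
  have hg : ∀ C C', C ≤ C' ↔ g C' ⤳ g C := by
    intro C C'
    rw [← subtype_specializes_iff]
    have h1 := C.2.isGenericPoint_genericPoint C.3
    have h2 := C'.2.isGenericPoint_genericPoint C'.3
    constructor
    · intro h; exact h2.specializes (h h1.mem)
    · intro h a ha
      exact h2.def.subset (specializes_iff_mem_closure.mp (h.trans (h1.specializes ha)))
  have hlt : ∀ C C', C < C' → fdelta f (g C) < fdelta f (g C') := by
    intro C C' h
    refine DimFun.lt_of_specializes hδ ((hg C C').mp h.le) fun he => h.ne ?_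
    exact le_antisymm h.le ((hg C' C).mpr (specializes_of_eq he.symm))
  refine le_antisymm ?_ ?_
  · refine iSup_le fun l => ?_
    have key : ∀ i : ℕ, (hi : i < l.length + 1) → (i : ℤ) ≤ fdelta f (g (l ⟨i, hi⟩)) := by
      intro i
      induction i with
      | zero => intro _; exact fdelta_nonneg f _
      | succ i ih =>
        intro hi
        have := ih (by omega)
        have := hlt _ _ (l.step ⟨i, by omega⟩)
        simp only [Fin.castSucc_mk, Fin.succ_mk] at this
        push_cast
        omega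
    have h1 := key l.length (Nat.lt_succ_self _)
    have h2 := DimFun.le_of_specializes hδ
      (specializes_iff_mem_closure.mpr (l ⟨l.length, Nat.lt_succ_self _⟩).2.genericPoint.2)
    exact_mod_cast (show l.length ≤ (fdelta f ξ).toNat by
      change fdelta f (g _) ≤ _ at h2
      omega)
  · suffices ∀ n : ℕ, ∀ y : X, ∀ hy : ξ ⤳ y, y ⤳ z → fdelta f y = n →
        ∃ l : LTSeries (TopologicalSpace.IrreducibleCloseds T), l.length = n ∧
          (l.last : Set T) = closure {⟨y, specializes_iff_mem_closure.mp hy⟩} by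
      obtain ⟨l, hl, -⟩ := this (fdelta f ξ).toNat ξ specializes_rfl hξz
        (Int.toNat_of_nonneg (fdelta_nonneg f ξ)).symm
      exact Order.le_krullDim_iff.mpr ⟨l, hl⟩
    intro n
    induction n with
    | zero =>
      intro y hy hyz h0
      exact ⟨RelSeries.singleton _ ⟨closure {⟨y, specializes_iff_mem_closure.mp hy⟩},
        isIrreducible_singleton.closure, isClosed_closure⟩, rfl, rfl⟩
    | succ n ih =>
      intro y hy hyz hn
      have hne : y ≠ z := fun h => by
        rw [h, hz0] at hn
        omega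
      obtain ⟨w, hyw, hwz, hw⟩ := DimFun.exists_step_below hδ hyz hne
      obtain ⟨l, hl, hlast⟩ := ih w (hy.trans hyw) hwz (by omega)
      let C : TopologicalSpace.IrreducibleCloseds T :=
        ⟨closure {⟨y, specializes_iff_mem_closure.mp hy⟩},
          isIrreducible_singleton.closure, isClosed_closure⟩
      suffices hlt' : l.last < C from ⟨l.snoc C hlt', congrArg (· + 1) hl,
        congrArg SetLike.coe (RelSeries.last_snoc l C hlt')⟩
      refine lt_of_le_of_ne (SetLike.coe_subset_coe.mp fun a ha => ?_) fun he => ?_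
      · rw [hlast] at ha
        exact specializes_iff_mem_closure.mp ((Topology.IsInducing.subtypeVal.specializes_iff.mp hyw).trans
          (specializes_iff_mem_closure.mpr ha))
      · have hy' : (⟨y, specializes_iff_mem_closure.mp hy⟩ : T) ∈ (l.last : Set T) := by
          rw [he]; exact subset_closure rfl
        rw [hlast] at hy'
        have := DimFun.le_of_specializes hδ
          ((specializes_iff_mem_closure.mpr hy').map continuous_subtype_val)
        change fdelta f y ≤ fdelta f w at this
        omega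

end Field

section Fibre

variable (f : X ⟶ Y)

theorem trdegAt_eq_zero_of_surjective (x : X) (h : Function.Surjective (f.residueFieldMap x).hom) :
    Residue.trdegAt f x = 0 :=
  Residue.trdegAt_eq_zero_of_finite x (Residue.residueFieldMap_finite_of_surjective x h)

theorem residueFieldMap_surjective [IsPreimmersion f] (x : X) :
    Function.Surjective (f.residueFieldMap x).hom := by
  intro a
  obtain ⟨b, rfl⟩ := X.residue_surjective x a
  obtain ⟨c, rfl⟩ := f.stalkMap_surjective x b
  exact ⟨Y.residue (f x) c, ConcreteCategory.congr_hom (Scheme.residue_residueFieldMap f x) c⟩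

theorem trdegAt_congr {g g' : X ⟶ Y} (e : g = g') (x : X) :
    Residue.trdegAt g x = Residue.trdegAt g' x := by rw [e]

theorem trdegAt_fiber (y : Y) (z : f.fiber y) :
    Residue.trdegAt (f.fiberToSpecResidueField y) z = Residue.trdegAt f (f.fiberι y z) := by
  have h := trdegAt_congr (f.fiber_fac y) z
  rw [Residue.trdegAt_comp, Residue.trdegAt_comp,
    trdegAt_eq_zero_of_surjective (f.fiberι y) _ (residueFieldMap_surjective _ _),
    trdegAt_eq_zero_of_surjective (Y.fromSpecResidueField y) _ (residueFieldMap_surjective _ _),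
    add_zero, zero_add] at h
  exact h.symm

theorem fiber_specializes_iff (y : Y) (a b : f.fiber y) :
    a ⤳ b ↔ f.fiberι y a ⤳ f.fiberι y b :=
  (f.fiberι y).isEmbedding.toIsInducing.specializes_iff.symm

theorem apply_fiberι (y : Y) (z : f.fiber y) : f (f.fiberι y z) = y := by
  have : f.fiberι y z ∈ Set.range (f.fiberι y) := ⟨z, rfl⟩
  rw [f.range_fiberι] at this
  exact this

theorem exists_fiberι_eq (x : X) (y : Y) (h : f x = y) : ∃ z, f.fiberι y z = x := by
  have : x ∈ Set.range (f.fiberι y) := by rw [f.range_fiberι]; exact h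
  exact this

/-- Generic points of fibre components. -/
theorem isMaxFib_iff (y : Y) (z : f.fiber y) :
    FibLen.IsMaxFib f (f.fiberι y z) ↔ DimFun.IsMaxPt z := by
  constructor
  · intro h w hw
    exact (f.fiberι y).isEmbedding.injective
      (h _ (by rw [apply_fiberι, apply_fiberι]) ((fiber_specializes_iff f y w z).mp hw))
  · intro h x hx hxz
    obtain ⟨w, rfl⟩ := exists_fiberι_eq f x y (by rw [hx, apply_fiberι])
    rw [h w ((fiber_specializes_iff f y w z).mpr hxz)]

theorem closure_mem_irreducibleComponents {α : Type*} [TopologicalSpace α] [T0Space α]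
    [QuasiSober α] (x : α) (h : DimFun.IsMaxPt x) : closure {x} ∈ irreducibleComponents α := by
  refine ⟨isIrreducible_singleton.closure, fun T hT hle a ha => ?_⟩
  have hg := hT.isGenericPoint_genericPoint_closure
  have hgx : hT.genericPoint ⤳ x :=
    hg.specializes (subset_closure (hle (subset_closure rfl)))
  rw [← h _ hgx]
  exact specializes_iff_mem_closure.mp (hg.specializes (subset_closure ha))

theorem trdegAt_eq_of_hasRelDim_aux [LocallyOfFiniteType f] {r : ℕ} (hr : Cyc.HasRelDim f r)
    (y : Y) (z : f.fiber y) (hx : FibLen.IsMaxFib f (f.fiberι y z)) :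
    Residue.trdegAt f (f.fiberι y z) = r := by
  have : LocallyOfFiniteType (X := f.fiber y) (Y := Spec (CommRingCat.of (Y.residueField y)))
      (f.fiberToSpecResidueField y) := MorphismProperty.pullback_snd _ _ ‹_›
  rw [← trdegAt_fiber, trdegAt_eq_fdelta (K := Y.residueField y) (f.fiberToSpecResidueField y)]
  have h1 := hr y _ (closure_mem_irreducibleComponents z ((isMaxFib_iff f y z).mp hx))
  rw [topologicalKrullDim_closure (K := Y.residueField y) (f.fiberToSpecResidueField y)] at h1
  congr 1
  exact_mod_cast h1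

theorem trdegAt_eq_of_hasRelDim [LocallyOfFiniteType f] {r : ℕ} (hr : Cyc.HasRelDim f r) (x : X)
    (hx : FibLen.IsMaxFib f x) : Residue.trdegAt f x = r := by
  obtain ⟨z, hz⟩ := exists_fiberι_eq f x (f x) rfl
  have := trdegAt_eq_of_hasRelDim_aux f hr (f x) z (hz.symm ▸ hx)
  rwa [hz] at this

theorem hasRelDim_of_forall [LocallyOfFiniteType f] {r : ℕ}
    (h : ∀ x, FibLen.IsMaxFib f x → Residue.trdegAt f x = r) : Cyc.HasRelDim f r := by
  intro y T hT
  have : LocallyOfFiniteType (X := f.fiber y) (Y := Spec (CommRingCat.of (Y.residueField y)))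
      (f.fiberToSpecResidueField y) := MorphismProperty.pullback_snd _ _ ‹_›
  have hTc := isClosed_of_mem_irreducibleComponents T hT
  have hg := hT.1.isGenericPoint_genericPoint hTc
  set z := hT.1.genericPoint
  have hz : DimFun.IsMaxPt z := fun w hw => by
    have hwT : w ∈ T := hT.2 isIrreducible_singleton.closure
      (fun a ha => specializes_iff_mem_closure.mp (hw.trans (hg.specializes ha)))
      (subset_closure rfl)
    exact (hw.antisymm (hg.specializes hwT)).eq
  rw [← hg.def, topologicalKrullDim_closure (K := Y.residueField y) (f.fiberToSpecResidueField y)]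
  have h1 := h _ ((isMaxFib_iff f y z).mpr hz)
  rw [← trdegAt_fiber, trdegAt_eq_fdelta (K := Y.residueField y) (f.fiberToSpecResidueField y)] at h1
  exact_mod_cast h1

theorem delta_eq_of_hasRelDim [LocallyOfFiniteType f] {r : ℕ} (hr : Cyc.HasRelDim f r)
    {δX : X → ℤ} {δY : Y → ℤ} (hδ : Cyc.DeltaCompat f δX δY) (x : X)
    (hx : FibLen.IsMaxFib f x) : δX x = δY (f x) + r := by
  obtain ⟨n, hn, hn'⟩ := Residue.exists_trdegAt hδ x
  rw [trdegAt_eq_of_hasRelDim f hr x hx, Nat.cast_inj] at hn
  omega

theorem hasRelDim_comp {Z : Scheme.{u}} (g : Y ⟶ Z) [Flat f] [LocallyOfFiniteType f]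
    [LocallyOfFiniteType g] {r s : ℕ} (hr : Cyc.HasRelDim f r) (hs : Cyc.HasRelDim g s) :
    Cyc.HasRelDim (f ≫ g) (r + s) := by
  refine hasRelDim_of_forall (f ≫ g) fun x hx => ?_
  have h := FibLen.isMaxFib_of_comp f g x hx
  rw [Residue.trdegAt_comp, trdegAt_eq_of_hasRelDim f hr x h.1,
    trdegAt_eq_of_hasRelDim g hs _ h.2, Nat.cast_add, add_comm]

end Fibre

end Groth.Agent.Lib.Cyc.FieldDim
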