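import Groth.Agent.Lib.Cyc.DimFun
import Mathlib.RingTheory.OrderOfVanishing.Basic
import Mathlib.AlgebraicGeometry.AffineScheme

/-!
# Orders along specializations and rational equivalence

* `Cyc.LocQuot x ξ h` is a Noetherian domain with fraction field `κ(ξ)`;
* `ordAt` is additive, divisors `divFun` have locally finite support;
* rational equivalence to zero is stable under sums and negation.
-/

set_option autoImplicit false

universe u

namespace Groth.Agent.Lib.Cyc.Ord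

open AlgebraicGeometry CategoryTheory IsLocalRing Groth.Agent.Lib.Cyc.DimFun

variable {X : Scheme.{u}}

theorem algebraMap_mk (x ξ : X) (h : ξ ⤳ x) (a : X.presheaf.stalk x) :
    algebraMap (Cyc.LocQuot x ξ h) (X.residueField ξ) (Ideal.Quotient.mk _ a) =
      Cyc.specMap x ξ h a := rfl

theorem algebraMap_injective (x ξ : X) (h : ξ ⤳ x) :
    Function.Injective (algebraMap (Cyc.LocQuot x ξ h) (X.residueField ξ)) := by
  rw [injective_iff_map_eq_zero]
  intro q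
  obtain ⟨a, rfl⟩ := Ideal.Quotient.mk_surjective q
  intro ha
  rw [algebraMap_mk] at ha
  exact Ideal.Quotient.eq_zero_iff_mem.mpr ha

instance locQuotIsDomain (x ξ : X) (h : ξ ⤳ x) : IsDomain (Cyc.LocQuot x ξ h) :=
  (algebraMap_injective x ξ h).isDomain

/-- Every element of `κ(ξ)` is a fraction of elements coming from `O_{X,x}`. -/
theorem exists_specMap_fraction (x ξ : X) (h : ξ ⤳ x) (g : X.residueField ξ) :
    ∃ a b : X.presheaf.stalk x, Cyc.specMap x ξ h b ≠ 0 ∧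
      g * Cyc.specMap x ξ h b = Cyc.specMap x ξ h a := by
  obtain ⟨_, ⟨U, hU, rfl⟩, hxU, -⟩ :=
    X.isBasis_affineOpens.exists_subset_of_mem_open (Set.mem_univ x) isOpen_univ
  have hξU : ξ ∈ U := h.mem_open U.2 hxU
  let := (X.presheaf.germ U ξ hξU).hom.toAlgebra
  have := hU.isLocalization_stalk ⟨ξ, hξU⟩
  obtain ⟨s, rfl⟩ := X.residue_surjective ξ g
  obtain ⟨⟨a, b⟩, hab⟩ := IsLocalization.surj (hU.primeIdealOf ⟨ξ, hξU⟩).asIdeal.primeCompl s
  have e : ∀ r : Γ(X, U), Cyc.specMap x ξ h (X.presheaf.germ U x hxU r) =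
      X.residue ξ (X.presheaf.germ U ξ hξU r) := by
    intro r
    show X.residue ξ (X.presheaf.stalkSpecializes h (X.presheaf.germ U x hxU r)) = _
    congr 1
    exact ConcreteCategory.congr_hom (TopCat.Presheaf.germ_stalkSpecializes X.presheaf hxU h) r
  have hb : IsUnit (X.presheaf.germ U ξ hξU (b : Γ(X, U))) :=
    IsLocalization.map_units (X.presheaf.stalk ξ) b
  refine ⟨X.presheaf.germ U x hxU a, X.presheaf.germ U x hxU (b : Γ(X, U)), ?_, ?_⟩
  · rw [e]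
    exact (hb.map (X.residue ξ).hom).ne_zero
  · rw [e, e]
    exact ((X.residue ξ).hom.map_mul _ _).symm.trans (congrArg (X.residue ξ).hom hab)

instance locQuotIsFractionRing (x ξ : X) (h : ξ ⤳ x) :
    IsFractionRing (Cyc.LocQuot x ξ h) (X.residueField ξ) where
  map_units b := isUnit_iff_ne_zero.mpr ((map_ne_zero_iff _ (algebraMap_injective x ξ h)).mpr
    (nonZeroDivisors.coe_ne_zero b))
  surj g := by
    obtain ⟨a, b, hb, hab⟩ := exists_specMap_fraction x ξ h g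
    refine ⟨⟨Ideal.Quotient.mk _ a, ⟨Ideal.Quotient.mk _ b, mem_nonZeroDivisors_of_ne_zero ?_⟩⟩, ?_⟩
    · intro h0
      exact hb (Ideal.Quotient.eq_zero_iff_mem.mp h0)
    · exact hab
  exists_of_eq {a b} hab := ⟨1, by simp [algebraMap_injective x ξ h hab]⟩

variable {δ : X → ℤ}

theorem locQuot_krullDimLE_one (hδ : Cyc.IsDimFun X δ) (x ξ : X) (h : ξ ⤳ x)
    (hd : δ ξ ≤ δ x + 1) : Ring.KrullDimLE 1 (Cyc.LocQuot x ξ h) := by
  rw [Ring.krullDimLE_iff, ringKrullDim_locQuot hδ x ξ h]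
  exact_mod_cast (show (δ ξ - δ x).toNat ≤ 1 by omega)

/-- The hypotheses under which `ordAt x ξ h` is the genuine order. -/
theorem ordAt_cond [IsLocallyNoetherian X] (hδ : Cyc.IsDimFun X δ) (x ξ : X) (h : ξ ⤳ x)
    (hd : δ ξ ≤ δ x + 1) :
    IsNoetherianRing (Cyc.LocQuot x ξ h) ∧ Ring.KrullDimLE 1 (Cyc.LocQuot x ξ h) ∧
      Nontrivial (Cyc.LocQuot x ξ h) ∧ IsFractionRing (Cyc.LocQuot x ξ h) (X.residueField ξ) :=
  ⟨inferInstance, locQuot_krullDimLE_one hδ x ξ h hd, inferInstance, inferInstance⟩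

section ordFrac

variable (R : Type u) [CommRing R] [IsNoetherianRing R] [Ring.KrullDimLE 1 R] [Nontrivial R]
  {K : Type u} [Field K] [Algebra R K] [IsFractionRing R K]

/-- The integer-valued order. -/
noncomputable def toInt : WithZero (Multiplicative ℤ) → ℤ :=
  WithZero.recZeroCoe (motive := fun _ => ℤ) 0 (fun z => Multiplicative.toAdd z)

theorem ordFrac_def (f : K) : CycAlg.ordFrac R K f = toInt (Ring.ordFrac R f) :=
  dif_pos ⟨‹_›, ‹_›, ‹_›, ‹_›⟩

theorem toInt_mul (a b : WithZero (Multiplicative ℤ)) (ha : a ≠ 0) (hb : b ≠ 0) :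
    toInt (a * b) = toInt a + toInt b := by
  obtain ⟨p, rfl⟩ := WithZero.ne_zero_iff_exists.mp ha
  obtain ⟨q, rfl⟩ := WithZero.ne_zero_iff_exists.mp hb
  rfl

theorem ordFrac_mul (f g : K) (hf : f ≠ 0) (hg : g ≠ 0) :
    CycAlg.ordFrac R K (f * g) = CycAlg.ordFrac R K f + CycAlg.ordFrac R K g := by
  rw [ordFrac_def, ordFrac_def, ordFrac_def, map_mul]
  exact toInt_mul _ _ ((map_ne_zero _).mpr hf) ((map_ne_zero _).mpr hg)

theorem ordFrac_one : CycAlg.ordFrac R K (1 : K) = 0 := by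
  rw [ordFrac_def, map_one]
  rfl

theorem ordFrac_inv (f : K) (hf : f ≠ 0) :
    CycAlg.ordFrac R K f⁻¹ = - CycAlg.ordFrac R K f := by
  have := ordFrac_mul R f f⁻¹ hf (inv_ne_zero hf)
  rw [mul_inv_cancel₀ hf, ordFrac_one] at this
  omega

theorem ordFrac_algebraMap {a : R} (ha : a ∈ nonZeroDivisors R) :
    CycAlg.ordFrac R K (algebraMap R K a) = ((Ring.ord R a).toNat : ℤ) := by
  obtain ⟨n, hn⟩ := ENat.ne_top_iff_exists.mp (Ring.ord_ne_top ha)
  rw [ordFrac_def, Ring.ordFrac_eq_ord R (nonZeroDivisors.ne_zero ha),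
    Ring.ordMonoidWithZeroHom_eq_coe R ha hn.symm, ← hn]
  rfl

end ordFrac

theorem ordFrac_of_eq_zero (R : Type u) [CommRing R] {K : Type u} [Field K] [Algebra R K] :
    CycAlg.ordFrac R K (0 : K) = 0 := by
  unfold CycAlg.ordFrac
  split
  · rw [map_zero]; rfl
  · rfl

theorem ordAt_mul [IsLocallyNoetherian X] (hδ : Cyc.IsDimFun X δ) (x ξ : X) (h : ξ ⤳ x)
    (hd : δ ξ ≤ δ x + 1) (f g : X.residueField ξ) (hf : f ≠ 0) (hg : g ≠ 0) :
    Cyc.ordAt x ξ h (f * g) = Cyc.ordAt x ξ h f + Cyc.ordAt x ξ h g := by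
  have := locQuot_krullDimLE_one hδ x ξ h hd
  exact ordFrac_mul _ f g hf hg

theorem ordAt_one [IsLocallyNoetherian X] (hδ : Cyc.IsDimFun X δ) (x ξ : X) (h : ξ ⤳ x)
    (hd : δ ξ ≤ δ x + 1) : Cyc.ordAt x ξ h 1 = 0 := by
  have := locQuot_krullDimLE_one hδ x ξ h hd
  exact ordFrac_one _

theorem ordAt_inv [IsLocallyNoetherian X] (hδ : Cyc.IsDimFun X δ) (x ξ : X) (h : ξ ⤳ x)
    (hd : δ ξ ≤ δ x + 1) (f : X.residueField ξ) (hf : f ≠ 0) :
    Cyc.ordAt x ξ h f⁻¹ = - Cyc.ordAt x ξ h f := by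
  have := locQuot_krullDimLE_one hδ x ξ h hd
  exact ordFrac_inv _ f hf

theorem mk_mem_nonZeroDivisors (x ξ : X) (h : ξ ⤳ x) (a : X.presheaf.stalk x)
    (ha : Cyc.specMap x ξ h a ≠ 0) :
    Ideal.Quotient.mk (RingHom.ker (Cyc.specMap x ξ h)) a ∈ nonZeroDivisors (Cyc.LocQuot x ξ h) :=
  mem_nonZeroDivisors_of_ne_zero fun h0 => ha (Ideal.Quotient.eq_zero_iff_mem.mp h0)

theorem ordAt_specMap [IsLocallyNoetherian X] (hδ : Cyc.IsDimFun X δ) (x ξ : X) (h : ξ ⤳ x)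
    (hd : δ ξ ≤ δ x + 1) (a : X.presheaf.stalk x) (ha : Cyc.specMap x ξ h a ≠ 0) :
    Cyc.ordAt x ξ h (Cyc.specMap x ξ h a) =
      ((Ring.ord (Cyc.LocQuot x ξ h) (Ideal.Quotient.mk _ a)).toNat : ℤ) := by
  have := locQuot_krullDimLE_one hδ x ξ h hd
  rw [Cyc.ordAt, ← algebraMap_mk]
  exact ordFrac_algebraMap (Cyc.LocQuot x ξ h) (K := X.residueField ξ)
    (a := Ideal.Quotient.mk _ a) (mk_mem_nonZeroDivisors x ξ h a ha)

theorem ordAt_specMap_of_isUnit [IsLocallyNoetherian X] (hδ : Cyc.IsDimFun X δ) (x ξ : X)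
    (h : ξ ⤳ x) (hd : δ ξ ≤ δ x + 1) (a : X.presheaf.stalk x) (ha : IsUnit a) :
    Cyc.ordAt x ξ h (Cyc.specMap x ξ h a) = 0 := by
  rw [ordAt_specMap hδ x ξ h hd a (ha.map _).ne_zero, Ring.ord_of_isUnit (ha.map _)]
  rfl

/-- Germs: `g · φ_x(b) = φ_x(a)` for sections `a, b` near `x₀` with `b` nonzero at `ξ`. -/
theorem exists_section_fraction (U : X.Opens) (hU : IsAffineOpen U) (ξ : X) (hξU : ξ ∈ U)
    (g : X.residueField ξ) :
    ∃ a b : Γ(X, U), X.evaluation U ξ hξU b ≠ 0 ∧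
      g * X.evaluation U ξ hξU b = X.evaluation U ξ hξU a := by
  let := (X.presheaf.germ U ξ hξU).hom.toAlgebra
  have := hU.isLocalization_stalk ⟨ξ, hξU⟩
  obtain ⟨s, rfl⟩ := X.residue_surjective ξ g
  obtain ⟨⟨a, b⟩, hab⟩ := IsLocalization.surj (hU.primeIdealOf ⟨ξ, hξU⟩).asIdeal.primeCompl s
  exact ⟨a, b, ((IsLocalization.map_units (X.presheaf.stalk ξ) b).map (X.residue ξ).hom).ne_zero,
    ((X.residue ξ).hom.map_mul _ _).symm.trans (congrArg (X.residue ξ).hom hab)⟩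

theorem specMap_germ (U : X.Opens) (x ξ : X) (h : ξ ⤳ x) (hxU : x ∈ U) (a : Γ(X, U)) :
    Cyc.specMap x ξ h (X.presheaf.germ U x hxU a) =
      X.evaluation U ξ (h.mem_open U.2 hxU) a := by
  show X.residue ξ (X.presheaf.stalkSpecializes h (X.presheaf.germ U x hxU a)) =
    X.residue ξ (X.presheaf.germ U ξ (h.mem_open U.2 hxU) a)
  congr 1
  exact ConcreteCategory.congr_hom (TopCat.Presheaf.germ_stalkSpecializes X.presheaf hxU h) a

/-- The divisor of a rational function has locally finite support. -/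
theorem exists_open_finite_divFun [IsLocallyNoetherian X] (hδ : Cyc.IsDimFun X δ) (ξ : X)
    (f : X.residueField ξ) (x : X) :
    ∃ U : Set X, IsOpen U ∧ x ∈ U ∧ (U ∩ Function.support (Cyc.divFun δ ξ f)).Finite := by
  by_cases hf : f = 0
  · refine ⟨Set.univ, isOpen_univ, trivial, Set.finite_empty.subset ?_⟩
    rintro z ⟨-, hz⟩
    refine hz ?_
    rw [Cyc.divFun, hf]
    split
    · exact ordFrac_of_eq_zero _
    · rfl
  by_cases hx : ξ ⤳ x
  swap
  · refine ⟨(closure {ξ})ᶜ, isClosed_closure.isOpen_compl,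
      fun hc => hx (specializes_iff_mem_closure.mpr hc), Set.finite_empty.subset ?_⟩
    rintro z ⟨hz, hz'⟩
    exact hz' (dif_neg fun hc => hz (specializes_iff_mem_closure.mp hc.1))
  obtain ⟨_, ⟨U, hU, rfl⟩, hxU, -⟩ :=
    X.isBasis_affineOpens.exists_subset_of_mem_open (Set.mem_univ x) isOpen_univ
  have hξU : ξ ∈ U := hx.mem_open U.2 hxU
  obtain ⟨a, b, hb, hab⟩ := exists_section_fraction U hU ξ hξU f
  have ha : X.evaluation U ξ hξU a ≠ 0 := hab ▸ mul_ne_zero hf hb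
  let T : Set X := closure {ξ} ∩ (X.basicOpen a ⊓ X.basicOpen b : X.Opens).1ᶜ
  have hT : IsClosed T := isClosed_closure.inter (X.basicOpen a ⊓ X.basicOpen b).2.isClosed_compl
  have hξT : ξ ∉ T := fun hc => hc.2
    ⟨(Scheme.evaluation_ne_zero_iff_mem_basicOpen X ξ hξU a).mp ha,
      (Scheme.evaluation_ne_zero_iff_mem_basicOpen X ξ hξU b).mp hb⟩
  obtain ⟨V, hV, hxV, hfin⟩ := exists_open_finite_maxPts hT x
  refine ⟨V ∩ U, hV.inter U.2, ⟨hxV, hxU⟩, hfin.subset ?_⟩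
  rintro z ⟨⟨hzV, hzU⟩, hz⟩
  have hc : ξ ⤳ z ∧ δ z + 1 = δ ξ := by
    by_contra hc
    exact hz (dif_neg hc)
  have hzT : z ∈ T := by
    refine ⟨specializes_iff_mem_closure.mp hc.1, fun hzb => hz ?_⟩
    have hau : IsUnit (X.presheaf.germ U z hzU a) :=
      (X.mem_basicOpen _ z hzU).mp hzb.1
    have hbu : IsUnit (X.presheaf.germ U z hzU b) :=
      (X.mem_basicOpen _ z hzU).mp hzb.2
    have e : f * Cyc.specMap z ξ hc.1 (X.presheaf.germ U z hzU b) =
        Cyc.specMap z ξ hc.1 (X.presheaf.germ U z hzU a) := by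
      rw [specMap_germ, specMap_germ]; exact hab
    have hle : δ ξ ≤ δ z + 1 := hc.2.ge
    have h1 := ordAt_mul hδ z ξ hc.1 hle f _ hf (hbu.map (Cyc.specMap z ξ hc.1)).ne_zero
    rw [e, ordAt_specMap_of_isUnit hδ z ξ hc.1 hle _ hau,
      ordAt_specMap_of_isUnit hδ z ξ hc.1 hle _ hbu, add_zero] at h1
    rw [Cyc.divFun, dif_pos hc]
    exact h1.symm
  refine ⟨hzV, hzT, fun y hy hyz => ?_⟩
  by_contra hne
  have h1 := lt_of_specializes hδ hyz hne
  have h2 := lt_of_specializes hδ (specializes_iff_mem_closure.mpr hy.1)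
    (fun he : ξ = y => hξT (he ▸ hy))
  omega

theorem divFun_mul [IsLocallyNoetherian X] (hδ : Cyc.IsDimFun X δ) (ξ : X)
    (f g : X.residueField ξ) (hf : f ≠ 0) (hg : g ≠ 0) :
    Cyc.divFun δ ξ (f * g) = Cyc.divFun δ ξ f + Cyc.divFun δ ξ g := by
  funext z
  simp only [Cyc.divFun, Pi.add_apply]
  split_ifs with h
  · exact ordAt_mul hδ z ξ h.1 h.2.ge f g hf hg
  · rfl

theorem divFun_inv [IsLocallyNoetherian X] (hδ : Cyc.IsDimFun X δ) (ξ : X)
    (f : X.residueField ξ) (hf : f ≠ 0) :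
    Cyc.divFun δ ξ f⁻¹ = - Cyc.divFun δ ξ f := by
  funext z
  simp only [Cyc.divFun, Pi.neg_apply]
  split_ifs with h
  · exact ordAt_inv hδ z ξ h.1 h.2.ge f hf
  · rfl

theorem divFun_eq_zero_of_not_specializes (δ : X → ℤ) (ξ : X) (f : X.residueField ξ) (z : X)
    (hz : ¬ ξ ⤳ z) : Cyc.divFun δ ξ f z = 0 :=
  dif_neg fun h => hz h.1

theorem finite_support_divFun_family {ι : Type*} (δ : X → ℤ) (ξ : ι → X)
    (f : (i : ι) → X.residueField (ξ i))
    (hlf : ∀ x : X, ∃ U : Set X, IsOpen U ∧ x ∈ U ∧ {i | (closure {ξ i} ∩ U).Nonempty}.Finite)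
    (x : X) : (Function.support fun i => Cyc.divFun δ (ξ i) (f i) x).Finite := by
  obtain ⟨U, -, hxU, hfin⟩ := hlf x
  refine hfin.subset fun i hi => ⟨x, specializes_iff_mem_closure.mp ?_, hxU⟩
  by_contra h
  exact hi (divFun_eq_zero_of_not_specializes δ _ _ _ h)

theorem ratEquivZero_zero (δ : X → ℤ) (k : ℤ) : Cyc.RatEquivZero δ k (0 : AlgebraicCycle X ℤ) :=
  ⟨PEmpty.{u + 1}, fun i => i.elim, fun i => i.elim, fun i => i.elim, fun i => i.elim,
    fun _ => ⟨Set.univ, isOpen_univ, trivial, Set.toFinite _⟩, fun _ => by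
      rw [finsum_of_isEmpty]; rfl⟩

theorem ratEquivZero_neg [IsLocallyNoetherian X] (hδ : Cyc.IsDimFun X δ) {k : ℤ}
    {α : AlgebraicCycle X ℤ} (h : Cyc.RatEquivZero δ k α) : Cyc.RatEquivZero δ k (-α) := by
  obtain ⟨ι, ξ, f, h1, h2, h3, h4⟩ := h
  refine ⟨ι, ξ, fun i => (f i)⁻¹, h1, fun i => inv_ne_zero (h2 i), h3, fun x => ?_⟩
  rw [Function.locallyFinsuppWithin.coe_neg, Pi.neg_apply, h4 x, ← finsum_neg_distrib]
  exact finsum_congr fun i => (congrFun (divFun_inv hδ (ξ i) (f i) (h2 i)) x).symm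

theorem ratEquivZero_add {k : ℤ} {α β : AlgebraicCycle X ℤ} (h : Cyc.RatEquivZero δ k α)
    (h' : Cyc.RatEquivZero δ k β) : Cyc.RatEquivZero δ k (α + β) := by
  obtain ⟨ι, ξ, f, h1, h2, h3, h4⟩ := h
  obtain ⟨ι', ξ', f', h1', h2', h3', h4'⟩ := h'
  let F : (i : ι ⊕ ι') → X.residueField (Sum.elim ξ ξ' i) := fun i =>
    match i with
    | Sum.inl i => f i
    | Sum.inr i => f' i
  refine ⟨ι ⊕ ι', Sum.elim ξ ξ', F, Sum.forall.mpr ⟨h1, h1'⟩, Sum.forall.mpr ⟨h2, h2'⟩, ?_, ?_⟩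
  · intro x
    obtain ⟨U, hU, hxU, hfin⟩ := h3 x
    obtain ⟨U', hU', hxU', hfin'⟩ := h3' x
    refine ⟨U ∩ U', hU.inter hU', ⟨hxU, hxU'⟩, ((hfin.image Sum.inl).union
      (hfin'.image Sum.inr)).subset ?_⟩
    rintro (i | i) hi
    · exact Or.inl ⟨i, hi.mono (Set.inter_subset_inter_right _ Set.inter_subset_left), rfl⟩
    · exact Or.inr ⟨i, hi.mono (Set.inter_subset_inter_right _ Set.inter_subset_right), rfl⟩
  · intro x
    rw [Function.locallyFinsuppWithin.coe_add, Pi.add_apply, h4 x, h4' x]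
    have hl := finite_support_divFun_family δ ξ f h3 x
    have hr := finite_support_divFun_family δ ξ' f' h3' x
    rw [← finsum_mem_univ (fun i : ι ⊕ ι' => Cyc.divFun δ (Sum.elim ξ ξ' i) (F i) x),
      ← Set.range_inl_union_range_inr,
      finsum_mem_union' Set.isCompl_range_inl_range_inr.disjoint,
      finsum_mem_range Sum.inl_injective, finsum_mem_range Sum.inr_injective]
    · rfl
    · exact (hl.image Sum.inl).subset (by rintro _ ⟨⟨i, rfl⟩, hi⟩; exact ⟨i, hi, rfl⟩)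
    · exact (hr.image Sum.inr).subset (by rintro _ ⟨⟨i, rfl⟩, hi⟩; exact ⟨i, hi, rfl⟩)

theorem ratEquiv_refl (δ : X → ℤ) (k : ℤ) (α : AlgebraicCycle X ℤ) : Cyc.RatEquiv δ k α α := by
  rw [Cyc.RatEquiv, sub_self]
  exact ratEquivZero_zero δ k

theorem ratEquiv_symm [IsLocallyNoetherian X] (hδ : Cyc.IsDimFun X δ) {k : ℤ}
    {α β : AlgebraicCycle X ℤ} (h : Cyc.RatEquiv δ k α β) : Cyc.RatEquiv δ k β α := by
  rw [Cyc.RatEquiv, ← neg_sub]
  exact ratEquivZero_neg hδ h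

theorem ratEquiv_trans {k : ℤ} {α β γ : AlgebraicCycle X ℤ} (h : Cyc.RatEquiv δ k α β)
    (h' : Cyc.RatEquiv δ k β γ) : Cyc.RatEquiv δ k α γ := by
  have := ratEquivZero_add h h'
  rwa [sub_add_sub_cancel] at this

end Groth.Agent.Lib.Cyc.Ord
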