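import Groth.Agent.S0555
import Groth.Agent.Lib.Cyc.Ord
import Groth.Agent.Lib.Cyc.Residue
import Mathlib.RingTheory.Adjoin.FG
import Mathlib.RingTheory.Localization.AtPrime.Basic

/-!
# The dimension formula for morphisms locally of finite type: induced dimension functions
-/

set_option autoImplicit false

universe u

namespace Groth.Agent.Lib.Cyc.InducedDimFun

open AlgebraicGeometry CategoryTheory IsLocalRing Groth.Agent.Lib.Cyc

theorem isUniversallyCatenary_quotient {R : Type u} [CommRing R]
    (h : CAlg.IsUniversallyCatenary R) (I : Ideal R) : CAlg.IsUniversallyCatenary (R ⧸ I) := by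
  have := h.1
  refine ⟨inferInstance, fun S _ _ hft => ?_⟩
  let := ((algebraMap (R ⧸ I) S).comp (Ideal.Quotient.mk I)).toAlgebra
  have : IsScalarTower R (R ⧸ I) S := IsScalarTower.of_algebraMap_eq fun _ => rfl
  exact h.2 S (Algebra.FiniteType.trans (inferInstanceAs (Algebra.FiniteType R (R ⧸ I))) hft)

variable {X Y : Scheme.{u}} (f : X ⟶ Y)

instance locQuotIsLocalRing (x ξ : X) (h : ξ ⤳ x) : IsLocalRing (Cyc.LocQuot x ξ h) :=
  IsLocalRing.of_surjective' (Ideal.Quotient.mk _) Ideal.Quotient.mk_surjective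

instance locQuotMkIsLocalHom (x ξ : X) (h : ξ ⤳ x) :
    IsLocalHom (Ideal.Quotient.mk (RingHom.ker (Cyc.specMap x ξ h))) :=
  IsLocalHom.of_surjective _ Ideal.Quotient.mk_surjective

theorem specMap_stalkMap (x y : X) (h : x ⤳ y) (a : Y.presheaf.stalk (f y)) :
    Cyc.specMap y x h (f.stalkMap y a) =
      f.residueFieldMap x (Cyc.specMap (f y) (f x) (h.map f.continuous) a) := by
  have h1 : f.stalkMap x (Y.presheaf.stalkSpecializes (h.map f.continuous) a) =
      X.presheaf.stalkSpecializes h (f.stalkMap y a) :=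
    ConcreteCategory.congr_hom (f.stalkSpecializes_stalkMap x y h) a
  show X.residue x (X.presheaf.stalkSpecializes h (f.stalkMap y a)) = _
  rw [← h1]
  exact (ConcreteCategory.congr_hom (Scheme.residue_residueFieldMap f x) _).symm

/-- The map of local rings of closures induced by `f`. -/
noncomputable def locQuotMap (x y : X) (h : x ⤳ y) :
    Cyc.LocQuot (f y) (f x) (h.map f.continuous) →+* Cyc.LocQuot y x h :=
  Ideal.quotientMap _ (f.stalkMap y).hom fun a ha => by
    rw [RingHom.mem_ker] at ha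
    rw [Ideal.mem_comap, RingHom.mem_ker]
    exact (specMap_stalkMap f x y h a).trans (by rw [ha]; exact map_zero _)

theorem locQuotMap_mk (x y : X) (h : x ⤳ y) (a : Y.presheaf.stalk (f y)) :
    locQuotMap f x y h (Ideal.Quotient.mk _ a) = Ideal.Quotient.mk _ (f.stalkMap y a) := rfl

theorem trdegAt_natCast {δX : X → ℤ} {δY : Y → ℤ} (hδ : Cyc.DeltaCompat f δX δY) (x : X) :
    Residue.trdegAt f x = ((δX x - δY (f x)).toNat : Cardinal) := by
  obtain ⟨n, hn, hn'⟩ := Residue.exists_trdegAt hδ x
  rw [hn]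
  congr 1
  omega

theorem ringKrullDim_locQuot_eq [LocallyOfFiniteType f] [IsLocallyNoetherian Y]
    {δY : Y → ℤ} (hδY : Cyc.IsDimFun Y δY)
    (huc : ∀ t : Y, CAlg.IsUniversallyCatenary (Y.presheaf.stalk t))
    {δX : X → ℤ} (hδ : Cyc.DeltaCompat f δX δY) (x y : X) (h : x ⤳ y) :
    ∃ n : ℕ, ringKrullDim (Cyc.LocQuot y x h) = (n : WithBot ℕ∞) ∧ δX x = δX y + n := by
  classical
  let R := Cyc.LocQuot (f y) (f x) (h.map f.continuous)
  let T := Cyc.LocQuot y x h
  let := (locQuotMap f x y h).toAlgebra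
  obtain ⟨_, ⟨V, hV, rfl⟩, hyV, -⟩ :=
    Y.isBasis_affineOpens.exists_subset_of_mem_open (Set.mem_univ (f y)) isOpen_univ
  obtain ⟨_, ⟨U, hU, rfl⟩, hyU, hUV⟩ :=
    X.isBasis_affineOpens.exists_subset_of_mem_open (show y ∈ (f ⁻¹ᵁ V : X.Opens) from hyV)
      (f ⁻¹ᵁ V).2
  have hft : (f.appLE V U hUV).hom.FiniteType :=
    HasRingHomProperty.appLE @LocallyOfFiniteType f ‹_› ⟨V, hV⟩ ⟨U, hU⟩ hUV
  let := (f.appLE V U hUV).hom.toAlgebra
  obtain ⟨G, hG⟩ := (hft : Algebra.FiniteType Γ(Y, V) Γ(X, U)).out
  let g : Γ(X, U) →+* T :=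
    (Ideal.Quotient.mk (RingHom.ker (Cyc.specMap y x h))).comp (X.presheaf.germ U y hyU).hom
  let S : Subalgebra R T := Algebra.adjoin R (g '' ↑G)
  have hSft : Algebra.FiniteType R S :=
    S.fg_iff_finiteType.mp (Subalgebra.fg_def.mpr ⟨g '' ↑G, G.finite_toSet.image g, rfl⟩)
  have hmem : ∀ b, g b ∈ S := by
    intro b
    have hb : b ∈ Algebra.adjoin Γ(Y, V) (G : Set Γ(X, U)) := by rw [hG]; trivial
    induction hb using Algebra.adjoin_induction with
    | mem b hb => exact Algebra.subset_adjoin ⟨b, hb, rfl⟩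
    | algebraMap a =>
      convert S.algebraMap_mem (Ideal.Quotient.mk _ (Y.presheaf.germ V (f y) hyV a)) using 1
      show Ideal.Quotient.mk _ (X.presheaf.germ U y hyU (f.appLE V U hUV a)) =
        locQuotMap f x y h (Ideal.Quotient.mk _ (Y.presheaf.germ V (f y) hyV a))
      rw [locQuotMap_mk]
      congr 1
      rw [Scheme.Hom.germ_stalkMap_apply, Scheme.Hom.appLE, CommRingCat.comp_apply,
        TopCat.Presheaf.germ_res_apply]
    | add a b _ _ ha hb => rw [map_add]; exact S.add_mem ha hb
    | mul a b _ _ ha hb => rw [map_mul]; exact S.mul_mem ha hb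
  let q : Ideal S := (maximalIdeal T).comap S.val.toRingHom
  have hq : q.IsPrime := Ideal.IsPrime.comap _
  -- elements of the local ring are fractions of `S`
  have hfrac : ∀ z : T, ∃ a b : S, b ∉ q ∧ z * b = a := by
    intro z
    obtain ⟨w, rfl⟩ := Ideal.Quotient.mk_surjective z
    let := (X.presheaf.germ U y hyU).hom.toAlgebra
    have := hU.isLocalization_stalk ⟨y, hyU⟩
    obtain ⟨⟨a, b⟩, hab⟩ := IsLocalization.surj (hU.primeIdealOf ⟨y, hyU⟩).asIdeal.primeCompl w
    refine ⟨⟨g a, hmem a⟩, ⟨g b, hmem b⟩, fun hb => ?_,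
      (map_mul _ _ _).symm.trans (congrArg _ hab)⟩
    exact hb ((IsLocalization.map_units (X.presheaf.stalk y) b).map
      (Ideal.Quotient.mk (RingHom.ker (Cyc.specMap y x h))))
  have : IsLocalization.AtPrime T q :=
    { map_units := fun b => notMem_maximalIdeal.mp b.2
      surj := fun z => by
        obtain ⟨a, b, hb, hab⟩ := hfrac z
        exact ⟨⟨a, ⟨b, hb⟩⟩, hab⟩
      exists_of_eq := fun {a b} hab => ⟨1, by rw [Subtype.ext hab]⟩ }
  -- fields
  let φx : T →+* X.residueField x := algebraMap T (X.residueField x)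
  let := (φx.comp (locQuotMap f x y h)).toAlgebra
  let := (f.residueFieldMap x).hom.toAlgebra
  have : IsScalarTower R (Y.residueField (f x)) (X.residueField x) := by
    refine IsScalarTower.of_algebraMap_eq fun r => ?_
    obtain ⟨a, rfl⟩ := Ideal.Quotient.mk_surjective r
    exact specMap_stalkMap f x y h a
  have : IsScalarTower R T (X.residueField x) := IsScalarTower.of_algebraMap_eq fun _ => rfl
  have : FaithfulSMul R T := by
    refine (faithfulSMul_iff_algebraMap_injective R T).mpr fun a b hab => ?_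
    refine (Ord.algebraMap_injective (f y) (f x) (h.map f.continuous)) ((f.residueFieldMap x).hom.injective ?_)
    obtain ⟨a, rfl⟩ := Ideal.Quotient.mk_surjective a
    obtain ⟨b, rfl⟩ := Ideal.Quotient.mk_surjective b
    have := congrArg φx hab
    exact (specMap_stalkMap f x y h a).symm.trans (this.trans (specMap_stalkMap f x y h b))
  have : FaithfulSMul R S := by
    refine (faithfulSMul_iff_algebraMap_injective R S).mpr fun a b hab => ?_
    exact FaithfulSMul.algebraMap_injective R T (congrArg Subtype.val hab)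
  have : FaithfulSMul S T :=
    (faithfulSMul_iff_algebraMap_injective S T).mpr Subtype.val_injective
  have : Algebra.IsAlgebraic S T := IsLocalization.isAlgebraic T q.primeCompl
  have : Algebra.IsAlgebraic T (X.residueField x) :=
    IsLocalization.isAlgebraic _ (nonZeroDivisors T)
  have : Algebra.IsAlgebraic R (Y.residueField (f x)) :=
    IsLocalization.isAlgebraic _ (nonZeroDivisors R)
  have hS : Algebra.trdeg R S = Residue.trdegAt f x := by
    have h1 := trdeg_add_eq R S (A := T)
    have h2 := trdeg_add_eq R T (A := X.residueField x)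
    have h3 := trdeg_add_eq R (Y.residueField (f x)) (A := X.residueField x)
    rw [trdeg_eq_zero (R := S), add_zero] at h1
    rw [trdeg_eq_zero (R := T), add_zero] at h2
    rw [trdeg_eq_zero (R := R), zero_add] at h3
    exact h1.trans (h2.trans h3.symm)
  -- residue fields of the closed point
  let p : Ideal R := maximalIdeal R
  have hloc : ∀ r : R, algebraMap R T r ∈ maximalIdeal T ↔ r ∈ p := by
    intro r
    obtain ⟨a, rfl⟩ := Ideal.Quotient.mk_surjective r
    have h1 : ∀ (Z : Scheme.{u}) (z w : Z) (hw : w ⤳ z) (b : Z.presheaf.stalk z),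
        Ideal.Quotient.mk (RingHom.ker (Cyc.specMap z w hw)) b ∈ maximalIdeal _ ↔
          b ∈ maximalIdeal _ := fun Z z w hw b => by
      rw [← Ideal.mem_comap, IsLocalRing.maximalIdeal_comap]
    show locQuotMap f x y h (Ideal.Quotient.mk _ a) ∈ maximalIdeal _ ↔ _
    rw [locQuotMap_mk, h1, h1, mem_maximalIdeal, mem_maximalIdeal, mem_nonunits_iff,
      mem_nonunits_iff, isUnit_map_iff]
  have : q.LiesOver p := ⟨Ideal.ext fun r => (hloc r).symm⟩
  let ρy : T →+* X.residueField y := Ideal.Quotient.lift _ (X.residue y).hom fun a ha => by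
    refine IsLocalRing.residue_eq_zero_iff _ |>.mpr ?_
    exact le_maximalIdeal (RingHom.ker_isPrime (Cyc.specMap y x h)).ne_top ha
  let ρt : R →+* Y.residueField (f y) := Ideal.Quotient.lift _ (Y.residue (f y)).hom fun a ha => by
    refine IsLocalRing.residue_eq_zero_iff _ |>.mpr ?_
    exact le_maximalIdeal (RingHom.ker_isPrime (Cyc.specMap (f y) (f x) (h.map f.continuous))).ne_top ha
  let ψS : (S ⧸ q) →+* X.residueField y := Ideal.Quotient.lift q (ρy.comp S.val.toRingHom) (by
    rintro ⟨a, ha'⟩ ha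
    obtain ⟨b, rfl⟩ := Ideal.Quotient.mk_surjective a
    refine IsLocalRing.residue_eq_zero_iff _ |>.mpr ?_
    rw [← IsLocalRing.maximalIdeal_comap (Ideal.Quotient.mk (RingHom.ker (Cyc.specMap y x h)))]
    exact ha)
  let ψR : (R ⧸ p) →+* Y.residueField (f y) := Ideal.Quotient.lift p ρt (by
    intro a ha
    obtain ⟨b, rfl⟩ := Ideal.Quotient.mk_surjective a
    refine IsLocalRing.residue_eq_zero_iff _ |>.mpr ?_
    rw [← IsLocalRing.maximalIdeal_comap
      (Ideal.Quotient.mk (RingHom.ker (Cyc.specMap (f y) (f x) (h.map f.continuous))))]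
    exact ha)
  let := RingHom.toAlgebra (R := S ⧸ q) (S := X.residueField y) ψS
  let := RingHom.toAlgebra (R := R ⧸ p) (S := Y.residueField (f y)) ψR
  let := (f.residueFieldMap y).hom.toAlgebra
  let := ((f.residueFieldMap y).hom.comp ψR).toAlgebra
  have : IsScalarTower (R ⧸ p) (Y.residueField (f y)) (X.residueField y) :=
    IsScalarTower.of_algebraMap_eq (R := R ⧸ p) (S := Y.residueField (f y))
      (A := X.residueField y) fun _ => rfl
  have : IsScalarTower (R ⧸ p) (S ⧸ q) (X.residueField y) := by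
    refine IsScalarTower.of_algebraMap_eq (R := R ⧸ p) (S := S ⧸ q)
      (A := X.residueField y) fun r => ?_
    obtain ⟨r, rfl⟩ := Ideal.Quotient.mk_surjective r
    obtain ⟨a, rfl⟩ := Ideal.Quotient.mk_surjective r
    exact ConcreteCategory.congr_hom (Scheme.residue_residueFieldMap f y) a
  have : Algebra.IsAlgebraic (R ⧸ p) (Y.residueField (f y)) := by
    have : Module.Finite (R ⧸ p) (Y.residueField (f y)) := RingHom.Finite.of_surjective ψR fun a => by
      obtain ⟨b, rfl⟩ := Y.residue_surjective _ a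
      exact ⟨Ideal.Quotient.mk p (Ideal.Quotient.mk _ b), rfl⟩
    exact Algebra.IsAlgebraic.of_finite _ _
  have hψS : Function.Injective ψS := by
    rw [injective_iff_map_eq_zero]
    intro a ha
    obtain ⟨⟨a, ha'⟩, rfl⟩ := Ideal.Quotient.mk_surjective a
    obtain ⟨b, rfl⟩ := Ideal.Quotient.mk_surjective a
    refine Ideal.Quotient.eq_zero_iff_mem.mpr ?_
    show Ideal.Quotient.mk _ b ∈ maximalIdeal T
    rw [← Ideal.mem_comap, IsLocalRing.maximalIdeal_comap]
    exact IsLocalRing.residue_eq_zero_iff _ |>.mp ha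
  have : FaithfulSMul (S ⧸ q) (X.residueField y) :=
    (faithfulSMul_iff_algebraMap_injective _ _).mpr hψS
  have : FaithfulSMul (R ⧸ p) (S ⧸ q) := by
    refine (faithfulSMul_iff_algebraMap_injective _ _).mpr ((injective_iff_map_eq_zero _).mpr ?_)
    intro a ha
    obtain ⟨a, rfl⟩ := Ideal.Quotient.mk_surjective a
    exact Ideal.Quotient.eq_zero_iff_mem.mpr ((hloc a).mp
      (show algebraMap R S a ∈ q from Ideal.Quotient.eq_zero_iff_mem.mp ha))
  have : FaithfulSMul (R ⧸ p) (Y.residueField (f y)) :=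
    (faithfulSMul_iff_algebraMap_injective _ _).mpr ((injective_iff_map_eq_zero ψR).mpr fun a ha => by
      obtain ⟨a, rfl⟩ := Ideal.Quotient.mk_surjective a
      obtain ⟨b, rfl⟩ := Ideal.Quotient.mk_surjective a
      refine Ideal.Quotient.eq_zero_iff_mem.mpr ?_
      show Ideal.Quotient.mk _ b ∈ maximalIdeal R
      rw [← Ideal.mem_comap, IsLocalRing.maximalIdeal_comap]
      exact IsLocalRing.residue_eq_zero_iff _ |>.mp ha)
  have : Algebra.IsAlgebraic (S ⧸ q) (X.residueField y) := by
    refine ⟨fun z => ?_⟩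
    obtain ⟨w, rfl⟩ := X.residue_surjective y z
    obtain ⟨a, b, hb, hab⟩ := hfrac (Ideal.Quotient.mk _ w)
    refine ⟨Polynomial.C (Ideal.Quotient.mk q b) * Polynomial.X -
      Polynomial.C (Ideal.Quotient.mk q a), ?_, ?_⟩
    · intro h0
      have h1 := congrArg (fun p => Polynomial.coeff p 1) h0
      simp at h1
      exact hb (Ideal.Quotient.eq_zero_iff_mem.mp h1)
    · simp only [map_sub, map_mul, Polynomial.aeval_C, Polynomial.aeval_X]
      show ρy (b : T) * ρy (Ideal.Quotient.mk _ w) - ρy (a : T) = 0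
      rw [← map_mul, mul_comm, hab, sub_self]
  have hSq : Algebra.trdeg (R ⧸ p) (S ⧸ q) = Residue.trdegAt f y := by
    have h1 := trdeg_add_eq (R ⧸ p) (S ⧸ q) (A := X.residueField y)
    have h2 := trdeg_add_eq (R ⧸ p) (Y.residueField (f y)) (A := X.residueField y)
    rw [trdeg_eq_zero (R := S ⧸ q), add_zero] at h1
    rw [trdeg_eq_zero (R := R ⧸ p), zero_add] at h2
    exact h1.trans h2.symm
  have key := Groth.Agent.S0555.result R (isUniversallyCatenary_quotient (huc (f y)) _) S p q
  rw [hS, hSq, trdegAt_natCast f hδ, trdegAt_natCast f hδ] at key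
  have hp : p.height = ((δY (f x) - δY (f y)).toNat : ℕ∞) := by
    have h1 := IsLocalRing.maximalIdeal_height_eq_ringKrullDim (R := R)
    rw [DimFun.ringKrullDim_locQuot hδY (f y) (f x) (h.map f.continuous)] at h1
    exact_mod_cast h1
  have : IsNoetherianRing S := Algebra.FiniteType.isNoetherianRing R S
  obtain ⟨n, hn⟩ := ENat.ne_top_iff_exists.mp (Ideal.height_ne_top (I := q) hq.ne_top)
  refine ⟨n, ?_, ?_⟩
  · rw [IsLocalization.AtPrime.ringKrullDim_eq_height q T, ← hn]
    rfl
  · rw [← hn, hp] at key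
    simp only [Cardinal.ofENat_nat] at key
    have e : n + (δX y - δY (f y)).toNat =
        (δY (f x) - δY (f y)).toNat + (δX x - δY (f x)).toNat := by exact_mod_cast key
    have := Residue.deltaY_le hδ x
    have := Residue.deltaY_le hδ y
    have := DimFun.le_of_specializes hδY (h.map f.continuous)
    omega

/-- A function computing the dimensions of the local rings of closures is a dimension function. -/
theorem isDimFun_of_locQuot {δX : X → ℤ}
    (H : ∀ (x y : X) (h : x ⤳ y), ∃ n : ℕ,
      ringKrullDim (Cyc.LocQuot y x h) = (n : WithBot ℕ∞) ∧ δX x = δX y + n) :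
    Cyc.IsDimFun X δX := by
  intro x y h hne
  obtain ⟨n, hn, heq⟩ := H x y h
  rw [ringKrullDim_quotient] at hn
  let Z := PrimeSpectrum.zeroLocus (R := X.presheaf.stalk y)
    (RingHom.ker (Cyc.specMap y x h) : Set (X.presheaf.stalk y))
  have hx : DimFun.genPrime y x h ∈ Z := fun a ha => ha
  have hy : closedPoint (X.presheaf.stalk y) ∈ Z := fun a ha =>
    le_maximalIdeal (DimFun.genPrime y x h).isPrime.ne_top ha
  have hlt : (⟨_, hx⟩ : Z) < ⟨_, hy⟩ := by
    refine lt_of_le_of_ne (le_maximalIdeal (DimFun.genPrime y x h).isPrime.ne_top) fun he => hne ?_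
    have := congrArg (fun z : Z => X.fromSpecStalk y z.1) he
    simp only [DimFun.fromSpecStalk_genPrime, Scheme.fromSpecStalk_closedPoint] at this
    exact this
  have h1 : 1 ≤ n := by
    have := (Order.le_krullDim_iff (α := Z) (n := 1)).mpr
      ⟨(RelSeries.singleton _ (⟨_, hx⟩ : Z)).snoc ⟨_, hy⟩ hlt, rfl⟩
    change _ ≤ Order.krullDim _ at this
    rw [hn] at this
    exact_mod_cast this
  refine ⟨by omega, fun himm => ?_⟩
  suffices n ≤ 1 by omega
  have h2 : Order.krullDim Z ≤ 1 := by
    refine iSup_le fun l => ?_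
    by_contra hl
    have hlen : 2 ≤ l.length := by
      by_contra hc
      exact hl (by exact_mod_cast (show l.length ≤ 1 by omega))
    have hpt : ∀ p : Z, p = (⟨_, hx⟩ : Z) ∨ p = ⟨_, hy⟩ := by
      intro p
      have h3 : x ⤳ X.fromSpecStalk y p.1 := by
        conv_lhs => rw [← DimFun.fromSpecStalk_genPrime y x h]
        exact (DimFun.fromSpecStalk_specializes_iff y _ _).mpr p.2
      rcases himm _ h3 (DimFun.fromSpecStalk_specializes_self y p.1) with e | e
      · exact Or.inl (Subtype.ext (DimFun.fromSpecStalk_injective y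
          (e.trans (DimFun.fromSpecStalk_genPrime y x h).symm)))
      · exact Or.inr (Subtype.ext (DimFun.fromSpecStalk_injective y
          (e.trans Scheme.fromSpecStalk_closedPoint.symm)))
    have a := LTSeries.strictMono l (show (⟨0, by omega⟩ : Fin (l.length + 1)) < ⟨1, by omega⟩ from Fin.mk_lt_mk.mpr Nat.zero_lt_one)
    have b := LTSeries.strictMono l (show (⟨1, by omega⟩ : Fin (l.length + 1)) < ⟨2, by omega⟩ from Fin.mk_lt_mk.mpr Nat.one_lt_two)
    rcases hpt (l ⟨0, by omega⟩) with ha | ha <;> rcases hpt (l ⟨1, by omega⟩) with hb | hb <;>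
      rcases hpt (l ⟨2, by omega⟩) with hc | hc <;> rw [ha, hb] at a <;> rw [hb, hc] at b <;>
      first
        | exact lt_irrefl _ a
        | exact lt_irrefl _ b
        | exact (lt_asymm a b).elim
  rw [hn] at h2
  exact_mod_cast h2

theorem isDimFun [LocallyOfFiniteType f] [IsLocallyNoetherian Y]
    {δY : Y → ℤ} (hδY : Cyc.IsDimFun Y δY)
    (huc : ∀ t : Y, CAlg.IsUniversallyCatenary (Y.presheaf.stalk t))
    {δX : X → ℤ} (hδ : Cyc.DeltaCompat f δX δY) : Cyc.IsDimFun X δX :=
  isDimFun_of_locQuot fun x y h => ringKrullDim_locQuot_eq f hδY huc hδ x y h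

/-- `dim O_{X,x}` as the height of the corresponding prime of a specialization. -/
theorem height_genPrime (x y : X) (h : y ⤳ x) :
    ((RingHom.ker (Cyc.specMap x y h)).height : WithBot ℕ∞) =
      ringKrullDim (X.presheaf.stalk y) := by
  have h0 : (RingHom.ker (Cyc.specMap x y h)).height = Order.height (DimFun.genPrime x y h) :=
    PrimeSpectrum.height_eq_orderHeight (DimFun.genPrime x y h)
  rw [h0, Order.height_eq_krullDim_Iic]
  have hy : ∀ p : PrimeSpectrum (X.presheaf.stalk y), (X.fromSpecStalk y p) ⤳ x :=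
    fun p => (DimFun.fromSpecStalk_specializes_self y p).trans h
  let e : PrimeSpectrum (X.presheaf.stalk y) ≃o Set.Iic (DimFun.genPrime x y h) :=
    { toFun := fun p => ⟨DimFun.genPrime x _ (hy p),
        (DimFun.genPrime_le_iff x _ _ _ _).mpr (DimFun.fromSpecStalk_specializes_self y p)⟩
      invFun := fun q => DimFun.genPrime y (X.fromSpecStalk x q.1)
        (((DimFun.fromSpecStalk_specializes_iff x q.1 (DimFun.genPrime x y h)).mpr q.2).trans
          (specializes_of_eq (DimFun.fromSpecStalk_genPrime x y h)))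
      left_inv := fun p => by
        apply DimFun.fromSpecStalk_injective y
        simp [DimFun.fromSpecStalk_genPrime]
      right_inv := fun q => by
        apply Subtype.ext
        apply DimFun.fromSpecStalk_injective x
        simp [DimFun.fromSpecStalk_genPrime]
      map_rel_iff' := fun {p q} => by
        show DimFun.genPrime x _ (hy p) ≤ DimFun.genPrime x _ (hy q) ↔ p ≤ q
        rw [DimFun.genPrime_le_iff, DimFun.fromSpecStalk_specializes_iff] }
  exact (Order.krullDim_eq_of_orderIso e).symm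

end Groth.Agent.Lib.Cyc.InducedDimFun
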