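import Groth.Prelude.Def_Found
import Groth.Agent.Lib.Dim.Basic
import Mathlib.RingTheory.Ideal.KrullsHeightTheorem
import Mathlib.RingTheory.Ideal.GoingDown
import Mathlib.RingTheory.MvPolynomial.Localization
import Mathlib.RingTheory.Polynomial.Quotient
import Mathlib.RingTheory.Polynomial.Basic
import Mathlib.RingTheory.Localization.FractionRing

/-!
# The dimension formula through polynomial rings
-/

set_option autoImplicit false

universe u

namespace Groth.Agent.Lib.Cyc.DimFormula

open MvPolynomial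

/-- For a domain `T = R[X₁,…,Xₙ]/Q` with `R → T` injective, `ht Q + trdeg_R T = n`. -/
theorem height_ker_add_trdeg_of_injective {R : Type u} [CommRing R] [IsDomain R] {T : Type u}
    [CommRing T] [IsDomain T] [Algebra R T] [FaithfulSMul R T] {n : ℕ}
    (φ : MvPolynomial (Fin n) R →ₐ[R] T) (hφ : Function.Surjective φ) :
    ∃ t : ℕ, Algebra.trdeg R T = (t : Cardinal) ∧
      (RingHom.ker φ).height + (t : ℕ∞) = (n : ℕ∞) := by
  let K := FractionRing R
  let AK := MvPolynomial (Fin n) K
  letI : Algebra (MvPolynomial (Fin n) R) AK := MvPolynomial.algebraMvPolynomial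
  have hloc : IsLocalization ((nonZeroDivisors R).map (MvPolynomial.C (σ := Fin n))) AK :=
    MvPolynomial.isLocalization _ K
  set Q := RingHom.ker φ with hQ
  have hQp : Q.IsPrime := RingHom.ker_isPrime φ
  have hdisj : Disjoint (((nonZeroDivisors R).map (MvPolynomial.C (σ := Fin n)) :
      Submonoid (MvPolynomial (Fin n) R)) : Set (MvPolynomial (Fin n) R)) (Q : Set _) := by
    rw [Set.disjoint_left]
    rintro _ ⟨r, hr, rfl⟩ hrQ
    have h0 : algebraMap R T r = 0 := by rw [← φ.commutes r]; exact hrQ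
    exact nonZeroDivisors.ne_zero hr ((FaithfulSMul.algebraMap_injective R T) (h0.trans (map_zero _).symm))
  set Q' := Q.map (algebraMap (MvPolynomial (Fin n) R) AK) with hQ'
  have hQ'p : Q'.IsPrime := IsLocalization.isPrime_of_isPrime_disjoint _ AK Q hQp hdisj
  have hcomap : Q'.comap (algebraMap (MvPolynomial (Fin n) R) AK) = Q :=
    IsLocalization.under_map_of_isPrime_disjoint _ AK hQp hdisj
  have hht : Q'.height = Q.height := IsLocalization.height_map_of_disjoint _ Q hdisj
  -- the map `R[X]/Q → K[X]/Q'`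
  let j : (MvPolynomial (Fin n) R ⧸ Q) →+* (AK ⧸ Q') :=
    Ideal.quotientMap Q' (algebraMap (MvPolynomial (Fin n) R) AK) hcomap.ge
  have hj : Function.Injective j := Ideal.quotientMap_injective' hcomap.le
  let := RingHom.toAlgebra (R := MvPolynomial (Fin n) R ⧸ Q) (S := AK ⧸ Q') j
  have : FaithfulSMul (MvPolynomial (Fin n) R ⧸ Q) (AK ⧸ Q') :=
    (faithfulSMul_iff_algebraMap_injective _ _).mpr hj
  have hK : Algebra.trdeg R K = 0 := by
    have : Algebra.IsAlgebraic R K := IsLocalization.isAlgebraic K (nonZeroDivisors R)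
    exact trdeg_eq_zero (R := R) (A := K)
  have : IsScalarTower R (MvPolynomial (Fin n) R ⧸ Q) (AK ⧸ Q') := by
    refine IsScalarTower.of_algebraMap_eq (R := R) (S := MvPolynomial (Fin n) R ⧸ Q) (A := AK ⧸ Q') fun r => ?_
    show Ideal.Quotient.mk Q' (algebraMap R AK r) =
      Ideal.Quotient.mk Q' (algebraMap (MvPolynomial (Fin n) R) AK (C r))
    congr 1
    show algebraMap R AK r = MvPolynomial.map (algebraMap R K) (C r)
    rw [map_C]
    rfl
  have hQ'R : ∀ r : R, r ≠ 0 → Ideal.Quotient.mk Q' (algebraMap R AK r) ≠ 0 := by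
    intro r hr h0
    rw [Ideal.Quotient.eq_zero_iff_mem] at h0
    refine hQ'p.ne_top (Ideal.eq_top_of_isUnit_mem _ h0 ?_)
    show IsUnit (C (algebraMap R K r))
    exact (isUnit_iff_ne_zero.mpr
      ((map_ne_zero_iff _ (IsFractionRing.injective R K)).mpr hr)).map _
  have : Algebra.IsAlgebraic (MvPolynomial (Fin n) R ⧸ Q) (AK ⧸ Q') := by
    refine ⟨fun x => ?_⟩
    obtain ⟨y, rfl⟩ := Ideal.Quotient.mk_surjective x
    obtain ⟨⟨a, ⟨_, s, hs, rfl⟩⟩, hy⟩ :=
      IsLocalization.surj ((nonZeroDivisors R).map (MvPolynomial.C (σ := Fin n))) y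
    refine ⟨Polynomial.C (Ideal.Quotient.mk Q (C s)) * Polynomial.X -
      Polynomial.C (Ideal.Quotient.mk Q a), ?_, ?_⟩
    · intro h0
      have h1 := congrArg (fun p => Polynomial.coeff p 1) h0
      simp at h1
      refine Set.disjoint_left.mp hdisj ⟨s, hs, rfl⟩ ?_
      exact Ideal.Quotient.eq_zero_iff_mem.mp h1
    · simp only [map_sub, map_mul, Polynomial.aeval_C, Polynomial.aeval_X]
      show Ideal.Quotient.mk Q' (algebraMap (MvPolynomial (Fin n) R) AK (C s)) * Ideal.Quotient.mk Q' y -
        Ideal.Quotient.mk Q' (algebraMap (MvPolynomial (Fin n) R) AK a) = 0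
      rw [← map_mul, sub_eq_zero, mul_comm]
      exact congrArg _ hy
  have : FaithfulSMul R (MvPolynomial (Fin n) R ⧸ Q) := by
    refine (faithfulSMul_iff_algebraMap_injective _ _).mpr ((injective_iff_map_eq_zero _).mpr ?_)
    intro r hr
    by_contra hr0
    exact Set.disjoint_left.mp hdisj ⟨r, mem_nonZeroDivisors_of_ne_zero hr0, rfl⟩
      (Ideal.Quotient.eq_zero_iff_mem.mp hr)
  have : FaithfulSMul R (AK ⧸ Q') := by
    refine ⟨fun {r r'} h => ?_⟩
    have h1 : (Ideal.Quotient.mk Q' (algebraMap R AK (r - r'))) = 0 := by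
      have := h (Ideal.Quotient.mk Q' 1)
      change Ideal.Quotient.mk Q' (r • (1 : AK)) = Ideal.Quotient.mk Q' (r' • (1 : AK)) at this
      rw [map_sub, map_sub, sub_eq_zero, Algebra.algebraMap_eq_smul_one,
        Algebra.algebraMap_eq_smul_one]
      exact this
    by_contra hne
    exact hQ'R _ (sub_ne_zero.mpr hne) h1
  have h1 := trdeg_add_eq R (MvPolynomial (Fin n) R ⧸ Q) (A := AK ⧸ Q')
  rw [trdeg_eq_zero (R := MvPolynomial (Fin n) R ⧸ Q), add_zero] at h1
  have h2 := trdeg_add_eq R K (A := AK ⧸ Q')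
  rw [hK, zero_add, Dim.Basic.trdeg_quotient K Q'] at h2
  refine ⟨Dim.Basic.dimQ K Q', ?_, ?_⟩
  · rw [← (Ideal.quotientKerAlgEquivOfSurjective hφ).trdeg_eq]
    exact h1.trans h2.symm
  · rw [← hht, Dim.Basic.height_add_dimQ K Q']
    have : Algebra.trdeg K AK = (n : Cardinal) := by simp [AK, MvPolynomial.trdeg_of_isDomain]
    rw [Dim.Basic.trdegNat, this, Cardinal.toNat_natCast]

/-- For a domain `T = R[X₁,…,Xₙ]/Q` over a Noetherian ring, `ht Q + trdeg_{R/p} T = ht p + n`
where `p` is the kernel of `R → T`. -/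
theorem height_ker_add_trdeg {R : Type u} [CommRing R] [IsNoetherianRing R] (p : Ideal R)
    [p.IsPrime] {T : Type u} [CommRing T] [IsDomain T] [Algebra R T] [Algebra (R ⧸ p) T]
    [IsScalarTower R (R ⧸ p) T] [FaithfulSMul (R ⧸ p) T] {n : ℕ}
    (φ : MvPolynomial (Fin n) R →ₐ[R] T) (hφ : Function.Surjective φ) :
    ∃ t : ℕ, Algebra.trdeg (R ⧸ p) T = (t : Cardinal) ∧
      (RingHom.ker φ).height + (t : ℕ∞) = p.height + (n : ℕ∞) := by
  let ψ : MvPolynomial (Fin n) (R ⧸ p) →ₐ[R ⧸ p] T := aeval fun i => φ (X i)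
  let π : MvPolynomial (Fin n) R →+* MvPolynomial (Fin n) (R ⧸ p) :=
    MvPolynomial.map (Ideal.Quotient.mk p)
  have hπ : Function.Surjective π := MvPolynomial.map_surjective _ Ideal.Quotient.mk_surjective
  have hcomp : ψ.toRingHom.comp π = φ.toRingHom := by
    refine MvPolynomial.ringHom_ext (fun r => ?_) (fun i => ?_)
    · simp [ψ, π, ← IsScalarTower.algebraMap_apply R (R ⧸ p) T,
        ← Ideal.Quotient.algebraMap_eq]
    · simp [ψ, π]
  have hψ : Function.Surjective ψ := fun t => by
    obtain ⟨a, rfl⟩ := hφ t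
    exact ⟨π a, RingHom.congr_fun hcomp a⟩
  obtain ⟨t, ht, ht'⟩ := height_ker_add_trdeg_of_injective ψ hψ
  refine ⟨t, ht, ?_⟩
  set Q := RingHom.ker φ with hQ
  have hQp : Q.IsPrime := RingHom.ker_isPrime φ
  have hover : Q.LiesOver p := by
    refine ⟨?_⟩
    ext r
    show r ∈ p ↔ φ (algebraMap R _ r) = 0
    rw [φ.commutes, IsScalarTower.algebraMap_apply R (R ⧸ p) T,
      map_eq_zero_iff _ (FaithfulSMul.algebraMap_injective (R ⧸ p) T), Ideal.Quotient.algebraMap_eq,
      Ideal.Quotient.eq_zero_iff_mem]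
  have hQker : Q = (RingHom.ker ψ).comap π := by
    ext a
    exact (congrArg (· = 0) (RingHom.congr_fun hcomp a)).to_iff.symm
  let e := (MvPolynomial.quotientEquivQuotientMvPolynomial (σ := Fin n) p).toRingEquiv
  have he : Ideal.Quotient.mk (Ideal.map C p : Ideal (MvPolynomial (Fin n) R)) =
      e.toRingHom.comp π := by
    refine MvPolynomial.ringHom_ext (fun r => ?_) (fun i => ?_)
    · simp [e, π, MvPolynomial.quotientEquivQuotientMvPolynomial]
    · simp [e, π, MvPolynomial.quotientEquivQuotientMvPolynomial]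
  have h := Ideal.height_eq_height_add_of_liesOver_of_hasGoingDown p Q
  rw [MvPolynomial.algebraMap_eq, he, ← Ideal.map_map] at h
  have hmap : Q.map π = RingHom.ker ψ := by
    rw [hQker, Ideal.map_comap_of_surjective _ hπ]
  rw [hmap] at h
  have hh : (Ideal.map e.toRingHom (RingHom.ker ψ)).height = (RingHom.ker ψ).height :=
    e.height_map _
  rw [hh] at h
  rw [h, add_assoc, ht']

section Chains

variable {α : Type*} [PartialOrder α]

/-- A chain of maximal length below its end is saturated. -/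
theorem covBy_of_length_eq_height (l : LTSeries α) (h : (l.length : ℕ∞) = Order.height l.last)
    (i : Fin l.length) : l (Fin.castSucc i) ⋖ l (Fin.succ i) := by
  refine ⟨l.step i, fun z hz1 hz2 => ?_⟩
  let l' := l.insertNth i z hz1 hz2
  have hle : ∀ k, l' k ≤ l.last := by
    intro k
    change Fin.insertNth (α := fun _ => α) (Fin.castSucc i.succ) z l.toFun k ≤ _
    rcases Fin.eq_self_or_eq_succAbove (Fin.castSucc i.succ) k with rfl | ⟨j, rfl⟩
    · rw [Fin.insertNth_apply_same]
      exact hz2.le.trans (LTSeries.monotone l (Fin.le_last _))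
    · rw [Fin.insertNth_apply_succAbove]
      exact LTSeries.monotone l (Fin.le_last _)
  have := Order.length_le_height (p := l') (x := l.last) (hle _)
  rw [← h] at this
  have : l.length + 1 ≤ l.length := by exact_mod_cast this
  omega

end Chains

/-- `ht (Q/P) + ht P ≤ ht Q`, with equality in a catenary domain. -/
theorem height_map_add {A : Type u} [CommRing A] [IsNoetherianRing A] {S : Type u} [CommRing S]
    [IsDomain S] [IsNoetherianRing S] (φ : A →+* S) (hφ : Function.Surjective φ) (q : Ideal S)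
    [q.IsPrime] :
    q.height + (RingHom.ker φ).height ≤ (q.comap φ).height ∧
      (IsDomain A → CAlg.IsCatenary A →
        q.height + (RingHom.ker φ).height = (q.comap φ).height) := by
  have hP : (RingHom.ker φ).IsPrime := RingHom.ker_isPrime φ
  obtain ⟨lP, hlP, hlenP⟩ := (RingHom.ker φ).exists_ltSeries_length_eq_height
  obtain ⟨lq, hlq, hlenq⟩ := q.exists_ltSeries_length_eq_height
  obtain ⟨lQ, hlQ, hlenQ⟩ := (q.comap φ).exists_ltSeries_length_eq_height
  let m : LTSeries (PrimeSpectrum A) :=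
    lq.map (PrimeSpectrum.comap φ) (RingHom.strictMono_comap_of_surjective hφ)
  have hlP' : lP.last = ⟨RingHom.ker φ, hP⟩ := hlP
  have hlq' : lq.last = ⟨q, inferInstance⟩ := hlq
  have hheadq : lq.head = ⟨⊥, Ideal.isPrime_bot⟩ := by
    by_contra hne
    have hlt : (⟨⊥, Ideal.isPrime_bot⟩ : PrimeSpectrum S) < lq.head :=
      lt_of_le_of_ne (show (⊥ : Ideal S) ≤ _ from bot_le) (Ne.symm hne)
    have := Order.length_le_height (p := lq.cons ⟨⊥, Ideal.isPrime_bot⟩ hlt) (x := lq.last)
      (RelSeries.last_cons _ _ _).le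
    rw [hlq', ← PrimeSpectrum.height_eq_orderHeight] at this
    rw [← hlenq] at this
    simp at this
    have : lq.length + 1 ≤ lq.length := by exact_mod_cast this
    omega
  have hglue : lP.last = m.head := by
    rw [hlP', LTSeries.head_map, hheadq]
    rfl
  let s := RelSeries.smash lP m hglue
  have hs : (s.length : ℕ∞) = q.height + (RingHom.ker φ).height := by
    rw [← hlenP, ← hlenq, ← Nat.cast_add, add_comm]
    rfl
  have hslast : s.last = ⟨q.comap φ, inferInstance⟩ := by
    show (RelSeries.smash lP m hglue).last = _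
    rw [RelSeries.last_smash, LTSeries.last_map, hlq']
    rfl
  refine ⟨?_, fun hA hcat => ?_⟩
  · rw [← hs, show (q.comap φ).height = Order.height (⟨q.comap φ, inferInstance⟩ :
      PrimeSpectrum A) from PrimeSpectrum.height_eq_orderHeight ⟨q.comap φ, inferInstance⟩]
    exact Order.length_le_height hslast.le
  · have hsatQ : ∀ i, lQ (Fin.castSucc i) ⋖ lQ (Fin.succ i) := covBy_of_length_eq_height lQ (by
      rw [hlenQ, ← PrimeSpectrum.height_eq_orderHeight, hlQ])
    have hsatP : ∀ i, lP (Fin.castSucc i) ⋖ lP (Fin.succ i) := covBy_of_length_eq_height lP (by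
      rw [hlenP, ← PrimeSpectrum.height_eq_orderHeight, hlP])
    have hsatq : ∀ i, lq (Fin.castSucc i) ⋖ lq (Fin.succ i) := covBy_of_length_eq_height lq (by
      rw [hlenq, ← PrimeSpectrum.height_eq_orderHeight, hlq])
    have hsatm : ∀ i, m (Fin.castSucc i) ⋖ m (Fin.succ i) := fun i => by
      refine ⟨m.step i, fun z hz1 hz2 => ?_⟩
      have hker : RingHom.ker φ ≤ z.asIdeal := le_trans (by
        show RingHom.ker φ ≤ (lq (Fin.castSucc i)).asIdeal.comap φ
        exact Ideal.comap_mono bot_le) hz1.le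
      have : (z.asIdeal.map φ).IsPrime := Ideal.map_isPrime_of_surjective hφ hker
      have hz : PrimeSpectrum.comap φ ⟨z.asIdeal.map φ, this⟩ = z := PrimeSpectrum.ext
        ((Ideal.comap_map_of_surjective' φ hφ _).trans (sup_eq_left.mpr hker))
      rw [← hz] at hz1 hz2
      have hle : ∀ a b : PrimeSpectrum S, PrimeSpectrum.comap φ a < PrimeSpectrum.comap φ b →
          a < b := fun a b h => lt_of_le_not_ge
        ((Ideal.comap_le_comap_iff_of_surjective _ hφ _ _).mp h.le)
        fun h' => h.not_ge (Ideal.comap_mono h')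
      exact (hsatq i).2 (hle _ _ hz1) (hle _ _ hz2)
    have hmin : ∀ l : LTSeries (PrimeSpectrum A), (l.length : ℕ∞) = Order.height l.last →
        l.head = ⟨⊥, Ideal.isPrime_bot⟩ := fun l hl => by
      by_contra hne
      have hlt : (⟨⊥, Ideal.isPrime_bot⟩ : PrimeSpectrum A) < l.head :=
        lt_of_le_of_ne (show (⊥ : Ideal A) ≤ _ from bot_le) (Ne.symm hne)
      have := Order.length_le_height (p := l.cons ⟨⊥, Ideal.isPrime_bot⟩ hlt) (x := l.last)
        (RelSeries.last_cons _ _ _).le
      rw [← hl] at this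
      simp at this
      have : l.length + 1 ≤ l.length := by exact_mod_cast this
      omega
    have hhead : s.head = lQ.head := by
      show (RelSeries.smash lP m hglue).head = _
      rw [RelSeries.head_smash, hmin lP (by rw [hlenP, ← PrimeSpectrum.height_eq_orderHeight, hlP]),
        hmin lQ (by rw [hlenQ, ← PrimeSpectrum.height_eq_orderHeight, hlQ])]
    have hsat : ∀ i, s (Fin.castSucc i) ⋖ s (Fin.succ i) := by
      intro i
      refine Fin.addCases (fun j => ?_) (fun j => ?_) i
      · exact (RelSeries.smash_castAdd hglue j) ▸ (RelSeries.smash_succ_castAdd hglue j) ▸ hsatP j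
      · exact (RelSeries.smash_natAdd hglue j) ▸ (RelSeries.smash_succ_natAdd hglue j) ▸ hsatm j
    have hlast : s.last = lQ.last := hslast.trans hlQ.symm
    rw [← hs, ← hlenQ, hcat.2 s lQ hhead hlast hsat hsatQ]

end Groth.Agent.Lib.Cyc.DimFormula
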