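import Groth.Agent.Lib.Cyc.Ord
import Groth.Agent.Lib.Modules.FreeStalk
import Groth.Agent.Lib.Modules.StalkModule
import Groth.Agent.Lib.TensorMod.Gen
import Groth.Prelude.Def_C1
import Mathlib.AlgebraicGeometry.FunctionField

/-!
# Fibres of invertible modules and divisors of sections
-/

set_option autoImplicit false

universe u

namespace Groth.Agent.Lib.Cyc.C1

open AlgebraicGeometry CategoryTheory Groth.Agent.Lib Groth.Agent.Lib.TensorMod

variable {X : Scheme.{u}} {L : X.Modules}

/-- Stalks of an invertible module are generated by one element. -/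
theorem exists_stalk_gen (hL : PicF.IsInvertible L) (x : X) :
    ∃ t : L.presheaf.stalk x, Submodule.span (X.presheaf.stalk x) {t} = ⊤ := by
  obtain ⟨U, e, hx, he⟩ := Gen.isInvertible_iff.1 hL x
  refine ⟨L.presheaf.germ U x hx e, eq_top_iff.mpr fun v _ => ?_⟩
  obtain ⟨V, hxV, m, rfl⟩ := TopCat.Presheaf.exists_germ_eq L.presheaf v
  obtain ⟨a, ha⟩ := (he (V ⊓ U) inf_le_right).2 (L.presheaf.map (homOfLE inf_le_left).op m)
  refine Submodule.mem_span_singleton.mpr ⟨X.presheaf.germ (V ⊓ U) x ⟨hxV, hx⟩ a, ?_⟩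
  rw [← TopCat.Presheaf.germ_res_apply L.presheaf (homOfLE (inf_le_left : V ⊓ U ≤ V)) x ⟨hxV, hx⟩ m,
    ← ha, Modules.StalkModule.germ_smul]
  congr 1
  exact (TopCat.Presheaf.germ_res_apply L.presheaf (homOfLE (inf_le_right : V ⊓ U ≤ U)) x
    ⟨hxV, hx⟩ e).symm

theorem stalkSpecializes_smul (L : X.Modules) {x ξ : X} (h : ξ ⤳ x) (a : X.presheaf.stalk x)
    (v : L.presheaf.stalk x) :
    L.presheaf.stalkSpecializes h (a • v) =
      X.presheaf.stalkSpecializes h a • L.presheaf.stalkSpecializes h v := by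
  obtain ⟨V, hx, r, m, rfl, rfl⟩ := Modules.StalkModule.exists_germ_eq₂ a v
  have hξ : ξ ∈ V := h.mem_open V.2 hx
  have e : ∀ m' : Γ(L, V), L.presheaf.stalkSpecializes h (L.presheaf.germ V x hx m') =
      L.presheaf.germ V ξ hξ m' :=
    fun m' => ConcreteCategory.congr_hom
      (TopCat.Presheaf.germ_stalkSpecializes L.presheaf hx h) m'
  have e' : X.presheaf.stalkSpecializes h (X.presheaf.germ V x hx r) = X.presheaf.germ V ξ hξ r :=
    ConcreteCategory.congr_hom (TopCat.Presheaf.germ_stalkSpecializes X.presheaf hx h) r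
  rw [← Modules.StalkModule.germ_smul hx r m, e, e, e', Modules.StalkModule.germ_smul]

/-- `m_η = 0` at the generic point, so `L(η) = L_η`. -/
theorem secFibre_mk_ne_zero [IsIntegral X] (L : X.Modules)
    {v : L.presheaf.stalk (genericPoint X)} (hv : v ≠ 0) :
    (Submodule.Quotient.mk v : Cyc.secFibre L (genericPoint X)) ≠ 0 := by
  intro h0
  rw [Submodule.Quotient.mk_eq_zero] at h0
  have : IsField (X.presheaf.stalk (genericPoint X)) := (Field.toIsField X.functionField)
  rw [(IsLocalRing.isField_iff_maximalIdeal_eq).mp this, Submodule.bot_smul] at h0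
  exact hv ((Submodule.mem_bot _).mp h0)

/-- If `s = φ • t̄` and `s = ψ • t̄` with `s ≠ 0`, then `φ` and `ψ` have the same residue. -/
theorem residue_eq_of_smul_eq {ξ : X} {s t : Cyc.secFibre L ξ} (hs : s ≠ 0)
    {φ ψ : X.presheaf.stalk ξ} (hφ : s = φ • t) (hψ : s = ψ • t) :
    X.residue ξ φ = X.residue ξ ψ := by
  by_contra hne
  have h1 : IsUnit (φ - ψ) := by
    by_contra hu
    have : X.residue ξ (φ - ψ) = 0 :=
      (IsLocalRing.residue_eq_zero_iff _).mpr ((IsLocalRing.mem_maximalIdeal _).mpr hu)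
    rw [map_sub, sub_eq_zero] at this
    exact hne this
  have h2 : (φ - ψ) • t = 0 := by rw [sub_smul, ← hφ, ← hψ, sub_self]
  have ht : t = 0 := (h1.smul_eq_zero).mp h2
  exact hs (by rw [hφ, ht, smul_zero])

/-- On an integral scheme the local ring is the local ring of the whole space at `x`. -/
theorem ker_specMap_genericPoint [IsIntegral X] (x : X) (h : genericPoint X ⤳ x) :
    RingHom.ker (Cyc.specMap x (genericPoint X) h) = ⊥ := by
  rw [← RingHom.injective_iff_ker_eq_bot]
  have : Function.Injective (algebraMap (X.presheaf.stalk x) X.functionField) :=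
    IsFractionRing.injective _ _
  have hres : Function.Injective (X.residue (genericPoint X)) :=
    RingHom.injective (R := X.functionField) (X.residue (genericPoint X)).hom
  exact hres.comp this

section Unit

/-- The germ of `1` in the stalk of the structure module. -/
noncomputable def one (x : X) : (Coh.structureModule X).presheaf.stalk x :=
  (Coh.structureModule X).presheaf.germ ⊤ x trivial (Gen.one X ⊤)

theorem germ_one (U : X.Opens) (x : X) (hx : x ∈ U) :
    (Coh.structureModule X).presheaf.germ U x hx (Gen.one X U) = one x := by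
  rw [one, ← TopCat.Presheaf.germ_res_apply (Coh.structureModule X).presheaf
    (homOfLE (le_top : U ≤ ⊤)) x hx (Gen.one X ⊤)]
  congr 1
  exact (map_one (X.presheaf.map (homOfLE (le_top : U ≤ ⊤)).op).hom).symm

theorem span_one (x : X) :
    Submodule.span (X.presheaf.stalk x) {one x} = ⊤ := by
  refine eq_top_iff.mpr fun v _ => ?_
  obtain ⟨U, hx, m, rfl⟩ := TopCat.Presheaf.exists_germ_eq (Coh.structureModule X).presheaf v
  refine Submodule.mem_span_singleton.mpr ⟨X.presheaf.germ U x hx m, ?_⟩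
  rw [← germ_one U x hx, ← Modules.StalkModule.germ_smul]
  congr 1
  exact mul_one (show Γ(X, U) from m)

theorem stalkSpecializes_one {x ξ : X} (h : ξ ⤳ x) :
    (Coh.structureModule X).presheaf.stalkSpecializes h (one x) = one ξ :=
  ConcreteCategory.congr_hom
    (TopCat.Presheaf.germ_stalkSpecializes (Coh.structureModule X).presheaf (U := ⊤) (y := x)
      trivial h) _

theorem eq_zero_of_smul_one_eq_zero {x : X} {a : X.presheaf.stalk x} (h : a • one x = 0) :
    a = 0 := by
  have := congrArg (Modules.FreeStalk.unitStalkToRing x) h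
  rw [Modules.FreeStalk.unitStalkToRing_smul, map_zero, one,
    Modules.FreeStalk.unitStalkToRing_germ] at this
  have e : X.presheaf.germ ⊤ x trivial (Gen.one X ⊤) = 1 := map_one (X.presheaf.germ ⊤ x trivial).hom
  rwa [e, mul_one] at this

/-- Every element of the fibre of `O_X` is a multiple of `1`. -/
theorem exists_smul_one (ξ : X) (s : Cyc.secFibre (Coh.structureModule X) ξ) :
    ∃ g : X.presheaf.stalk ξ,
      s = g • (Submodule.Quotient.mk (one ξ) : Cyc.secFibre (Coh.structureModule X) ξ) := by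
  obtain ⟨v, rfl⟩ := Submodule.Quotient.mk_surjective _ s
  have hv : v ∈ Submodule.span (X.presheaf.stalk ξ) {one ξ} := by rw [span_one]; trivial
  obtain ⟨g, rfl⟩ := Submodule.mem_span_singleton.mp hv
  exact ⟨g, rfl⟩

theorem secDivFun_unit [IsLocallyNoetherian X] {δ : X → ℤ} (hδ : Cyc.IsDimFun X δ) (ξ : X)
    (s : Cyc.secFibre (Coh.structureModule X) ξ) (hs : s ≠ 0) (g : X.presheaf.stalk ξ)
    (hg : s = g • (Submodule.Quotient.mk (one ξ) : Cyc.secFibre (Coh.structureModule X) ξ)) :
    Cyc.secDivFun δ (Coh.structureModule X) ξ s = Cyc.divFun δ ξ (X.residue ξ g) := by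
  classical
  funext x
  simp only [Cyc.secDivFun, Cyc.divFun]
  split_ifs with hc
  swap; · rfl
  have ht : ∃ t : (Coh.structureModule X).presheaf.stalk x,
      Submodule.span (X.presheaf.stalk x) {t} = ⊤ := ⟨one x, span_one x⟩
  rw [Cyc.secOrdAt, dif_pos ht]
  set t := Classical.choose ht
  obtain ⟨a, ha⟩ := Submodule.mem_span_singleton.mp
    (show one x ∈ Submodule.span (X.presheaf.stalk x) {t} by
      rw [Classical.choose_spec ht]; trivial)
  obtain ⟨b, hb⟩ := Submodule.mem_span_singleton.mp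
    (show t ∈ Submodule.span (X.presheaf.stalk x) {one x} by rw [span_one]; trivial)
  have hab : (a * b - 1) • one x = 0 := by rw [sub_smul, mul_smul, hb, ha, one_smul, sub_self]
  have hab1 : a * b = 1 := sub_eq_zero.mp (eq_zero_of_smul_one_eq_zero hab)
  have hbu : IsUnit b := IsUnit.of_mul_eq_one a (by rw [mul_comm]; exact hab1)
  have hau : IsUnit a := IsUnit.of_mul_eq_one b hab1
  let σ := X.presheaf.stalkSpecializes hc.1
  have hsb : (Submodule.Quotient.mk ((Coh.structureModule X).presheaf.stalkSpecializes hc.1 t) :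
      Cyc.secFibre (Coh.structureModule X) ξ) = σ b • Submodule.Quotient.mk (one ξ) := by
    rw [← hb, stalkSpecializes_smul, stalkSpecializes_one]
    rfl
  have hφ : ∃ φ : X.presheaf.stalk ξ, s = φ •
      (Submodule.Quotient.mk ((Coh.structureModule X).presheaf.stalkSpecializes hc.1 t) :
        Cyc.secFibre (Coh.structureModule X) ξ) := by
    refine ⟨g * σ a, ?_⟩
    rw [hsb, ← mul_smul, mul_assoc, ← map_mul σ.hom, hab1, map_one, mul_one]
    exact hg
  rw [dif_pos hφ]
  set φ := Classical.choose hφ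
  have hφs : s = (φ * σ b) • (Submodule.Quotient.mk (one ξ) :
      Cyc.secFibre (Coh.structureModule X) ξ) := by
    rw [mul_smul, ← hsb]
    exact Classical.choose_spec hφ
  have hr : X.residue ξ φ * Cyc.specMap x ξ hc.1 b = X.residue ξ g := by
    rw [← residue_eq_of_smul_eq hs hφs hg]
    exact (map_mul (X.residue ξ).hom _ _).symm
  have hφ0 : X.residue ξ φ ≠ 0 := by
    intro h0
    refine hs ?_
    rw [Classical.choose_spec hφ]
    obtain ⟨w, hw⟩ : ∃ w : (Coh.structureModule X).presheaf.stalk ξ,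
        φ • ((Coh.structureModule X).presheaf.stalkSpecializes hc.1 t) = w := ⟨_, rfl⟩
    rw [← Submodule.Quotient.mk_smul, Submodule.Quotient.mk_eq_zero]
    exact Submodule.smul_mem_smul ((IsLocalRing.residue_eq_zero_iff _).mp h0) trivial
  rw [← hr, Ord.ordAt_mul hδ x ξ hc.1 hc.2.ge _ _ hφ0 ((hbu.map _).ne_zero),
    Ord.ordAt_specMap_of_isUnit hδ x ξ hc.1 hc.2.ge b hbu, add_zero]

end Unit

theorem divFun_one [IsLocallyNoetherian X] {δ : X → ℤ} (hδ : Cyc.IsDimFun X δ) (ξ : X) :
    Cyc.divFun δ ξ 1 = 0 := by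
  funext z
  simp only [Cyc.divFun, Pi.zero_apply]
  split_ifs with h
  · exact Ord.ordAt_one hδ z ξ h.1 h.2.ge
  · rfl

theorem divFun_zpow [IsLocallyNoetherian X] {δ : X → ℤ} (hδ : Cyc.IsDimFun X δ) (ξ : X)
    (f : X.residueField ξ) (hf : f ≠ 0) (n : ℤ) :
    Cyc.divFun δ ξ (f ^ n) = n • Cyc.divFun δ ξ f := by
  induction n using Int.induction_on with
  | zero => rw [zpow_zero, zero_zsmul, divFun_one hδ]
  | succ n ih =>
    rw [zpow_add_one₀ hf, Ord.divFun_mul hδ ξ _ _ (zpow_ne_zero _ hf) hf, ih, add_zsmul, one_zsmul]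
  | pred n ih =>
    rw [zpow_sub_one₀ hf, Ord.divFun_mul hδ ξ _ _ (zpow_ne_zero _ hf) (inv_ne_zero hf), ih,
      Ord.divFun_inv hδ ξ f hf, sub_zsmul, one_zsmul]

end Groth.Agent.Lib.Cyc.C1
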