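import Groth.Prelude.Def_Cyc
import Mathlib.AlgebraicGeometry.Stalk
import Mathlib.AlgebraicGeometry.Noetherian
import Mathlib.AlgebraicGeometry.Properties
import Mathlib.RingTheory.KrullDimension.NonZeroDivisors
import Mathlib.Order.KrullDimension

/-!
# Dimension functions: points, specializations and local rings

* primes of `O_{X,x}` are the generalizations of `x`;
* for a dimension function δ and `ξ ⤳ x`, `dim O_{X,x}/𝔭_ξ = δ ξ - δ x`;
* maximal points of closed subsets are locally finite on locally Noetherian schemes.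
-/

set_option autoImplicit false

universe u

namespace Groth.Agent.Lib.Cyc.DimFun

open AlgebraicGeometry CategoryTheory IsLocalRing

/-- `x` has no proper generalization. -/
def IsMaxPt {α : Type*} [TopologicalSpace α] (x : α) : Prop := ∀ y : α, y ⤳ x → y = x

theorem isMaxPt_genericPoint {α : Type*} [TopologicalSpace α] [T0Space α] [QuasiSober α]
    [IrreducibleSpace α] : IsMaxPt (genericPoint α) :=
  fun y hy => (hy.antisymm (genericPoint_specializes y)).eq

section Abstract

variable {α : Type*} [PartialOrder α]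

theorem height_eq_of_step (b : α) (hb : ∀ a, b ≤ a) (f : α → ℤ)
    (hmono : ∀ a c : α, a < c → f a < f c)
    (hstep : ∀ a c : α, a < c → ∃ z, a ≤ z ∧ z < c ∧ f c = f z + 1) (n : ℕ) :
    ∀ c : α, f c = f b + n → Order.height c = n := by
  induction n using Nat.strong_induction_on with
  | _ n ih =>
    intro c hc
    have hlt : ∀ y < c, ∃ m, m < n ∧ f y = f b + (m : ℕ) := by
      intro y hy
      have h1 := hmono y c hy
      have h2 : f b ≤ f y := by
        rcases (hb y).lt_or_eq with h | h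
        · exact (hmono b y h).le
        · rw [h]
      exact ⟨(f y - f b).toNat, by omega, by omega⟩
    refine le_antisymm (Order.height_le_coe_iff.mpr fun y hy => ?_) ?_
    · obtain ⟨m, hm, hm'⟩ := hlt y hy
      rw [ih m hm y hm']
      exact_mod_cast hm
    · rcases Nat.eq_zero_or_pos n with h0 | hn
      · simp [h0]
      · have hbc : b < c := by
          refine lt_of_le_of_ne (hb c) fun h => ?_
          rw [h] at hc
          omega
        obtain ⟨z, hz1, hz2, hz3⟩ := hstep b c hbc
        obtain ⟨m, hm, hm'⟩ := hlt z hz2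
        have hm1 : n = m + 1 := by omega
        have := Order.height_add_one_le hz2
        rw [ih m hm z hm'] at this
        rw [hm1]
        exact_mod_cast this

theorem krullDim_eq_of_step (b t : α) (hb : ∀ a, b ≤ a) (ht : ∀ a, a ≤ t) (f : α → ℤ)
    (hmono : ∀ a c : α, a < c → f a < f c)
    (hstep : ∀ a c : α, a < c → ∃ z, a ≤ z ∧ z < c ∧ f c = f z + 1) :
    Order.krullDim α = ((f t - f b).toNat : WithBot ℕ∞) := by
  have : Nonempty α := ⟨t⟩
  have hle : f b ≤ f t := by
    rcases (hb t).lt_or_eq with h | h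
    · exact (hmono b t h).le
    · rw [h]
  have h := height_eq_of_step b hb f hmono hstep (f t - f b).toNat t (by omega)
  rw [Order.krullDim_eq_iSup_height_of_nonempty]
  have : (⨆ a : α, Order.height a) = Order.height t :=
    le_antisymm (iSup_le fun a => Order.height_mono (ht a)) (le_iSup (Order.height ·) t)
  rw [this, h]
  rfl

end Abstract

variable {X : Scheme.{u}}

/-- The prime ideal of a generalization `ξ` of `x` in the local ring at `x`. -/
noncomputable def genPrime (x ξ : X) (h : ξ ⤳ x) : PrimeSpectrum (X.presheaf.stalk x) :=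
  ⟨RingHom.ker (Cyc.specMap x ξ h), RingHom.ker_isPrime _⟩

theorem genPrime_eq (x ξ : X) (h : ξ ⤳ x) :
    genPrime x ξ h =
      PrimeSpectrum.comap (X.presheaf.stalkSpecializes h).hom (closedPoint (X.presheaf.stalk ξ)) := by
  refine PrimeSpectrum.ext ?_
  ext a
  change Cyc.specMap x ξ h a = 0 ↔ (X.presheaf.stalkSpecializes h).hom a ∈ maximalIdeal _
  exact IsLocalRing.residue_eq_zero_iff _

theorem fromSpecStalk_genPrime (x ξ : X) (h : ξ ⤳ x) :
    X.fromSpecStalk x (genPrime x ξ h) = ξ := by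
  have h1 : X.fromSpecStalk ξ (closedPoint (X.presheaf.stalk ξ)) = ξ :=
    Scheme.fromSpecStalk_closedPoint
  rw [← Scheme.SpecMap_stalkSpecializes_fromSpecStalk h] at h1
  rw [genPrime_eq]
  exact h1

theorem fromSpecStalk_injective (x : X) : Function.Injective (X.fromSpecStalk x) :=
  (X.fromSpecStalk x).isEmbedding.injective

theorem fromSpecStalk_specializes_self (x : X) (p : PrimeSpectrum (X.presheaf.stalk x)) :
    X.fromSpecStalk x p ⤳ x := by
  have : X.fromSpecStalk x p ∈ Set.range (X.fromSpecStalk x) := ⟨p, rfl⟩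
  rw [Scheme.range_fromSpecStalk] at this
  exact this

theorem fromSpecStalk_specializes_iff (x : X) (p q : PrimeSpectrum (X.presheaf.stalk x)) :
    X.fromSpecStalk x p ⤳ X.fromSpecStalk x q ↔ p ≤ q :=
  ((X.fromSpecStalk x).isEmbedding.toIsInducing.specializes_iff).trans
    (PrimeSpectrum.le_iff_specializes p q).symm

theorem genPrime_le_iff (x ξ η : X) (h : ξ ⤳ x) (h' : η ⤳ x) :
    genPrime x ξ h ≤ genPrime x η h' ↔ ξ ⤳ η := by
  rw [← fromSpecStalk_specializes_iff, fromSpecStalk_genPrime, fromSpecStalk_genPrime]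

theorem eq_genPrime (x : X) (p : PrimeSpectrum (X.presheaf.stalk x)) :
    p = genPrime x (X.fromSpecStalk x p) (fromSpecStalk_specializes_self x p) :=
  fromSpecStalk_injective x (fromSpecStalk_genPrime _ _ _).symm

theorem genPrime_self (x : X) : genPrime x x specializes_rfl = closedPoint _ :=
  fromSpecStalk_injective x
    ((fromSpecStalk_genPrime _ _ _).trans Scheme.fromSpecStalk_closedPoint.symm)

section IsDimFun

variable {δ : X → ℤ}

theorem lt_of_specializes (hδ : Cyc.IsDimFun X δ) {x y : X} (h : x ⤳ y) (hne : x ≠ y) :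
    δ y < δ x :=
  (hδ x y h hne).1

theorem le_of_specializes (hδ : Cyc.IsDimFun X δ) {x y : X} (h : x ⤳ y) : δ y ≤ δ x := by
  rcases eq_or_ne x y with rfl | hne
  · exact le_rfl
  · exact (lt_of_specializes hδ h hne).le

theorem eq_of_specializes_of_le (hδ : Cyc.IsDimFun X δ) {x y : X} (h : x ⤳ y) (hle : δ x ≤ δ y) :
    x = y := by
  by_contra hne
  exact absurd (lt_of_specializes hδ h hne) (not_lt.mpr hle)

/-- Between `y` and a proper specialization `x` there is a point with δ one more than `x`. -/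
theorem exists_step_above (hδ : Cyc.IsDimFun X δ) {y x : X} (h : y ⤳ x) (hne : y ≠ x) :
    ∃ z, y ⤳ z ∧ z ⤳ x ∧ δ z = δ x + 1 := by
  obtain ⟨d, ⟨z, hz1, hz2, hz3, rfl⟩, hmin⟩ := Int.exists_least_of_bdd
    (P := fun d => ∃ z, y ⤳ z ∧ z ⤳ x ∧ z ≠ x ∧ δ z = d)
    ⟨δ x, by rintro _ ⟨z, -, hz2, -, rfl⟩; exact le_of_specializes hδ hz2⟩
    ⟨δ y, y, specializes_rfl, h, hne, rfl⟩
  refine ⟨z, hz1, hz2, (hδ z x hz2 hz3).2 fun w hw1 hw2 => ?_⟩
  by_contra hcon
  rw [not_or] at hcon
  have h1 := lt_of_specializes hδ hw1 (Ne.symm hcon.1)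
  have h2 := hmin (δ w) ⟨w, hz1.trans hw1, hw2, hcon.2, rfl⟩
  omega

/-- Between `y` and a proper specialization `x` there is a point with δ one less than `y`. -/
theorem exists_step_below (hδ : Cyc.IsDimFun X δ) {y x : X} (h : y ⤳ x) (hne : y ≠ x) :
    ∃ z, y ⤳ z ∧ z ⤳ x ∧ δ y = δ z + 1 := by
  obtain ⟨d, ⟨z, hz1, hz2, hz3, rfl⟩, hmax⟩ := Int.exists_greatest_of_bdd
    (P := fun d => ∃ z, y ⤳ z ∧ z ⤳ x ∧ y ≠ z ∧ δ z = d)
    ⟨δ y, by rintro _ ⟨z, hz1, -, -, rfl⟩; exact le_of_specializes hδ hz1⟩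
    ⟨δ x, x, h, specializes_rfl, hne, rfl⟩
  refine ⟨z, hz1, hz2, (hδ y z hz1 hz3).2 fun w hw1 hw2 => ?_⟩
  by_contra hcon
  rw [not_or] at hcon
  have h1 := lt_of_specializes hδ hw2 hcon.2
  have h2 := hmax (δ w) ⟨w, hw1, hw2.trans hz2, Ne.symm hcon.1, rfl⟩
  omega

theorem krullDim_zeroLocus_genPrime (hδ : Cyc.IsDimFun X δ) (x ξ : X) (h : ξ ⤳ x) :
    Order.krullDim (PrimeSpectrum.zeroLocus (R := X.presheaf.stalk x)
      (RingHom.ker (Cyc.specMap x ξ h) : Set (X.presheaf.stalk x))) =
      ((δ ξ - δ x).toNat : WithBot ℕ∞) := by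
  let Z := PrimeSpectrum.zeroLocus (R := X.presheaf.stalk x)
    (RingHom.ker (Cyc.specMap x ξ h) : Set (X.presheaf.stalk x))
  let g : Z → X := fun p => X.fromSpecStalk x p.1
  have hmem : ∀ p : PrimeSpectrum (X.presheaf.stalk x),
      p ∈ Z ↔ ξ ⤳ X.fromSpecStalk x p := by
    intro p
    rw [PrimeSpectrum.mem_zeroLocus]
    conv_rhs => rw [← fromSpecStalk_genPrime x ξ h, fromSpecStalk_specializes_iff]
    rfl
  have hb' : genPrime x ξ h ∈ Z := by
    rw [hmem, fromSpecStalk_genPrime]
  have ht' : closedPoint (X.presheaf.stalk x) ∈ Z := by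
    rw [hmem, Scheme.fromSpecStalk_closedPoint]; exact h
  have hlt : ∀ a c : Z, a < c → g a ⤳ g c ∧ g a ≠ g c := fun a c hac =>
    ⟨(fromSpecStalk_specializes_iff x _ _).mpr hac.le, fun he =>
      hac.ne (Subtype.ext (fromSpecStalk_injective x he))⟩
  have := krullDim_eq_of_step (α := Z) ⟨_, hb'⟩ ⟨_, ht'⟩
    (fun a => show genPrime x ξ h ≤ a.1 by
      rw [← fromSpecStalk_specializes_iff, fromSpecStalk_genPrime, ← hmem]; exact a.2)
    (fun a => show a.1 ≤ closedPoint _ from le_maximalIdeal a.1.isPrime.ne_top)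
    (fun a => - δ (g a))
    (fun a c hac => by
      have := lt_of_specializes hδ (hlt a c hac).1 (hlt a c hac).2
      omega)
    (fun a c hac => by
      obtain ⟨z, hz1, hz2, hz3⟩ := exists_step_above hδ (hlt a c hac).1 (hlt a c hac).2
      have hzx : z ⤳ x := hz2.trans (fromSpecStalk_specializes_self x c.1)
      have hzZ : genPrime x z hzx ∈ Z := by
        rw [hmem, fromSpecStalk_genPrime]
        exact ((hmem _).mp a.2).trans hz1
      refine ⟨⟨_, hzZ⟩, ?_, ?_, ?_⟩
      · show a.1 ≤ genPrime x z hzx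
        rw [← fromSpecStalk_specializes_iff, fromSpecStalk_genPrime]; exact hz1
      · refine lt_of_le_of_ne ?_ ?_
        · show genPrime x z hzx ≤ c.1
          rw [← fromSpecStalk_specializes_iff, fromSpecStalk_genPrime]; exact hz2
        · intro he
          have := congrArg g he
          simp only [g, fromSpecStalk_genPrime] at this
          simp only [g] at *
          rw [this] at hz3
          omega
      · simp only [g, fromSpecStalk_genPrime] at *
        omega)
  convert this using 2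
  simp only [g, fromSpecStalk_genPrime, Scheme.fromSpecStalk_closedPoint]
  omega

/-- `dim O_{X,x}/𝔭_ξ = δ ξ - δ x`. -/
theorem ringKrullDim_locQuot (hδ : Cyc.IsDimFun X δ) (x ξ : X) (h : ξ ⤳ x) :
    ringKrullDim (Cyc.LocQuot x ξ h) = ((δ ξ - δ x).toNat : WithBot ℕ∞) := by
  rw [ringKrullDim_quotient]
  exact krullDim_zeroLocus_genPrime hδ x ξ h

/-- If `ξ` generizes to every generalization of `x` then `dim O_{X,x} = δ ξ - δ x`. -/
theorem ringKrullDim_stalk_of_forall (hδ : Cyc.IsDimFun X δ) (x ξ : X) (h : ξ ⤳ x)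
    (hall : ∀ y, y ⤳ x → ξ ⤳ y) :
    ringKrullDim (X.presheaf.stalk x) = ((δ ξ - δ x).toNat : WithBot ℕ∞) := by
  rw [← krullDim_zeroLocus_genPrime hδ x ξ h]
  have : PrimeSpectrum.zeroLocus (R := X.presheaf.stalk x)
      (RingHom.ker (Cyc.specMap x ξ h) : Set (X.presheaf.stalk x)) = Set.univ := by
    refine Set.eq_univ_of_forall fun p => ?_
    show genPrime x ξ h ≤ p
    rw [← fromSpecStalk_specializes_iff, fromSpecStalk_genPrime]
    exact hall _ (fromSpecStalk_specializes_self x p)
  rw [this]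
  exact (Order.krullDim_eq_of_orderIso OrderIso.Set.univ).symm

/-- In an irreducible scheme `dim O_{X,x} = δ η - δ x`. -/
theorem ringKrullDim_stalk [IrreducibleSpace X] (hδ : Cyc.IsDimFun X δ) (x : X) :
    ringKrullDim (X.presheaf.stalk x) = ((δ (genericPoint X) - δ x).toNat : WithBot ℕ∞) :=
  ringKrullDim_stalk_of_forall hδ x _ (genericPoint_specializes x)
    fun y _ => genericPoint_specializes y

end IsDimFun

theorem exists_isMaxPt_specializes (x : X) : ∃ ξ : X, ξ ⤳ x ∧ IsMaxPt ξ := by
  obtain ⟨p, hp, -⟩ := Ideal.exists_minimalPrimes_le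
    (bot_le : (⊥ : Ideal (X.presheaf.stalk x)) ≤ maximalIdeal _)
  let P : PrimeSpectrum (X.presheaf.stalk x) := ⟨p, hp.1.1⟩
  refine ⟨X.fromSpecStalk x P, fromSpecStalk_specializes_self x P, fun y hy => ?_⟩
  have hyx := hy.trans (fromSpecStalk_specializes_self x P)
  have h1 : genPrime x y hyx ≤ P := by
    rw [← fromSpecStalk_specializes_iff, fromSpecStalk_genPrime]; exact hy
  have h2 : P ≤ genPrime x y hyx := hp.2 ⟨(genPrime x y hyx).isPrime, bot_le⟩ h1
  rw [le_antisymm h2 h1, fromSpecStalk_genPrime]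

theorem ringKrullDim_stalk_eq_zero_iff (x : X) :
    ringKrullDim (X.presheaf.stalk x) = 0 ↔ IsMaxPt x := by
  constructor
  · intro h y hy
    have h1 : genPrime x y hy ≤ closedPoint _ := le_maximalIdeal (genPrime x y hy).isPrime.ne_top
    have h2 := (Order.krullDim_nonpos_iff_forall_isMax.mp h.le) (genPrime x y hy)
    have := le_antisymm h1 (h2 h1)
    rw [← fromSpecStalk_genPrime x y hy, this, Scheme.fromSpecStalk_closedPoint]
  · intro h
    refine le_antisymm (Order.krullDim_nonpos_iff_forall_isMax.mpr fun p q _ => ?_)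
      ringKrullDim_nonneg_of_nontrivial
    rw [← fromSpecStalk_specializes_iff, h _ (fromSpecStalk_specializes_self x q),
      h _ (fromSpecStalk_specializes_self x p)]

section Finite

/-- In a Noetherian quasi-sober space the maximal points of a closed set are finite. -/
theorem finite_maxPts {α : Type*} [TopologicalSpace α] [TopologicalSpace.NoetherianSpace α]
    [QuasiSober α] {T : Set α} (hT : IsClosed T) :
    {x ∈ T | ∀ y ∈ T, y ⤳ x → y = x}.Finite := by
  obtain ⟨S, hfin, hcl, hirr, hTS⟩ :=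
    TopologicalSpace.NoetherianSpace.exists_finite_set_isClosed_irreducible hT
  have := hfin.to_subtype
  refine (Set.finite_range fun t : S => (hirr t.1 t.2).genericPoint).subset ?_
  rintro x ⟨hxT, hx⟩
  rw [hTS] at hxT
  obtain ⟨t, ht, hxt⟩ := hxT
  refine ⟨⟨t, ht⟩, ?_⟩
  have hg := (hirr t ht).isGenericPoint_genericPoint_closure
  have hsub : (hirr t ht).genericPoint ∈ t := by
    have := hg.mem
    rwa [(hcl t ht).closure_eq] at this
  exact hx _ (hTS ▸ Set.mem_sUnion_of_mem hsub ht)
    (hg.specializes (by rwa [(hcl t ht).closure_eq]))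

/-- Maximal points of a closed subset of a locally Noetherian scheme form a locally finite set. -/
theorem exists_open_finite_maxPts [IsLocallyNoetherian X] {T : Set X} (hT : IsClosed T) (x : X) :
    ∃ U : Set X, IsOpen U ∧ x ∈ U ∧ (U ∩ {z ∈ T | ∀ y ∈ T, y ⤳ z → y = z}).Finite := by
  obtain ⟨_, ⟨U, hU, rfl⟩, hxU, -⟩ :=
    X.isBasis_affineOpens.exists_subset_of_mem_open (Set.mem_univ x) isOpen_univ
  have : IsNoetherianRing Γ(X, U) := IsLocallyNoetherian.component_noetherian ⟨U, hU⟩
  have hN : TopologicalSpace.NoetherianSpace (U : Set X) := noetherianSpace_of_isAffineOpen U hU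
  have : QuasiSober (U : Set X) := U.2.isOpenEmbedding_subtypeVal.quasiSober
  have h2 := (finite_maxPts (hT.preimage (continuous_subtype_val (p := (· ∈ (U : Set X)))))).image
    Subtype.val
  refine ⟨U, U.2, hxU, h2.subset ?_⟩
  rintro z ⟨hzU, hzT, hz⟩
  exact ⟨⟨z, hzU⟩, ⟨hzT, fun y hy hyz =>
    Subtype.ext (hz y.1 hy (hyz.map continuous_subtype_val))⟩, rfl⟩

end Finite

end Groth.Agent.Lib.Cyc.DimFun
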