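import Groth.Agent.Lib.Cyc.DimFun
import Groth.Agent.Lib.Modules.Stalk
import Groth.Agent.Lib.Modules.StalkModule
import Groth.Agent.Lib.Modules.GenStalk
import Groth.Agent.Lib.Modules.Support
import Groth.Agent.Lib.Modules.FreeStalk
import Groth.Agent.Lib.StalkLoc.Basic
import Mathlib.RingTheory.Length
import Mathlib.RingTheory.HopkinsLevitzki
import Mathlib.AlgebraicGeometry.Morphisms.ClosedImmersion

/-!
# Lengths of stalks of coherent modules

* at a maximal point of the support of a coherent module the stalk has finite length;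
* lengths are additive in short exact sequences;
* pushforward along closed immersions preserves them.
-/

set_option autoImplicit false

universe u

namespace Groth.Agent.Lib.Cyc.SheafLen

open AlgebraicGeometry CategoryTheory IsLocalRing Groth.Agent.Lib Groth.Agent.Lib.Cyc

variable {X Y : Scheme.{u}}

/-- If `M_y = 0` for a generalization `y` of `x`, the annihilator of `M_x` is not in `𝔭_y`. -/
theorem annihilator_not_le {M : X.Modules} (hM : Coh.IsCoh M) (x y : X) (h : y ⤳ x)
    [Subsingleton (M.presheaf.stalk y)] :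
    ¬ Module.annihilator (X.presheaf.stalk x) (M.presheaf.stalk x) ≤
      RingHom.ker (Cyc.specMap x y h) := by
  classical
  have := hM.1
  have := hM.2
  intro hle
  have hp : (RingHom.ker (Cyc.specMap x y h)).IsPrime := RingHom.ker_isPrime _
  obtain ⟨_, ⟨U, hU, rfl⟩, hxU, -⟩ :=
    X.isBasis_affineOpens.exists_subset_of_mem_open (Set.mem_univ x) isOpen_univ
  have hyU : y ∈ U := h.mem_open U.2 hxU
  have hunit : ∀ a : Γ(X, U), y ∈ X.basicOpen a →
      Cyc.specMap x y h (X.presheaf.germ U x hxU a) ≠ 0 := by
    intro a ha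
    have e : X.presheaf.stalkSpecializes h (X.presheaf.germ U x hxU a) =
        X.presheaf.germ U y hyU a :=
      ConcreteCategory.congr_hom (TopCat.Presheaf.germ_stalkSpecializes X.presheaf hxU h) a
    show X.residue y (X.presheaf.stalkSpecializes h (X.presheaf.germ U x hxU a)) ≠ 0
    rw [e]
    exact (((X.mem_basicOpen a y hyU).mp ha).map (X.residue y).hom).ne_zero
  have key : ∀ v : M.presheaf.stalk x, ∃ c, Cyc.specMap x y h c ≠ 0 ∧ c • v = 0 := by
    intro v
    obtain ⟨a, t, ha, hat⟩ := StalkLoc.Basic.exists_smul_eq_germ hU hxU v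
    obtain ⟨b, hb, hbt⟩ := (StalkLoc.Basic.germ_eq_zero_iff hU hyU t).mp (Subsingleton.elim _ _)
    refine ⟨X.presheaf.germ U x hxU b * X.presheaf.germ U x hxU a, ?_, ?_⟩
    · rw [map_mul]
      exact mul_ne_zero (hunit b hb) (hunit a (h.mem_open (X.basicOpen a).2 ha))
    · rw [mul_smul, hat, ← Modules.StalkModule.germ_smul hxU b t, hbt, map_zero]
  obtain ⟨s, hs⟩ := Modules.GenStalk.finite_stalk M x
  choose c hc hcv using key
  have hmem : ∏ v ∈ s, c v ∈ RingHom.ker (Cyc.specMap x y h) := by
    refine hle (Module.mem_annihilator.mpr fun m => ?_)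
    have hm : m ∈ Submodule.span (X.presheaf.stalk x) (s : Set (M.presheaf.stalk x)) := by
      rw [hs]; trivial
    induction hm using Submodule.span_induction with
    | mem v hv =>
      rw [← Finset.prod_erase_mul s c hv, mul_smul, hcv v, smul_zero]
    | zero => exact smul_zero _
    | add a b _ _ ha hb => rw [smul_add, ha, hb, add_zero]
    | smul r a _ ha => rw [smul_comm, ha, smul_zero]
  obtain ⟨v, -, hv⟩ := (Ideal.IsPrime.prod_mem_iff (p := RingHom.ker (Cyc.specMap x y h))).mp hmem
  exact hc v (RingHom.mem_ker.mp hv)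

/-- `x` is maximal in the support of `M`. -/
def IsMaxSupp (M : X.Modules) (x : X) : Prop :=
  ∀ y : X, y ⤳ x → Nontrivial (M.presheaf.stalk y) → y = x

/-- The stalk at a maximal point of the support has finite length. -/
theorem length_ne_top [IsLocallyNoetherian X] {M : X.Modules} (hM : Coh.IsCoh M) (x : X)
    (h : IsMaxSupp M x) :
    Module.length (X.presheaf.stalk x) (M.presheaf.stalk x) ≠ ⊤ := by
  have := hM.2
  have hfin := Modules.GenStalk.finite_stalk M x
  set J := Module.annihilator (X.presheaf.stalk x) (M.presheaf.stalk x) with hJ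
  have h0 : Ring.KrullDimLE 0 (X.presheaf.stalk x ⧸ J) := by
    rw [Ring.krullDimLE_iff, ringKrullDim_quotient]
    have hone : ∀ p : PrimeSpectrum.zeroLocus (J : Set (X.presheaf.stalk x)),
        X.fromSpecStalk x p.1 = x := by
      intro p
      refine h _ (DimFun.fromSpecStalk_specializes_self x p.1) ?_
      by_contra hc
      have := not_nontrivial_iff_subsingleton.mp hc
      refine annihilator_not_le hM x _ (DimFun.fromSpecStalk_specializes_self x p.1) ?_
      intro a ha
      have hp : a ∈ p.1.asIdeal := p.2 ha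
      have := DimFun.eq_genPrime x p.1
      rw [this] at hp
      exact hp
    refine Order.krullDim_nonpos_iff_forall_isMax.mpr fun p q _ => ?_
    refine (DimFun.fromSpecStalk_specializes_iff x _ _).mp (specializes_of_eq ?_)
    rw [hone, hone]
  have : IsArtinianRing (X.presheaf.stalk x ⧸ J) := isArtinianRing_iff_krullDimLE_zero.mpr h0
  let := Module.quotientAnnihilator (R := X.presheaf.stalk x) (M := M.presheaf.stalk x)
  have : IsScalarTower (X.presheaf.stalk x) (X.presheaf.stalk x ⧸ J) (M.presheaf.stalk x) :=
    IsScalarTower.of_algebraMap_smul fun r m => rfl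
  have : Module.Finite (X.presheaf.stalk x ⧸ J) (M.presheaf.stalk x) :=
    Module.Finite.of_restrictScalars_finite (X.presheaf.stalk x) _ _
  rw [Module.length_eq_of_surjective (R := X.presheaf.stalk x ⧸ J)
    (S := X.presheaf.stalk x) Ideal.Quotient.mk_surjective]
  exact Module.length_ne_top

/-- Lengths of stalks are additive. -/
theorem length_additive (T : ShortComplex X.Modules) (hT : T.ShortExact) (x : X) :
    Module.length (X.presheaf.stalk x) (T.X₂.presheaf.stalk x) =
      Module.length (X.presheaf.stalk x) (T.X₁.presheaf.stalk x) +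
        Module.length (X.presheaf.stalk x) (T.X₃.presheaf.stalk x) := by
  have h := (Modules.Stalk.shortExact_iff_stalk T).mp hT x
  refine Module.length_eq_add_of_exact (Modules.StalkModule.stalkMapₗ T.f x)
    (Modules.StalkModule.stalkMapₗ T.g x) ?_ ?_ ?_
  · exact h.ab_injective_f
  · exact h.ab_surjective_g
  · exact (ShortComplex.ab_exact_iff_function_exact _).mp h.exact

section Push

variable (i : X ⟶ Y) (M : X.Modules)

/-- The comparison map `(i_* M)_{i x} → M_x`. -/
noncomputable def pushStalk (x : X) :
    ((Coh.push i).obj M).presheaf.stalk (i x) →+ M.presheaf.stalk x :=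
  (TopCat.Presheaf.stalkPushforward AddCommGrpCat.{u} i.base M.presheaf x).hom

theorem pushStalk_germ {V : Y.Opens} (x : X) (hx : i x ∈ V) (m : Γ((Coh.push i).obj M, V)) :
    pushStalk i M x (((Coh.push i).obj M).presheaf.germ V (i x) hx m) =
      M.presheaf.germ (i ⁻¹ᵁ V) x hx m :=
  ConcreteCategory.congr_hom
    (TopCat.Presheaf.stalkPushforward_germ AddCommGrpCat.{u} i.base M.presheaf V x hx) m

theorem pushStalk_smul (x : X) (a : Y.presheaf.stalk (i x))
    (v : ((Coh.push i).obj M).presheaf.stalk (i x)) :
    pushStalk i M x (a • v) = i.stalkMap x a • pushStalk i M x v := by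
  obtain ⟨V, hx, r, m, rfl, rfl⟩ := Modules.StalkModule.exists_germ_eq₂ a v
  rw [← Modules.StalkModule.germ_smul hx r m, pushStalk_germ, pushStalk_germ,
    Scheme.Hom.germ_stalkMap_apply]
  exact Modules.StalkModule.germ_smul (M := M) (show x ∈ i ⁻¹ᵁ V from hx) (i.app V r) m

theorem pushStalk_bijective [IsClosedImmersion i] (x : X) :
    Function.Bijective (pushStalk i M x) := by
  have := TopCat.Presheaf.stalkPushforward.stalkPushforward_iso_of_isInducing AddCommGrpCat.{u}
    (f := i.base) i.isClosedEmbedding.toIsInducing M.presheaf x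
  exact ConcreteCategory.bijective_of_isIso
    (TopCat.Presheaf.stalkPushforward AddCommGrpCat.{u} i.base M.presheaf x)

theorem length_push_stalk [IsClosedImmersion i] (x : X) :
    Module.length (Y.presheaf.stalk (i x)) (((Coh.push i).obj M).presheaf.stalk (i x)) =
      Module.length (X.presheaf.stalk x) (M.presheaf.stalk x) := by
  let σ : Y.presheaf.stalk (i x) →+* X.presheaf.stalk x := (i.stalkMap x).hom
  have : RingHomSurjective σ := ⟨i.stalkMap_surjective x⟩
  let e : ((Coh.push i).obj M).presheaf.stalk (i x) →ₛₗ[σ] M.presheaf.stalk x :=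
    { toFun := pushStalk i M x
      map_add' := map_add _
      map_smul' := pushStalk_smul i M x }
  rw [Module.length, Module.length, WithBot.unbot_inj,
    Order.krullDim_eq_of_orderIso
      (Submodule.orderIsoMapComapOfBijective e (pushStalk_bijective i M x))]

/-- Off a closed set containing the image of the support the pushforward has zero stalks. -/
theorem subsingleton_push_stalk (T : Set Y) (hT : IsClosed T)
    (hsupp : ∀ x, Nontrivial (M.presheaf.stalk x) → i x ∈ T) (y : Y) (hy : y ∉ T) :
    Subsingleton (((Coh.push i).obj M).presheaf.stalk y) := by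
  refine subsingleton_of_forall_eq 0 fun v => ?_
  obtain ⟨W, hyW, s, rfl⟩ := TopCat.Presheaf.exists_germ_eq ((Coh.push i).obj M).presheaf v
  let W' : Y.Opens := W ⊓ ⟨Tᶜ, hT.isOpen_compl⟩
  have h0 : ∀ t : Γ((Coh.push i).obj M, W'), t = 0 := fun t =>
    Modules.Support.eq_zero_of_germ_eq_zero (M := M) (U := i ⁻¹ᵁ W') t fun x hx hs =>
      absurd (hsupp x (not_subsingleton_iff_nontrivial.mp hs)) hx.2
  rw [← TopCat.Presheaf.germ_res_apply ((Coh.push i).obj M).presheaf
    (homOfLE (inf_le_left : W' ≤ W)) y ⟨hyW, hy⟩ s]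
  refine (congrArg _ (h0 _)).trans (map_zero _)

end Push

section Unit

/-- The germ map `O_{X,x} → (structure module)_x`. -/
theorem exists_unit_stalk_equiv (x : X) :
    Nonempty ((Coh.structureModule X).presheaf.stalk x ≃ₗ[X.presheaf.stalk x]
      X.presheaf.stalk x) := by
  let φ : (Coh.structureModule X).presheaf.stalk x →ₗ[X.presheaf.stalk x] X.presheaf.stalk x :=
    { toFun := Modules.FreeStalk.unitStalkToRing x
      map_add' := map_add _
      map_smul' := Modules.FreeStalk.unitStalkToRing_smul x }
  refine ⟨LinearEquiv.ofBijective φ ⟨?_, ?_⟩⟩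
  · rw [injective_iff_map_eq_zero]
    intro v hv
    obtain ⟨U, hxU, s, rfl⟩ := TopCat.Presheaf.exists_germ_eq (Coh.structureModule X).presheaf v
    change Modules.FreeStalk.unitStalkToRing x _ = 0 at hv
    rw [Modules.FreeStalk.unitStalkToRing_germ] at hv
    obtain ⟨W, hxW, iU, iU', hW⟩ := TopCat.Presheaf.germ_eq X.presheaf x hxU hxU s 0
      (hv.trans (map_zero _).symm)
    rw [← TopCat.Presheaf.germ_res_apply (Coh.structureModule X).presheaf iU x hxW s]
    exact (congrArg _ (hW.trans (map_zero _))).trans (map_zero _)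
  · intro a
    obtain ⟨U, hxU, r, rfl⟩ := TopCat.Presheaf.exists_germ_eq X.presheaf a
    exact ⟨(Coh.structureModule X).presheaf.germ U x hxU r,
      Modules.FreeStalk.unitStalkToRing_germ hxU r⟩

end Unit

end Groth.Agent.Lib.Cyc.SheafLen
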