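import Groth.Agent.Lib.Cyc.Residue
import Mathlib.AlgebraicGeometry.AlgebraicCycle.Basic
import Mathlib.AlgebraicGeometry.AffineScheme
import Mathlib.Algebra.BigOperators.Finprod

/-!
# Pushforward of cycles: pointwise formulas
-/

set_option autoImplicit false

universe u

namespace Groth.Agent.Lib.Cyc.Push

open AlgebraicGeometry CategoryTheory

variable {X Y Z : Scheme.{u}}

theorem map_apply (f : X ⟶ Y) [QuasiCompact f] (δX : X → ℤ) (δY : Y → ℤ)
    (α : AlgebraicCycle X ℤ) (y : Y) :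
    AlgebraicCycle.map f δX δY α y =
      ∑ᶠ x ∈ ⇑f ⁻¹' {y}, α x * (AlgebraicCycle.mapCoeff f δX δY x : ℤ) := rfl

/-- The support of a cycle meets each fibre of a quasi-compact morphism in a finite set. -/
theorem finite_fiber_support (f : X ⟶ Y) [QuasiCompact f] (α : AlgebraicCycle X ℤ) (y : Y) :
    (⇑f ⁻¹' {y} ∩ Function.support ⇑α).Finite := by
  obtain ⟨_, ⟨V, hV, rfl⟩, hyV, -⟩ :=
    Y.isBasis_affineOpens.exists_subset_of_mem_open (Set.mem_univ y) isOpen_univ
  exact (α.locallyFiniteSupport.finite_inter_support_of_isCompact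
    (QuasiCompact.isCompact_preimage (f := f) (V : Set Y) V.2 hV.isCompact)).subset
    (Set.inter_subset_inter_left _ (Set.preimage_mono (Set.singleton_subset_iff.mpr hyV)))

theorem map_map_apply (f : X ⟶ Y) (g : Y ⟶ Z) [QuasiCompact f] [QuasiCompact g] (δX : X → ℤ)
    (δY : Y → ℤ) (δZ : Z → ℤ) (hf : Cyc.DeltaCompat f δX δY) (hg : Cyc.DeltaCompat g δY δZ)
    (α : AlgebraicCycle X ℤ) :
    AlgebraicCycle.map g δY δZ (AlgebraicCycle.map f δX δY α) =
      AlgebraicCycle.map (f ≫ g) δX δZ α := by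
  classical
  refine Function.locallyFinsuppWithin.ext fun z => ?_
  set T := (finite_fiber_support (f ≫ g) α z).toFinset with hT
  have hTmem : ∀ x, x ∈ T ↔ g (f x) = z ∧ α x ≠ 0 := fun x => by
    simp [T, Scheme.Hom.comp_apply]
  rw [map_apply g, map_apply (f ≫ g)]
  rw [finsum_mem_eq_sum_of_inter_support_eq (t := T) _ (by
    ext x
    simp only [Set.mem_inter_iff, Set.mem_preimage, Set.mem_singleton_iff, Function.mem_support,
      Scheme.Hom.comp_apply, Finset.mem_coe, hTmem]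
    constructor
    · rintro ⟨hx, h⟩; exact ⟨⟨hx, left_ne_zero_of_mul h⟩, h⟩
    · rintro ⟨⟨hx, -⟩, h⟩; exact ⟨hx, h⟩)]
  have hinner : ∀ y, g y = z → AlgebraicCycle.map f δX δY α y =
      ∑ x ∈ T with f x = y, α x * (AlgebraicCycle.mapCoeff f δX δY x : ℤ) := by
    intro y hy
    rw [map_apply, finsum_mem_eq_sum_of_inter_support_eq]
    ext x
    simp only [Set.mem_inter_iff, Set.mem_preimage, Set.mem_singleton_iff, Function.mem_support,
      Finset.coe_filter, Set.mem_setOf_eq, hTmem]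
    constructor
    · rintro ⟨hx, h⟩; exact ⟨⟨⟨by rw [hx, hy], left_ne_zero_of_mul h⟩, hx⟩, h⟩
    · rintro ⟨⟨-, hx⟩, h⟩; exact ⟨hx, h⟩
  rw [finsum_mem_eq_sum_of_inter_support_eq (t := T.image f) _ (by
    ext y
    simp only [Set.mem_inter_iff, Set.mem_preimage, Set.mem_singleton_iff, Function.mem_support,
      Finset.coe_image, Set.mem_image, Finset.mem_coe]
    constructor
    · rintro ⟨hy, h⟩
      have h' := left_ne_zero_of_mul h
      rw [hinner y hy] at h'
      obtain ⟨x, hx, -⟩ := Finset.exists_ne_zero_of_sum_ne_zero h'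
      rw [Finset.mem_filter] at hx
      exact ⟨⟨x, hx.1, hx.2⟩, h⟩
    · rintro ⟨⟨x, hx, rfl⟩, h⟩
      exact ⟨((hTmem x).mp hx).1, h⟩)]
  rw [← Finset.sum_fiberwise_of_maps_to (fun x hx => Finset.mem_image_of_mem f hx)
    (fun x => α x * (AlgebraicCycle.mapCoeff (f ≫ g) δX δZ x : ℤ))]
  refine Finset.sum_congr rfl fun y hy => ?_
  rw [Finset.mem_image] at hy
  obtain ⟨x₀, hx₀, rfl⟩ := hy
  rw [hinner _ ((hTmem x₀).mp hx₀).1, Finset.sum_mul]
  refine Finset.sum_congr rfl fun x hx => ?_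
  rw [Finset.mem_filter] at hx
  rw [Residue.mapCoeff_comp hf hg, hx.2, Nat.cast_mul, mul_assoc]

/-- A section `y` over each point of the support with residue degree one lifts a cycle. -/
theorem exists_map_eq_of_section (f : Y ⟶ X) [QuasiCompact f] (δY : Y → ℤ) (δX : X → ℤ)
    (sec : X → Y) (hsec : ∀ x, f (sec x) = x) (hδ : ∀ x, δY (sec x) = δX x)
    (hdeg : ∀ x, f.residueDegree (sec x) = 1) (α : AlgebraicCycle X ℤ) :
    ∃ β : AlgebraicCycle Y ℤ, (∀ y, β y ≠ 0 → y = sec (f y) ∧ α (f y) ≠ 0) ∧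
      AlgebraicCycle.map f δY δX β = α := by
  classical
  let b : Y → ℤ := fun y => if y = sec (f y) then α (f y) else 0
  have hb : ∀ y, b y ≠ 0 → y = sec (f y) ∧ α (f y) ≠ 0 := by
    intro y hy
    simp only [b] at hy
    split_ifs at hy with h
    · exact ⟨h, hy⟩
    · exact absurd rfl hy
  refine ⟨⟨b, by simp, fun y _ => ?_⟩, hb, ?_⟩
  · obtain ⟨_, ⟨V, hV, rfl⟩, hyV, -⟩ :=
      Y.isBasis_affineOpens.exists_subset_of_mem_open (Set.mem_univ y) isOpen_univ
    refine ⟨V, V.2.mem_nhds hyV, ((α.locallyFiniteSupport.finite_inter_support_of_isCompact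
      (hV.isCompact.image f.continuous)).image sec).subset ?_⟩
    rintro y' ⟨hy'V, hy'⟩
    exact ⟨f y', ⟨Set.mem_image_of_mem _ hy'V, (hb y' hy').2⟩, (hb y' hy').1.symm⟩
  · refine Function.locallyFinsuppWithin.ext fun x => ?_
    rw [map_apply, finsum_mem_eq_sum_of_inter_support_eq (t := {sec x}) _ (by
      ext y
      simp only [Set.mem_inter_iff, Set.mem_preimage, Set.mem_singleton_iff, Function.mem_support,
        Finset.coe_singleton]
      constructor
      · rintro ⟨hy, h⟩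
        refine ⟨?_, h⟩
        rw [← hy]
        exact (hb y (left_ne_zero_of_mul h)).1
      · rintro ⟨hy, h⟩
        exact ⟨by rw [hy, hsec], h⟩), Finset.sum_singleton]
    show b (sec x) * _ = α x
    simp only [b, hsec, AlgebraicCycle.mapCoeff]
    rw [if_pos trivial, if_pos (hδ x), hdeg, Nat.cast_one, mul_one]

end Groth.Agent.Lib.Cyc.Push
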