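import Groth.Agent.Lib.Cyc.C1

/-!
# Independence of `c₁(L) ∩ α` of the chosen rational sections

* fibres of invertible modules are one-dimensional;
* orders of sections along specializations, computed with any generator;
* changing the sections changes `c₁(L) ∩ α` by a cycle rationally equivalent to zero.
-/

set_option autoImplicit false

universe u

namespace Groth.Agent.Lib.Cyc.C1Indep

open AlgebraicGeometry CategoryTheory IsLocalRing Groth.Agent.Lib Groth.Agent.Lib.TensorMod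
open Groth.Agent.Lib.Cyc

variable {X : Scheme.{u}} {L : X.Modules}

/-- Multiplication with a local generator is injective on stalks. -/
theorem germ_gen_injective {U : X.Opens} {e : Γ(L, U)} (he : Gen.IsGen L U e) (x : X) (hx : x ∈ U)
    (a : X.presheaf.stalk x) (ha : a • L.presheaf.germ U x hx e = 0) : a = 0 := by
  obtain ⟨V, hxV, r, rfl⟩ := TopCat.Presheaf.exists_germ_eq X.presheaf a
  have hxW : x ∈ V ⊓ U := ⟨hxV, hx⟩
  have h1 : L.presheaf.germ (V ⊓ U) x hxW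
      ((X.presheaf.map (homOfLE (inf_le_left : V ⊓ U ≤ V)).op r) •
        (L.presheaf.map (homOfLE (inf_le_right : V ⊓ U ≤ U)).op e)) = 0 := by
    rw [Modules.StalkModule.germ_smul, TopCat.Presheaf.germ_res_apply,
      TopCat.Presheaf.germ_res_apply]
    exact ha
  obtain ⟨W, hW, iW, iW', heq⟩ := TopCat.Presheaf.germ_eq L.presheaf x hxW hxW _ 0
    (h1.trans (map_zero _).symm)
  rw [map_zero] at heq
  have h2 : X.presheaf.map iW.op (X.presheaf.map (homOfLE (inf_le_left : V ⊓ U ≤ V)).op r) = 0 := by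
    refine (he W (iW.le.trans inf_le_right)).1 ?_
    dsimp only
    rw [zero_smul]
    refine Eq.trans ?_ heq
    rw [Scheme.Modules.map_smul, ← ConcreteCategory.comp_apply (L.presheaf.map _),
      ← Functor.map_comp]
    rfl
  rw [← TopCat.Presheaf.germ_res_apply X.presheaf (homOfLE (inf_le_left : V ⊓ U ≤ V)) x hxW r,
    ← TopCat.Presheaf.germ_res_apply X.presheaf iW x hW, h2]
  exact map_zero _

/-- A generator of the stalk exists with trivial annihilator. -/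
theorem exists_free_gen (hL : PicF.IsInvertible L) (x : X) :
    ∃ t : L.presheaf.stalk x, Submodule.span (X.presheaf.stalk x) {t} = ⊤ ∧
      ∀ a : X.presheaf.stalk x, a • t = 0 → a = 0 := by
  obtain ⟨U, e, hx, he⟩ := Gen.isInvertible_iff.1 hL x
  refine ⟨L.presheaf.germ U x hx e, eq_top_iff.mpr fun v _ => ?_, germ_gen_injective he x hx⟩
  obtain ⟨V, hxV, m, rfl⟩ := TopCat.Presheaf.exists_germ_eq L.presheaf v
  obtain ⟨a, ha⟩ := (he (V ⊓ U) inf_le_right).2 (L.presheaf.map (homOfLE inf_le_left).op m)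
  refine Submodule.mem_span_singleton.mpr ⟨X.presheaf.germ (V ⊓ U) x ⟨hxV, hx⟩ a, ?_⟩
  rw [← TopCat.Presheaf.germ_res_apply L.presheaf (homOfLE (inf_le_left : V ⊓ U ≤ V)) x ⟨hxV, hx⟩ m,
    ← ha, Modules.StalkModule.germ_smul]
  congr 1
  exact (TopCat.Presheaf.germ_res_apply L.presheaf (homOfLE (inf_le_right : V ⊓ U ≤ U)) x
    ⟨hxV, hx⟩ e).symm

theorem span_stalkSpecializes (hL : PicF.IsInvertible L) {x ξ : X} (h : ξ ⤳ x)
    {t : L.presheaf.stalk x} (ht : Submodule.span (X.presheaf.stalk x) {t} = ⊤) :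
    Submodule.span (X.presheaf.stalk ξ) {L.presheaf.stalkSpecializes h t} = ⊤ := by
  obtain ⟨U, e, hx, he⟩ := Gen.isInvertible_iff.1 hL x
  have hξ : ξ ∈ U := h.mem_open U.2 hx
  obtain ⟨b, hb⟩ := Submodule.mem_span_singleton.mp
    (show L.presheaf.germ U x hx e ∈ Submodule.span (X.presheaf.stalk x) {t} by rw [ht]; trivial)
  refine eq_top_iff.mpr fun v _ => ?_
  obtain ⟨V, hξV, m, rfl⟩ := TopCat.Presheaf.exists_germ_eq L.presheaf v
  obtain ⟨a, ha⟩ := (he (V ⊓ U) inf_le_right).2 (L.presheaf.map (homOfLE inf_le_left).op m)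
  have hspec : L.presheaf.germ U ξ hξ e =
      X.presheaf.stalkSpecializes h b • L.presheaf.stalkSpecializes h t := by
    rw [← C1.stalkSpecializes_smul, hb]
    exact (ConcreteCategory.congr_hom
      (TopCat.Presheaf.germ_stalkSpecializes L.presheaf hx h) e).symm
  refine Submodule.mem_span_singleton.mpr
    ⟨X.presheaf.germ (V ⊓ U) ξ ⟨hξV, hξ⟩ a * X.presheaf.stalkSpecializes h b, ?_⟩
  rw [mul_smul, ← hspec,
    ← TopCat.Presheaf.germ_res_apply L.presheaf (homOfLE (inf_le_left : V ⊓ U ≤ V)) ξ ⟨hξV, hξ⟩ m,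
    ← ha, Modules.StalkModule.germ_smul]
  congr 1
  exact (TopCat.Presheaf.germ_res_apply L.presheaf (homOfLE (inf_le_right : V ⊓ U ≤ U)) ξ
    ⟨hξV, hξ⟩ e).symm

theorem mk_ne_zero (hL : PicF.IsInvertible L) (ξ : X) {t : L.presheaf.stalk ξ}
    (ht : Submodule.span (X.presheaf.stalk ξ) {t} = ⊤) :
    (Submodule.Quotient.mk t : Cyc.secFibre L ξ) ≠ 0 := by
  intro h0
  rw [Submodule.Quotient.mk_eq_zero, ← ht] at h0
  obtain ⟨a, ha, hat⟩ := Submodule.mem_smul_span_singleton.mp h0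
  have h1 : (1 - a) • t = 0 := by rw [sub_smul, one_smul, hat, sub_self]
  have hu : IsUnit (1 - a) :=
    IsLocalRing.isUnit_one_sub_self_of_mem_nonunits a ((mem_maximalIdeal _).mp ha)
  have ht0 : t = 0 := hu.smul_eq_zero.mp h1
  obtain ⟨g, hg, hg0⟩ := exists_free_gen hL ξ
  obtain ⟨c, hc⟩ := Submodule.mem_span_singleton.mp
    (show g ∈ Submodule.span (X.presheaf.stalk ξ) {t} by rw [ht]; trivial)
  rw [ht0, smul_zero] at hc
  exact one_ne_zero (hg0 1 (by rw [← hc, smul_zero]))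

theorem residue_ne_zero_of_smul {ξ : X} {s w : Cyc.secFibre L ξ} (hs : s ≠ 0)
    {φ : X.presheaf.stalk ξ} (hφ : s = φ • w) : X.residue ξ φ ≠ 0 := by
  intro h0
  refine hs ?_
  obtain ⟨v, rfl⟩ := Submodule.Quotient.mk_surjective _ w
  rw [hφ, ← Submodule.Quotient.mk_smul, Submodule.Quotient.mk_eq_zero]
  exact Submodule.smul_mem_smul ((IsLocalRing.residue_eq_zero_iff _).mp h0) trivial

/-- The fibre is one-dimensional. -/
theorem exists_smul_eq (hL : PicF.IsInvertible L) (ξ : X) (s s' : Cyc.secFibre L ξ) (hs : s ≠ 0)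
    (hs' : s' ≠ 0) : ∃ g : X.presheaf.stalk ξ, X.residue ξ g ≠ 0 ∧ s' = g • s := by
  obtain ⟨t, ht, -⟩ := exists_free_gen hL ξ
  have key : ∀ w : Cyc.secFibre L ξ,
      ∃ φ : X.presheaf.stalk ξ, w = φ • (Submodule.Quotient.mk t : Cyc.secFibre L ξ) := by
    intro w
    obtain ⟨v, rfl⟩ := Submodule.Quotient.mk_surjective _ w
    obtain ⟨φ, hφ⟩ := Submodule.mem_span_singleton.mp
      (show v ∈ Submodule.span (X.presheaf.stalk ξ) {t} by rw [ht]; trivial)
    exact ⟨φ, by rw [← hφ]; rfl⟩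
  obtain ⟨φ, hφ⟩ := key s
  obtain ⟨ψ, hψ⟩ := key s'
  have hφ0 := residue_ne_zero_of_smul hs hφ
  have hu : IsUnit φ := by
    by_contra hu
    exact hφ0 ((IsLocalRing.residue_eq_zero_iff _).mpr ((mem_maximalIdeal _).mpr hu))
  obtain ⟨u, rfl⟩ := hu
  have he : s' = (ψ * ↑u⁻¹) • s := by
    rw [hφ, ← mul_smul, mul_assoc, Units.inv_mul, mul_one]
    exact hψ
  exact ⟨_, residue_ne_zero_of_smul hs' he, he⟩

/-- Orders can be computed with any generator. -/
theorem secOrdAt_eq [IsLocallyNoetherian X] {δ : X → ℤ} (hδ : Cyc.IsDimFun X δ)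
    (hL : PicF.IsInvertible L) (x ξ : X) (h : ξ ⤳ x) (hd : δ ξ ≤ δ x + 1)
    (s : Cyc.secFibre L ξ) (hs : s ≠ 0) (t : L.presheaf.stalk x)
    (ht : Submodule.span (X.presheaf.stalk x) {t} = ⊤) (φ : X.presheaf.stalk ξ)
    (hφ : s = φ • (Submodule.Quotient.mk (L.presheaf.stalkSpecializes h t) : Cyc.secFibre L ξ)) :
    Cyc.secOrdAt L ξ x h s = Cyc.ordAt x ξ h (X.residue ξ φ) := by
  classical
  have hex : ∃ t : L.presheaf.stalk x, Submodule.span (X.presheaf.stalk x) {t} = ⊤ := ⟨t, ht⟩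
  rw [Cyc.secOrdAt, dif_pos hex]
  set t₀ := Classical.choose hex with ht₀def
  have ht₀ : Submodule.span (X.presheaf.stalk x) {t₀} = ⊤ := Classical.choose_spec hex
  obtain ⟨a, ha⟩ := Submodule.mem_span_singleton.mp
    (show t ∈ Submodule.span (X.presheaf.stalk x) {t₀} by rw [ht₀]; trivial)
  obtain ⟨b, hb⟩ := Submodule.mem_span_singleton.mp
    (show t₀ ∈ Submodule.span (X.presheaf.stalk x) {t} by rw [ht]; trivial)
  have hau : IsUnit a := by
    by_contra hau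
    have h1 : (1 - a * b) • t = 0 := by rw [sub_smul, one_smul, mul_smul, hb, ha, sub_self]
    have h2 : IsUnit (1 - a * b) := IsLocalRing.isUnit_one_sub_self_of_mem_nonunits _
      ((mem_maximalIdeal _).mp (Ideal.mul_mem_right _ _ ((mem_maximalIdeal _).mpr hau)))
    refine mk_ne_zero hL x ht ?_
    rw [h2.smul_eq_zero.mp h1]
    rfl
  have hspec : s = (φ * X.presheaf.stalkSpecializes h a) •
      (Submodule.Quotient.mk (L.presheaf.stalkSpecializes h t₀) : Cyc.secFibre L ξ) := by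
    rw [hφ, ← ha, C1.stalkSpecializes_smul, mul_smul]
    rfl
  have hex' : ∃ φ : X.presheaf.stalk ξ,
      s = φ • (Submodule.Quotient.mk (L.presheaf.stalkSpecializes h t₀) : Cyc.secFibre L ξ) :=
    ⟨_, hspec⟩
  rw [dif_pos hex', C1.residue_eq_of_smul_eq hs (Classical.choose_spec hex') hspec, map_mul]
  refine Eq.trans (Ord.ordAt_mul hδ x ξ h hd _ (Cyc.specMap x ξ h a)
    (residue_ne_zero_of_smul hs hφ) ((hau.map _).ne_zero)) ?_
  rw [Ord.ordAt_specMap_of_isUnit hδ x ξ h hd a hau, add_zero]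

theorem secOrdAt_smul [IsLocallyNoetherian X] {δ : X → ℤ} (hδ : Cyc.IsDimFun X δ)
    (hL : PicF.IsInvertible L) (x ξ : X) (h : ξ ⤳ x) (hd : δ ξ ≤ δ x + 1)
    (s : Cyc.secFibre L ξ) (hs : s ≠ 0) (g : X.presheaf.stalk ξ) (hg : X.residue ξ g ≠ 0) :
    Cyc.secOrdAt L ξ x h (g • s) = Cyc.ordAt x ξ h (X.residue ξ g) + Cyc.secOrdAt L ξ x h s := by
  obtain ⟨t, ht, -⟩ := exists_free_gen hL x
  have hsp := span_stalkSpecializes hL h ht
  obtain ⟨v, hv⟩ := Submodule.Quotient.mk_surjective _ s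
  obtain ⟨φ, hφ⟩ := Submodule.mem_span_singleton.mp
    (show v ∈ Submodule.span (X.presheaf.stalk ξ) {L.presheaf.stalkSpecializes h t} by
      rw [hsp]; trivial)
  have hs1 : s = φ • (Submodule.Quotient.mk (L.presheaf.stalkSpecializes h t) : Cyc.secFibre L ξ) := by
    rw [← hv, ← hφ]; rfl
  have hs2 : g • s = (g * φ) •
      (Submodule.Quotient.mk (L.presheaf.stalkSpecializes h t) : Cyc.secFibre L ξ) := by
    rw [mul_smul, ← hs1]
  have hgs : g • s ≠ 0 := by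
    intro h0
    have hu : IsUnit g := by
      by_contra hu
      exact hg ((IsLocalRing.residue_eq_zero_iff _).mpr ((mem_maximalIdeal _).mpr hu))
    exact hs (hu.smul_eq_zero.mp h0)
  rw [secOrdAt_eq hδ hL x ξ h hd _ hgs t ht _ hs2, secOrdAt_eq hδ hL x ξ h hd s hs t ht φ hs1,
    map_mul]
  exact Ord.ordAt_mul hδ x ξ h hd _ _ hg (residue_ne_zero_of_smul hs hs1)

theorem secDivFun_smul [IsLocallyNoetherian X] {δ : X → ℤ} (hδ : Cyc.IsDimFun X δ)
    (hL : PicF.IsInvertible L) (ξ : X) (s : Cyc.secFibre L ξ) (hs : s ≠ 0)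
    (g : X.presheaf.stalk ξ) (hg : X.residue ξ g ≠ 0) :
    Cyc.secDivFun δ L ξ (g • s) = Cyc.divFun δ ξ (X.residue ξ g) + Cyc.secDivFun δ L ξ s := by
  funext x
  simp only [Cyc.secDivFun, Cyc.divFun, Pi.add_apply]
  split_ifs with hc
  · exact secOrdAt_smul hδ hL x ξ hc.1 hc.2.ge s hs g hg
  · rfl

theorem finite_support_mul (α : AlgebraicCycle X ℤ) (F : X → ℤ) (x : X)
    (hF : ∀ ξ, ¬ ξ ⤳ x → F ξ = 0) :
    (Function.support fun ξ => α ξ * F ξ).Finite := by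
  obtain ⟨t, ht, hfin⟩ := α.supportLocallyFiniteWithinDomain' x (Set.mem_univ x)
  obtain ⟨U, hUt, hUo, hxU⟩ := mem_nhds_iff.mp ht
  refine hfin.subset fun ξ hξ => ?_
  obtain ⟨h1, h2⟩ := mul_ne_zero_iff.mp hξ
  refine ⟨hUt ?_, h1⟩
  by_contra hc
  exact h2 (hF ξ fun hsp => hc (hsp.mem_open hUo hxU))

/-- `Σ α(ξ) div(f_ξ)` is rationally equivalent to zero. -/
theorem ratEquivZero_sum [IsLocallyNoetherian X] {δ : X → ℤ} (hδ : Cyc.IsDimFun X δ) {k : ℤ}
    {α : AlgebraicCycle X ℤ} (hα : α ∈ Cyc.Zk X δ (k + 1)) (f : (ξ : X) → X.residueField ξ)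
    (hf : ∀ ξ, α ξ ≠ 0 → f ξ ≠ 0) {γ : AlgebraicCycle X ℤ}
    (hγ : ∀ x, γ x = ∑ᶠ ξ, α ξ * Cyc.divFun δ ξ (f ξ) x) : Cyc.RatEquivZero δ k γ := by
  classical
  refine ⟨{ξ : X // α ξ ≠ 0}, Subtype.val, fun i => f i.1 ^ α i.1,
    fun i => by by_contra hne; exact i.2 (hα i.1 hne), fun i => zpow_ne_zero _ (hf i.1 i.2),
    fun x => ?_, fun x => ?_⟩
  · obtain ⟨t, ht, hfin⟩ := α.supportLocallyFiniteWithinDomain' x (Set.mem_univ x)
    obtain ⟨U, hUt, hUo, hxU⟩ := mem_nhds_iff.mp ht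
    refine ⟨U, hUo, hxU, (hfin.preimage (Subtype.val_injective.injOn)).subset ?_⟩
    rintro i ⟨y, hy, hyU⟩
    exact ⟨hUt ((specializes_iff_mem_closure.mpr hy).mem_open hUo hyU), i.2⟩
  · rw [hγ]
    refine Eq.trans ?_ (finsum_subtype_eq_finsum_cond
      (f := fun ξ => Cyc.divFun δ ξ (f ξ ^ α ξ) x) (fun ξ => α ξ ≠ 0)).symm
    refine finsum_congr fun ξ => ?_
    by_cases h : α ξ = 0
    · simp [h]
    · simp [h, C1.divFun_zpow hδ ξ _ (hf ξ h)]

/-- `c₁(L) ∩ α` does not depend on the chosen nonzero rational sections. -/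
theorem ratEquiv_c1Cap [IsLocallyNoetherian X] {δ : X → ℤ} (hδ : Cyc.IsDimFun X δ)
    (hL : PicF.IsInvertible L) {k : ℤ} {α : AlgebraicCycle X ℤ} (hα : α ∈ Cyc.Zk X δ (k + 1))
    (s s' : (ξ : X) → Cyc.secFibre L ξ) (hs : ∀ ξ, α ξ ≠ 0 → s ξ ≠ 0)
    (hs' : ∀ ξ, α ξ ≠ 0 → s' ξ ≠ 0) {γ γ' : AlgebraicCycle X ℤ}
    (hγ : ⇑γ = Cyc.c1CapFun δ L ⇑α s) (hγ' : ⇑γ' = Cyc.c1CapFun δ L ⇑α s') :
    Cyc.RatEquiv δ k γ γ' := by
  classical
  have key : ∀ ξ, ∃ g : X.presheaf.stalk ξ, α ξ ≠ 0 → X.residue ξ g ≠ 0 ∧ s ξ = g • s' ξ := by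
    intro ξ
    by_cases h : α ξ = 0
    · exact ⟨0, fun h' => absurd h h'⟩
    · obtain ⟨g, hg⟩ := exists_smul_eq hL ξ (s' ξ) (s ξ) (hs' ξ h) (hs ξ h)
      exact ⟨g, fun _ => hg⟩
  choose g hg using key
  refine ratEquivZero_sum hδ hα (fun ξ => X.residue ξ (g ξ)) (fun ξ h => (hg ξ h).1) fun x => ?_
  rw [Function.locallyFinsuppWithin.coe_sub, Pi.sub_apply, hγ, hγ', Cyc.c1CapFun, Cyc.c1CapFun]
  dsimp only
  rw [← finsum_sub_distrib
    (finite_support_mul α _ x fun ξ h => dif_neg fun hc => h hc.1)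
    (finite_support_mul α _ x fun ξ h => dif_neg fun hc => h hc.1)]
  refine finsum_congr fun ξ => ?_
  by_cases h : α ξ = 0
  · simp [h]
  · rw [(hg ξ h).2, secDivFun_smul hδ hL ξ (s' ξ) (hs' ξ h) (g ξ) (hg ξ h).1, Pi.add_apply]
    ring

end Groth.Agent.Lib.Cyc.C1Indep
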