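import Groth.Agent.Lib.Cyc.PurInsep
import Groth.Agent.Lib.Cyc.FieldDim
import Groth.Agent.Lib.Cyc.FibLen
import Groth.Agent.H46.FiberStalk
import Mathlib.AlgebraicGeometry.Pullbacks

/-!
# Fibres of a purely inseparable base change
-/

set_option autoImplicit false

universe u

open AlgebraicGeometry CategoryTheory CategoryTheory.Limits TensorProduct IsLocalRing

namespace Groth.Agent.Lib.Cyc.PurInsepFibre

theorem length_self_congr {A B : Type u} [CommRing A] [CommRing B] (e : A ≃+* B) :
    Module.length A A = Module.length B B := by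
  have : RingHomSurjective (e : A →+* B) := ⟨e.surjective⟩
  let el : A →ₛₗ[(e : A →+* B)] B :=
    { toFun := e, map_add' := map_add e, map_smul' := fun a b => map_mul e a b }
  rw [Module.length, Module.length, WithBot.unbot_inj]
  exact Order.krullDim_eq_of_orderIso (Submodule.orderIsoMapComapOfBijective el e.bijective)

/-- Residue extensions of `Spec B → Spec A` at the closed point, when powers of all elements of `B`
come from `A`. -/
theorem trdegAt_specMap {A B : CommRingCat.{u}} [IsLocalRing B] (φ : A ⟶ B)
    (H : ∀ b : B, ∃ n > 0, b ^ n ∈ φ.hom.range) :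
    Residue.trdegAt (Spec.map φ) (closedPoint B) = 0 := by
  let c := closedPoint B
  let := ((Spec.map φ).residueFieldMap c).hom.toAlgebra
  refine trdeg_eq_zero_iff.mpr (Algebra.isAlgebraic_iff_isIntegral.mpr ⟨fun r => ?_⟩)
  obtain ⟨s, rfl⟩ := (Spec B).residue_surjective c r
  let b : B := (stalkClosedPointIso B).hom s
  have hs : (Spec B).presheaf.germ ⊤ c trivial ((Scheme.ΓSpecIso B).inv b) = s := by
    rw [← ΓSpecIso_hom_stalkClosedPointIso_inv, CommRingCat.comp_apply,
      show (Scheme.ΓSpecIso B).hom ((Scheme.ΓSpecIso B).inv b) = b from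
        ConcreteCategory.congr_hom (Scheme.ΓSpecIso B).inv_hom_id b]
    exact ConcreteCategory.congr_hom (stalkClosedPointIso B).hom_inv_id s
  obtain ⟨n, hn, a, ha⟩ := H b
  refine IsIntegral.of_pow (R := (Spec A).residueField ((Spec.map φ) c)) hn ?_
  have e : (Spec B).residue c s ^ n =
      (Spec.map φ).residueFieldMap c ((Spec A).Γevaluation _ ((Scheme.ΓSpecIso A).inv a)) := by
    rw [Scheme.Γevaluation_naturality_apply,
      show (Spec.map φ).appTop ((Scheme.ΓSpecIso A).inv a) = (Scheme.ΓSpecIso B).inv (φ a) from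
        (ConcreteCategory.congr_hom (Scheme.ΓSpecIso_inv_naturality φ) a).symm,
      show φ a = b ^ n from ha, map_pow, map_pow, ← hs]
    rfl
  rw [e]
  exact isIntegral_algebraMap

theorem trdegAt_congr_point {X Y : Scheme.{u}} (f : X ⟶ Y) {x x' : X} (h : x = x') :
    Residue.trdegAt f x = Residue.trdegAt f x' := by rw [h]

theorem trdegAt_specMap' {A B : CommRingCat.{u}} [IsLocalRing B] [Subsingleton (PrimeSpectrum B)]
    (φ : A ⟶ B) (H : ∀ b : B, ∃ n > 0, b ^ n ∈ φ.hom.range) (x : Spec B) :
    Residue.trdegAt (Spec.map φ) x = 0 :=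
  (trdegAt_congr_point _ (Subsingleton.elim (α := PrimeSpectrum B) x (closedPoint B))).trans
    (trdegAt_specMap φ H)

section

variable (k K : Type u) [Field k] [Field K] [Algebra k K] [IsPurelyInseparable k K]
  {X : Scheme.{u}} (f : X ⟶ Spec (CommRingCat.of k))

/-- The base change of `Spec K → Spec k`. -/
noncomputable abbrev proj : pullback f (Spec.map (CommRingCat.ofHom (algebraMap k K))) ⟶ X :=
  pullback.fst _ _

theorem fibre_iso (x : X) :
    ∃ (_ : Algebra k (X.residueField x))
      (e : (proj k K f).fiber x ≅ Spec (CommRingCat.of (K ⊗[k] (X.residueField x)))),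
      e.hom ≫ Spec.map (CommRingCat.ofHom
        (AlgHom.toRingHom (Algebra.TensorProduct.includeRight :
          X.residueField x →ₐ[k] K ⊗[k] (X.residueField x)))) =
        (proj k K f).fiberToSpecResidueField x := by
  let φ : CommRingCat.of k ⟶ X.residueField x := Spec.preimage (X.fromSpecResidueField x ≫ f)
  let : Algebra k (X.residueField x) := φ.hom.toAlgebra
  refine ⟨this, ?_⟩
  have hφ : Spec.map (CommRingCat.ofHom (algebraMap k (X.residueField x))) =
      X.fromSpecResidueField x ≫ f := Spec.map_preimage _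
  have h1 : IsPullback ((proj k K f).fiberι x) ((proj k K f).fiberToSpecResidueField x)
      (proj k K f) (X.fromSpecResidueField x) := IsPullback.of_hasPullback _ _
  have h2 : IsPullback (pullback.snd f (Spec.map (CommRingCat.ofHom (algebraMap k K)))) (proj k K f)
      (Spec.map (CommRingCat.ofHom (algebraMap k K))) f := (IsPullback.of_hasPullback _ _).flip
  have h3 := h1.paste_horiz h2
  rw [← hφ] at h3
  refine ⟨h3.isoPullback ≪≫ pullbackSpecIso k K (X.residueField x), ?_⟩
  rw [Iso.trans_hom, Category.assoc]
  erw [pullbackSpecIso_hom_snd]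
  exact IsPullback.isoPullback_hom_snd h3

theorem subsingleton_fibre (x : X) : Subsingleton ((proj k K f).fiber x) := by
  obtain ⟨_, e, -⟩ := fibre_iso k K f x
  have : Subsingleton (Spec (CommRingCat.of (K ⊗[k] (X.residueField x)))) :=
    PurInsep.subsingleton_primeSpectrum k (X.residueField x) K
  exact e.hom.isEmbedding.injective.subsingleton

theorem proj_injective : Function.Injective (proj k K f) := by
  intro a b hab
  have := subsingleton_fibre k K f ((proj k K f) a)
  obtain ⟨a', ha'⟩ := FieldDim.exists_fiberι_eq (proj k K f) a ((proj k K f) a) rfl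
  obtain ⟨b', hb'⟩ := FieldDim.exists_fiberι_eq (proj k K f) b ((proj k K f) a) hab.symm
  rw [← ha', ← hb', Subsingleton.elim a' b']

theorem isMaxFib_proj (a) : FibLen.IsMaxFib (proj k K f) a :=
  fun _ hb _ => proj_injective k K f hb

theorem exists_fibLen_eq_pow (p : ℕ) [ExpChar k p]
    [IsLocallyNoetherian (pullback f (Spec.map (CommRingCat.ofHom (algebraMap k K))))] (a) :
    ∃ m : ℕ, FibLen.fibLen (proj k K f) a = ((p ^ m : ℕ) : ℕ∞) := by
  set x := (proj k K f) a
  obtain ⟨_, e, -⟩ := fibre_iso k K f x
  let B := CommRingCat.of (K ⊗[k] (X.residueField x))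
  have : IsLocalRing B := PurInsep.isLocalRing_tensor k (X.residueField x) K
  have hsub : Subsingleton (PrimeSpectrum B) :=
    PurInsep.subsingleton_primeSpectrum k (X.residueField x) K
  set z := (proj k K f).asFiber a
  let E : (pullback f _).presheaf.stalk a ⧸ Ideal.map ((proj k K f).stalkMap a).hom
      (maximalIdeal (X.presheaf.stalk x)) ≃+* B :=
    (H46.FiberStalk.quotientEquiv (proj k K f) a).trans
      (((asIso (e.hom.stalkMap z)).symm ≪≫
        (Spec B).presheaf.stalkCongr (.of_eq (Subsingleton.elim (α := PrimeSpectrum B) (e.hom z)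
          (closedPoint B))) ≪≫ stalkClosedPointIso B).commRingCatIsoToRingEquiv)
  have : IsNoetherianRing (K ⊗[k] (X.residueField x)) := isNoetherianRing_of_ringEquiv _ E
  obtain ⟨m, hm⟩ := PurInsep.exists_length_eq_pow k (X.residueField x) K p
  refine ⟨m, ?_⟩
  rw [← hm, ← length_self_congr E]
  exact Module.length_eq_of_surjective Ideal.Quotient.mk_surjective

theorem trdegAt_proj (a) : Residue.trdegAt (proj k K f) a = 0 := by
  set x := (proj k K f) a
  obtain ⟨_, e, he⟩ := fibre_iso k K f x
  let B := CommRingCat.of (K ⊗[k] (X.residueField x))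
  have : IsLocalRing B := PurInsep.isLocalRing_tensor k (X.residueField x) K
  have : Subsingleton (PrimeSpectrum B) :=
    PurInsep.subsingleton_primeSpectrum k (X.residueField x) K
  set z := (proj k K f).asFiber a
  have h1 : Residue.trdegAt ((proj k K f).fiberι x ≫ proj k K f) z =
      Residue.trdegAt (proj k K f) a := by
    rw [Residue.trdegAt_comp, FieldDim.trdegAt_eq_zero_of_surjective ((proj k K f).fiberι x) z
      (FieldDim.residueFieldMap_surjective _ z), add_zero, Scheme.Hom.fiberι_asFiber]
  rw [← h1, (proj k K f).fiber_fac, Residue.trdegAt_comp, ← he, Residue.trdegAt_comp,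
    FieldDim.trdegAt_eq_zero_of_surjective (X.fromSpecResidueField x) _
      (FieldDim.residueFieldMap_surjective _ _),
    FieldDim.trdegAt_eq_zero_of_surjective e.hom _ (FieldDim.residueFieldMap_surjective _ _)]
  simp only [zero_add, add_zero]
  exact trdegAt_specMap' _ (fun b => PurInsep.exists_pow_mem k (X.residueField x) K b) _

theorem trdegAt_specMap_algebraMap (pt) :
    Residue.trdegAt (Spec.map (CommRingCat.ofHom (algebraMap k K))) pt = 0 := by
  have : Subsingleton (PrimeSpectrum (CommRingCat.of K)) :=
    inferInstanceAs (Subsingleton (PrimeSpectrum K))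
  refine trdegAt_specMap' (A := CommRingCat.of k) (B := CommRingCat.of K) _ (fun b => ?_) pt
  obtain ⟨n, hn⟩ := IsPurelyInseparable.pow_mem k (ringExpChar k) (b : K)
  exact ⟨_, pow_pos (expChar_pos k (ringExpChar k)) n, hn⟩

end

end Groth.Agent.Lib.Cyc.PurInsepFibre
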