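import Groth.Agent.Lib.Cyc.PurInsep
import Groth.Agent.Lib.Cyc.PurInsepFibre
import Groth.Agent.H52.FBase.GeomRed
import Mathlib.RingTheory.TensorProduct.MvPolynomial
import Mathlib.RingTheory.LocalProperties.Reduced
import Mathlib.RingTheory.Localization.BaseChange
import Mathlib.RingTheory.AlgebraicIndependent.Adjoin
import Mathlib.RingTheory.AlgebraicIndependent.TranscendenceBasis
import Mathlib.FieldTheory.SeparableClosure
import Mathlib.RingTheory.Unramified.Field

/-!
# Multiplicities of components of base changed fields are powers of the characteristic exponent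
-/

set_option autoImplicit false

universe u

open TensorProduct IsLocalRing

namespace Groth.Agent.Lib.Cyc.MultPow

theorem isReduced_tensor_fractionRing (k K : Type u) [Field k] [Field K] [Algebra k K] (σ : Type u) :
    IsReduced (FractionRing (MvPolynomial σ k) ⊗[k] K) := by
  let R0 := MvPolynomial σ k
  let F0 := FractionRing R0
  let R1 := R0 ⊗[k] K
  have : IsReduced R1 := by
    have : IsReduced (MvPolynomial σ K) := inferInstance
    exact isReduced_of_injective
      ((Algebra.TensorProduct.comm k R0 K).toRingEquiv.trans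
        (MvPolynomial.algebraTensorAlgEquiv k K).toRingEquiv)
      (RingEquiv.injective _)
  have : IsLocalization (Algebra.algebraMapSubmonoid R1 (nonZeroDivisors R0)) (R1 ⊗[R0] F0) :=
    IsLocalization.tensor F0 (nonZeroDivisors R0)
  have : IsReduced (R1 ⊗[R0] F0) :=
    isReduced_localizationPreserves (Algebra.algebraMapSubmonoid R1 (nonZeroDivisors R0))
      (R1 ⊗[R0] F0) (inferInstance : IsReduced R1)
  exact isReduced_of_injective
    ((Algebra.TensorProduct.cancelBaseChange k R0 F0 F0 K).symm.toRingEquiv.trans
      (Algebra.TensorProduct.comm R0 F0 R1).toRingEquiv) (RingEquiv.injective _)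

theorem isReduced_tensor_separable (k K F E : Type u) [Field k] [Field K] [Field F] [Field E]
    [Algebra k K] [Algebra k F] [Algebra F E] [Algebra k E] [IsScalarTower k F E]
    [Algebra.IsSeparable F E] [Module.Finite F E] [IsReduced (F ⊗[k] K)] :
    IsReduced (E ⊗[k] K) := by
  have : Algebra.FormallyUnramified F E := Algebra.FormallyUnramified.of_isSeparable F E
  have : Algebra.IsGeometricallyReduced F E := by
    rw [Algebra.isGeometricallyReduced_field_iff]
    exact Algebra.FormallyUnramified.isReduced_of_field (AlgebraicClosure F) _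
  have : IsReduced (E ⊗[F] (F ⊗[k] K)) := H52.FBase.GeomRed.isReduced_tensor
  exact isReduced_of_injective (Algebra.TensorProduct.cancelBaseChange k F E E K).symm
    (AlgEquiv.injective _)

theorem isField_of_reduced (R : Type u) [CommRing R] [IsLocalRing R] [IsReduced R]
    (h : Subsingleton (PrimeSpectrum R)) : IsField R := by
  rw [IsLocalRing.isField_iff_maximalIdeal_eq, eq_bot_iff]
  intro x hx
  have hn : IsNilpotent x := (nilpotent_iff_mem_prime (R := R) (x := x)).mpr fun J hJ => by
    have : (⟨J, hJ⟩ : PrimeSpectrum R) = closedPoint R := Subsingleton.elim _ _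
    rw [show J = maximalIdeal R from congrArg PrimeSpectrum.asIdeal this]
    exact hx
  simp [hn.eq_zero]

/-- Purely inseparable extensions of a reduced ring: lengths at minimal primes. -/
theorem exists_length_eq_pow_core (E L A : Type u) [Field E] [Field L] [Algebra E L]
    [FiniteDimensional E L] [IsPurelyInseparable E L] [CommRing A] [Algebra E A] [IsReduced A]
    (p : ℕ) [ExpChar E p] (q : Ideal (A ⊗[E] L)) [q.IsPrime] (hq : q ∈ minimalPrimes (A ⊗[E] L)) :
    ∃ n : ℕ, Module.length (Localization.AtPrime q) (Localization.AtPrime q) = ((p ^ n : ℕ) : ℕ∞) := by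
  let B := A ⊗[E] L
  have hinj : Function.Injective (algebraMap A B) :=
    Algebra.TensorProduct.includeLeft_injective (S := A) (algebraMap E L).injective
  have hhom : IsHomeomorph (PrimeSpectrum.comap (algebraMap A B)) :=
    PrimeSpectrum.isHomeomorph_comap_of_isPurelyInseparable E L A
  let Q : PrimeSpectrum B := ⟨q, inferInstance⟩
  let Q' : PrimeSpectrum A := PrimeSpectrum.comap (algebraMap A B) Q
  let q' : Ideal A := Q'.asIdeal
  have hq'min : ∀ P : PrimeSpectrum A, P ≤ Q' → P = Q' := by
    intro P hP
    obtain ⟨P₀, rfl⟩ := hhom.bijective.2 P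
    rw [PrimeSpectrum.le_iff_specializes] at hP
    have h1 : P₀ ≤ Q := (PrimeSpectrum.le_iff_specializes _ _).mpr
      (hhom.isInducing.specializes_iff.mp hP)
    have h2 : Q.asIdeal ≤ P₀.asIdeal := hq.2 ⟨P₀.isPrime, bot_le⟩ h1
    rw [PrimeSpectrum.ext (le_antisymm h1 h2)]
  let F := Localization.AtPrime q'
  have hFsub : Subsingleton (PrimeSpectrum F) := by
    have hinj' := PrimeSpectrum.localization_comap_injective F q'.primeCompl
    refine ⟨fun a b => hinj' ?_⟩
    have hle : ∀ c : PrimeSpectrum F, PrimeSpectrum.comap (algebraMap A F) c = Q' := by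
      intro c
      refine hq'min _ fun r hr => ?_
      by_contra hr'
      exact c.isPrime.ne_top (Ideal.eq_top_of_isUnit_mem _ hr
        (IsLocalization.map_units F (⟨r, hr'⟩ : q'.primeCompl)))
    rw [hle, hle]
  let hFfield : IsField F := isField_of_reduced F hFsub
  let : Field F := hFfield.toField
  have hloc : IsLocalRing (L ⊗[E] F) := PurInsep.isLocalRing_tensor E F L
  let T := B ⊗[A] F
  let e : T ≃+* L ⊗[E] F :=
    (Algebra.TensorProduct.comm A B F).toRingEquiv.trans
      ((Algebra.TensorProduct.cancelBaseChange E A F F L).toRingEquiv.trans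
        (Algebra.TensorProduct.comm E F L).toRingEquiv)
  have : IsLocalRing T := e.symm.isLocalRing
  have hM : IsLocalization (Algebra.algebraMapSubmonoid B q'.primeCompl) T :=
    IsLocalization.tensor F q'.primeCompl
  have hTq : IsLocalization.AtPrime T q := by
    refine IsLocalization.of_le (M := Algebra.algebraMapSubmonoid B q'.primeCompl) _ ?_ ?_
    · rintro _ ⟨r, hr, rfl⟩
      exact hr
    · intro r hr
      by_contra hu
      let P : PrimeSpectrum B := PrimeSpectrum.comap (algebraMap B T) (closedPoint T)
      have hrP : r ∈ P.asIdeal := hu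
      have hP' : PrimeSpectrum.comap (algebraMap A B) P = Q' := by
        refine hq'min _ fun a ha => ?_
        by_contra ha'
        exact (closedPoint T).isPrime.ne_top (Ideal.eq_top_of_isUnit_mem _ ha
          (IsLocalization.map_units T
            (⟨algebraMap A B a, a, ha', rfl⟩ : Algebra.algebraMapSubmonoid B q'.primeCompl)))
      have : P = Q := hhom.bijective.1 hP'
      exact hr (this ▸ hrP : r ∈ Q.asIdeal)
  have : ExpChar E p := ‹_›
  obtain ⟨n, hn⟩ := PurInsep.exists_length_eq_pow_of_finite E F p L
  refine ⟨n, ?_⟩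
  rw [← hn]
  exact PurInsepFibre.length_self_congr
    ((IsLocalization.algEquiv q.primeCompl (Localization.AtPrime q) T).toRingEquiv.trans e)

theorem exists_length_eq_pow_of_tower (k K E L : Type u) [Field k] [Field K] [Field E] [Field L]
    [Algebra k K] [Algebra k E] [Algebra E L] [Algebra k L] [IsScalarTower k E L]
    [FiniteDimensional E L] [IsPurelyInseparable E L] [IsReduced (E ⊗[k] K)]
    (p : ℕ) [ExpChar k p] (q : Ideal (K ⊗[k] L)) [q.IsPrime] (hq : q ∈ minimalPrimes (K ⊗[k] L)) :
    ∃ n : ℕ, Module.length (Localization.AtPrime q) (Localization.AtPrime q) = ((p ^ n : ℕ) : ℕ∞) := by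
  have : ExpChar E p := expChar_of_injective_algebraMap (algebraMap k E).injective p
  let A := E ⊗[k] K
  let e : A ⊗[E] L ≃+* K ⊗[k] L :=
    (Algebra.TensorProduct.comm E A L).toRingEquiv.trans
      ((Algebra.TensorProduct.cancelBaseChange k E L L K).toRingEquiv.trans
        (Algebra.TensorProduct.comm k L K).toRingEquiv)
  let q₀ : Ideal (A ⊗[E] L) := q.comap e
  have hprime : q₀.IsPrime := Ideal.IsPrime.comap _
  have hq₀ : q₀ ∈ minimalPrimes (A ⊗[E] L) := by
    refine ⟨⟨hprime, bot_le⟩, fun P hP hPle => ?_⟩
    have hP' : (P.comap e.symm).IsPrime := by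
      have := hP.1
      exact Ideal.IsPrime.comap _
    have hle : P.comap e.symm ≤ q := fun x hx => by
      have : e (e.symm x) ∈ q := hPle hx
      rwa [e.apply_symm_apply] at this
    intro x hx
    have := hq.2 ⟨hP', bot_le⟩ hle (show e x ∈ q from hx)
    rwa [Ideal.mem_comap, RingEquiv.symm_apply_apply] at this
  obtain ⟨n, hn⟩ := exists_length_eq_pow_core E L A p q₀ hq₀
  refine ⟨n, ?_⟩
  rw [← hn]
  refine PurInsepFibre.length_self_congr
    (IsLocalization.ringEquivOfRingEquiv (Localization.AtPrime q) (Localization.AtPrime q₀)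
      (M := q.primeCompl) (T := q₀.primeCompl) e.symm ?_)
  ext x
  simp only [Submonoid.mem_map, q₀]
  constructor
  · rintro ⟨y, hy, rfl⟩ h
    exact hy (by simpa using h)
  · intro hx
    exact ⟨e x, hx, e.symm_apply_apply x⟩

theorem exists_length_eq_pow_of_finite (k K F L : Type u) [Field k] [Field K] [Field F] [Field L]
    [Algebra k K] [Algebra k F] [Algebra F L] [Algebra k L] [IsScalarTower k F L]
    [FiniteDimensional F L] [IsReduced (F ⊗[k] K)]
    (p : ℕ) [ExpChar k p] (q : Ideal (K ⊗[k] L)) [q.IsPrime] (hq : q ∈ minimalPrimes (K ⊗[k] L)) :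
    ∃ n : ℕ, Module.length (Localization.AtPrime q) (Localization.AtPrime q) = ((p ^ n : ℕ) : ℕ∞) := by
  have : IsReduced ((separableClosure F L) ⊗[k] K) :=
    isReduced_tensor_separable k K F (separableClosure F L)
  have : FiniteDimensional (separableClosure F L) L :=
    FiniteDimensional.right F (separableClosure F L) L
  have : IsPurelyInseparable (separableClosure F L) L := separableClosure.isPurelyInseparable F L
  have : IsScalarTower k (separableClosure F L) L :=
    IsScalarTower.of_algebraMap_eq fun x => by
      rw [IsScalarTower.algebraMap_apply k F (separableClosure F L),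
        ← IsScalarTower.algebraMap_apply F (separableClosure F L) L,
        IsScalarTower.algebraMap_apply k F L]
  exact exists_length_eq_pow_of_tower k K (separableClosure F L) L p q hq

theorem exists_length_eq_pow (k K L : Type u) [Field k] [Field K] [Field L] [Algebra k K]
    [Algebra k L] (hL : (⊤ : IntermediateField k L).FG) (p : ℕ) [ExpChar k p]
    (q : Ideal (K ⊗[k] L)) [q.IsPrime] (hq : q ∈ minimalPrimes (K ⊗[k] L)) :
    ∃ n : ℕ, Module.length (Localization.AtPrime q) (Localization.AtPrime q) = ((p ^ n : ℕ) : ℕ∞) := by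
  obtain ⟨s, hs⟩ := exists_isTranscendenceBasis k L
  let F := IntermediateField.adjoin k (Set.range ((↑) : s → L))
  have : Algebra.IsAlgebraic F L := hs.isAlgebraic_field
  have : IsReduced (F ⊗[k] K) := by
    have := isReduced_tensor_fractionRing k K s
    exact isReduced_of_injective
      (Algebra.TensorProduct.congr hs.1.aevalEquivField.symm (AlgEquiv.refl (A₁ := K)))
      (AlgEquiv.injective _)
  have : FiniteDimensional F L := by
    obtain ⟨t, ht⟩ := hL
    have htop : IntermediateField.adjoin F (t : Set L) = ⊤ := by
      rw [← IntermediateField.restrictScalars_eq_top_iff (K := k), eq_top_iff, ← ht,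
        IntermediateField.adjoin_le_iff]
      exact IntermediateField.subset_adjoin F (t : Set L)
    have h1 : FiniteDimensional F (IntermediateField.adjoin F (t : Set L)) :=
      IntermediateField.finiteDimensional_adjoin fun x _ => Algebra.IsIntegral.isIntegral x
    rw [htop] at h1
    exact Module.Finite.equiv IntermediateField.topEquiv.toLinearEquiv
  exact exists_length_eq_pow_of_finite k K F L p q hq

end Groth.Agent.Lib.Cyc.MultPow
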