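import Groth.Agent.Lib.Cyc.InducedDimFun
import Groth.Agent.Lib.Cyc.FibLen
import Groth.Agent.Lib.Cyc.LocalDim
import Mathlib.RingTheory.Ideal.GoingDown

/-!
# Flat morphisms: dimensions at generic points of fibres
-/

set_option autoImplicit false

universe u

namespace Groth.Agent.Lib.Cyc.FlatDim

open AlgebraicGeometry CategoryTheory IsLocalRing Groth.Agent.Lib.Cyc

variable {X Y : Scheme.{u}} (f : X ⟶ Y)

/-- At a generic point of a fibre of a flat map the local rings have the same dimension. -/
theorem ringKrullDim_stalk_of_isMaxFib [Flat f] [IsLocallyNoetherian X] (x : X)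
    (hx : FibLen.IsMaxFib f x) :
    ringKrullDim (X.presheaf.stalk x) = ringKrullDim (Y.presheaf.stalk (f x)) ∨
      ¬ IsNoetherianRing (Y.presheaf.stalk (f x)) := by
  by_cases hN : IsNoetherianRing (Y.presheaf.stalk (f x))
  swap
  · exact Or.inr hN
  refine Or.inl ?_
  let := (f.stalkMap x).hom.toAlgebra
  have : IsLocalHom (algebraMap (Y.presheaf.stalk (f x)) (X.presheaf.stalk x)) :=
    inferInstanceAs (IsLocalHom (f.stalkMap x).hom)
  have : Module.Flat (Y.presheaf.stalk (f x)) (X.presheaf.stalk x) := Flat.stalkMap f x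
  set p := maximalIdeal (Y.presheaf.stalk (f x))
  set P := maximalIdeal (X.presheaf.stalk x)
  have : P.LiesOver p := ⟨(IsLocalRing.maximalIdeal_comap (algebraMap (Y.presheaf.stalk (f x))
    (X.presheaf.stalk x))).symm⟩
  have h := Ideal.height_eq_height_add_of_liesOver_of_hasGoingDown p P
  have h0 : (P.map (Ideal.Quotient.mk (p.map (algebraMap (Y.presheaf.stalk (f x))
      (X.presheaf.stalk x))))).height = 0 := by
    set I := p.map (algebraMap (Y.presheaf.stalk (f x)) (X.presheaf.stalk x))
    have hI : I ≤ P := Ideal.map_le_iff_le_comap.mpr (Ideal.LiesOver.over (p := p) (P := P)).le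
    have : (P.map (Ideal.Quotient.mk I)).IsPrime :=
      Ideal.map_isPrime_of_surjective Ideal.Quotient.mk_surjective (by rwa [Ideal.mk_ker])
    have h0 : Ring.KrullDimLE 0 (X.presheaf.stalk x ⧸ I) := by
      rw [Ring.krullDimLE_iff, ringKrullDim_quotient]
      refine Order.krullDim_nonpos_iff_forall_isMax.mpr fun a b _ => ?_
      refine (DimFun.fromSpecStalk_specializes_iff x _ _).mp (specializes_of_eq ?_)
      rw [hx _ ((FibLen.map_le_iff f x _).mp b.2) (DimFun.fromSpecStalk_specializes_self x _),
        hx _ ((FibLen.map_le_iff f x _).mp a.2) (DimFun.fromSpecStalk_specializes_self x _)]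
    have h1 := Ideal.height_le_ringKrullDim_of_ne_top (I := P.map (Ideal.Quotient.mk I)) this.ne_top
    have h2 : ringKrullDim (X.presheaf.stalk x ⧸ I) ≤ 0 := Ring.krullDimLE_iff.mp h0
    exact le_antisymm (by exact_mod_cast h1.trans h2) bot_le
  rw [h0, add_zero] at h
  rw [← maximalIdeal_height_eq_ringKrullDim, ← maximalIdeal_height_eq_ringKrullDim, h]

theorem isMaxPt_of_flat [Flat f] {x : X} (h : DimFun.IsMaxPt x) : DimFun.IsMaxPt (f x) := by
  intro y hy
  obtain ⟨x', hx', rfl⟩ := Flat.generalizingMap f hy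
  rw [h x' hx']

/-- For a flat map of irreducible schemes the dimension shift at generic points of fibres. -/
theorem delta_shift [Flat f] [LocallyOfFiniteType f] [IrreducibleSpace X] [IrreducibleSpace Y]
    {δX : X → ℤ} {δY : Y → ℤ} (hY : Cyc.IsSetup Y δY) (hδ : Cyc.DeltaCompat f δX δY) (x : X)
    (hx : FibLen.IsMaxFib f x) :
    δX x - δY (f x) = δX (genericPoint X) - δY (genericPoint Y) := by
  have := hY.1
  have : IsLocallyNoetherian X := LocallyOfFiniteType.isLocallyNoetherian f
  have hX := InducedDimFun.isDimFun f hY.2.2 hY.2.1 hδ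
  have h1 := DimFun.ringKrullDim_stalk hX x
  have h2 := DimFun.ringKrullDim_stalk hY.2.2 (f x)
  rcases ringKrullDim_stalk_of_isMaxFib f x hx with h | h
  · rw [h1, h2] at h
    have e : (δX (genericPoint X) - δX x).toNat = (δY (genericPoint Y) - δY (f x)).toNat := by
      exact_mod_cast h
    have := DimFun.le_of_specializes hX (genericPoint_specializes x)
    have := DimFun.le_of_specializes hY.2.2 (genericPoint_specializes (f x))
    omega
  · exact absurd (inferInstanceAs (IsNoetherianRing (Y.presheaf.stalk (f x)))) h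

theorem genericPoint_maps [Flat f] [IrreducibleSpace X] [IrreducibleSpace Y] :
    f (genericPoint X) = genericPoint Y :=
  (isMaxPt_of_flat f DimFun.isMaxPt_genericPoint _ (genericPoint_specializes _)).symm

theorem exists_isMaxFib_specializes (x : X) :
    ∃ ξ, ξ ⤳ x ∧ f ξ = f x ∧ FibLen.IsMaxFib f ξ := by
  obtain ⟨z, hz, hzmax⟩ := DimFun.exists_isMaxPt_specializes (f.asFiber x)
  refine ⟨f.fiberι _ z, ?_, FieldDim.apply_fiberι f _ z, (FieldDim.isMaxFib_iff f _ z).mpr hzmax⟩
  rw [FieldDim.fiber_specializes_iff, f.fiberι_asFiber] at hz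
  exact hz

end Groth.Agent.Lib.Cyc.FlatDim
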