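import Groth.Agent.Lib.Cyc.FibLen
import Groth.Agent.Lib.Lim.Basic
import Groth.Agent.Lib.Lim.IdealDescend
import Groth.Agent.Lib.Lim.Topology
import Mathlib.RingTheory.Ideal.MinimalPrime.Basic

/-!
# Cycles along cofiltered limits with affine transition maps

* every point of a fibre generalizes to a generic point of the fibre;
* a point missed by the limit is missed by some stage.
-/

set_option autoImplicit false

universe u

namespace Groth.Agent.Lib.Cyc.LimCyc

open AlgebraicGeometry CategoryTheory CategoryTheory.Limits IsLocalRing Groth.Agent.Lib.Cyc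

/-- Every point of a fibre specializes from a generic point of that fibre. -/
theorem exists_isMaxFib {X Y : Scheme.{u}} (f : X ⟶ Y) (x : X) :
    ∃ ξ, ξ ⤳ x ∧ f ξ = f x ∧ FibLen.IsMaxFib f ξ := by
  set I := Ideal.map (f.stalkMap x).hom (maximalIdeal (Y.presheaf.stalk (f x)))
  have hI : I ≤ (closedPoint (X.presheaf.stalk x)).asIdeal :=
    (FibLen.map_le_iff f x _).mpr (by rw [Scheme.fromSpecStalk_closedPoint])
  obtain ⟨P, hP, -⟩ := Ideal.exists_minimalPrimes_le hI
  let p : PrimeSpectrum (X.presheaf.stalk x) := ⟨P, hP.1.1⟩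
  refine ⟨X.fromSpecStalk x p, DimFun.fromSpecStalk_specializes_self x p,
    (FibLen.map_le_iff f x p).mp hP.1.2, fun y hy hyp => ?_⟩
  have hyx := hyp.trans (DimFun.fromSpecStalk_specializes_self x p)
  have h2 : (DimFun.genPrime x y hyx).asIdeal ≤ P := by
    show DimFun.genPrime x y hyx ≤ p
    rw [← DimFun.fromSpecStalk_specializes_iff, DimFun.fromSpecStalk_genPrime]
    exact hyp
  have h1 : I ≤ (DimFun.genPrime x y hyx).asIdeal := (FibLen.map_le_iff f x _).mpr (by
    rw [DimFun.fromSpecStalk_genPrime, hy, (FibLen.map_le_iff f x p).mp hP.1.2])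
  have : DimFun.genPrime x y hyx = p :=
    PrimeSpectrum.ext (le_antisymm h2 (hP.2 ⟨(DimFun.genPrime x y hyx).isPrime, h1⟩ h2))
  rw [← this, DimFun.fromSpecStalk_genPrime]

variable {I : Type u} [SmallCategory I] [IsCofiltered I] {D : I ⥤ Scheme.{u}} {c : Cone D}

/-- A point outside the image of the limit is outside the image of some stage. -/
theorem exists_stage_not_mem_range (hc : IsLimit c)
    (haff : ∀ {i j : I} (f : i ⟶ j), IsAffineHom (D.map f)) {i : I} (ξ : D.obj i)
    (h : ∀ y : c.pt, c.π.app i y ≠ ξ) :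
    ∃ (j : I) (f : j ⟶ i), ∀ z : D.obj j, D.map f z ≠ ξ := by
  by_contra! H
  have := @haff
  let T : Scheme.{u} := Spec ((D.obj i).residueField ξ)
  let a : T ⟶ D.obj i := (D.obj i).fromSpecResidueField ξ
  let P := pullback a (c.π.app i)
  have hP : IsPullback (pullback.fst a (c.π.app i)) (pullback.snd a (c.π.app i)) a (c.π.app i) :=
    IsPullback.of_hasPullback _ _
  have : ∀ j : Over i, Nonempty ((Lim.Basic.bcDiagram D a).obj j) := by
    intro j
    obtain ⟨z, hz⟩ := H j.left j.hom
    obtain ⟨w, -, -⟩ := Scheme.Pullback.exists_preimage_pullback (f := a) (g := D.map j.hom)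
      (Classical.arbitrary T) z (by rw [hz]; exact Scheme.fromSpecResidueField_apply _ _)
    exact ⟨w⟩
  have : ∀ j : Over i, CompactSpace ((Lim.Basic.bcDiagram D a).obj j) :=
    fun j => Lim.Basic.compactSpace_bcDiagram D a j
  obtain ⟨w⟩ := Scheme.nonempty_of_isLimit _ _ (Lim.Basic.isLimitBcCone hc hP)
  refine h (pullback.snd a (c.π.app i) w) ?_
  rw [← Scheme.Hom.comp_apply, ← pullback.condition, Scheme.Hom.comp_apply]
  exact Scheme.fromSpecResidueField_apply _ _

/-- A finite set of points outside the image of the limit is missed by a common stage. -/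
theorem exists_stage_not_mem_range_finset (hc : IsLimit c)
    (haff : ∀ {i j : I} (f : i ⟶ j), IsAffineHom (D.map f)) {i : I} (s : Finset (D.obj i))
    (h : ∀ ξ ∈ s, ∀ y : c.pt, c.π.app i y ≠ ξ) :
    ∃ (j : I) (f : j ⟶ i), ∀ z : D.obj j, D.map f z ∉ s := by
  classical
  induction s using Finset.induction_on with
  | empty => exact ⟨i, 𝟙 i, fun z => Finset.notMem_empty _⟩
  | insert a s _ ih =>
    obtain ⟨j, f, hj⟩ := ih fun ξ hξ => h ξ (Finset.mem_insert_of_mem hξ)
    obtain ⟨j', f', hj'⟩ := exists_stage_not_mem_range hc haff a (h a (Finset.mem_insert_self _ _))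
    obtain ⟨k, g, g', e⟩ := IsCofiltered.cospan f f'
    refine ⟨k, g ≫ f, fun z hz => ?_⟩
    rcases Finset.mem_insert.mp hz with hz | hz
    · rw [e, D.map_comp, Scheme.Hom.comp_apply] at hz
      exact hj' _ hz
    · rw [D.map_comp, Scheme.Hom.comp_apply] at hz
      exact hj _ hz

section Descend

variable [∀ {i j : I} (f : i ⟶ j), IsAffineHom (D.map f)]

omit [∀ {i j : I} (f : i ⟶ j), IsAffineHom (D.map f)] in
theorem germ_appLE {A B : Scheme.{u}} (g : A ⟶ B) (U : B.Opens) (V : A.Opens) (e : V ≤ g ⁻¹ᵁ U)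
    (x : A) (hx : x ∈ V) (t : Γ(B, U)) :
    g.stalkMap x (B.presheaf.germ U (g x) (e hx) t) =
      A.presheaf.germ V x hx (g.appLE U V e t) := by
  rw [Scheme.Hom.germ_stalkMap_apply, Scheme.Hom.appLE, CommRingCat.comp_apply]
  exact (TopCat.Presheaf.germ_res_apply A.presheaf _ _ _ _).symm

/-- Every element of a local ring of the limit comes from some stage. -/
theorem exists_stalkMap_eq (hc : IsLimit c) (x : c.pt) (a : c.pt.presheaf.stalk x) :
    ∃ (j : I) (b : (D.obj j).presheaf.stalk (c.π.app j x)),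
      (c.π.app j).stalkMap x b = a := by
  obtain ⟨W, hxW, s, rfl⟩ := TopCat.Presheaf.exists_germ_eq c.pt.presheaf a
  obtain ⟨_, ⟨i, V, hV, rfl⟩, hxV, hVW⟩ :=
    TopologicalSpace.Opens.isBasis_iff_nbhd.mp (Lim.Topology.isTopologicalBasis hc) (U := W) hxW
  obtain ⟨j, t, ht⟩ := Lim.IdealDescend.exists_section_eq D c hc i V hV
    (c.pt.presheaf.map (homOfLE hVW).op s)
  have hle := Lim.IdealDescend.preimage_le D c i V j
  have hm : c.π.app j.left x ∈ D.map j.hom ⁻¹ᵁ V := hle hxV
  refine ⟨j.left, (D.obj j.left).presheaf.germ _ _ hm t, ?_⟩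
  refine (germ_appLE (c.π.app j.left) _ _ hle x hxV t).trans ?_
  rw [ht]
  exact TopCat.Presheaf.germ_res_apply c.pt.presheaf (homOfLE hVW) x hxV s

end Descend

theorem map_maximalIdeal_comp_le {A B C : Scheme.{u}} (g : A ⟶ B) (f : B ⟶ C) (h : A ⟶ C)
    (e : g ≫ f = h) (x : A) :
    Ideal.map (h.stalkMap x).hom (maximalIdeal (C.presheaf.stalk (h x))) ≤
      Ideal.map (g.stalkMap x).hom (maximalIdeal (B.presheaf.stalk (g x))) := by
  subst e
  rw [Scheme.Hom.stalkMap_comp]
  change Ideal.map ((g.stalkMap x).hom.comp (f.stalkMap (g x)).hom)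
    (maximalIdeal (C.presheaf.stalk (f (g x)))) ≤ _
  rw [← Ideal.map_map]
  refine Ideal.map_mono (Ideal.map_le_iff_le_comap.mpr ?_)
  intro a ha
  rw [Ideal.mem_comap, mem_maximalIdeal] at *
  exact fun hu => ha (isUnit_of_map_unit (f.stalkMap (g x)).hom a hu)

section Descend

variable [∀ {i j : I} (f : i ⟶ j), IsAffineHom (D.map f)]

/-- The maximal ideal at a point of a Noetherian limit comes from some stage. -/
theorem exists_map_maximalIdeal_eq [IsLocallyNoetherian c.pt] (hc : IsLimit c) (x : c.pt) :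
    ∃ i : I, Ideal.map ((c.π.app i).stalkMap x).hom
      (maximalIdeal ((D.obj i).presheaf.stalk (c.π.app i x))) =
        maximalIdeal (c.pt.presheaf.stalk x) := by
  classical
  obtain ⟨S, hS⟩ := IsNoetherian.noetherian (maximalIdeal (c.pt.presheaf.stalk x))
  suffices h : ∀ T : Finset (c.pt.presheaf.stalk x), (∀ a ∈ T, a ∈ maximalIdeal _) →
      ∃ i : I, ∀ a ∈ T, a ∈ Ideal.map ((c.π.app i).stalkMap x).hom
        (maximalIdeal ((D.obj i).presheaf.stalk (c.π.app i x))) by
    obtain ⟨i, hi⟩ := h S fun a ha => hS ▸ Submodule.subset_span ha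
    refine ⟨i, le_antisymm ?_ ?_⟩
    · rw [Ideal.map_le_iff_le_comap]
      intro a ha
      rw [Ideal.mem_comap, mem_maximalIdeal] at *
      exact fun hu => ha (isUnit_of_map_unit ((c.π.app i).stalkMap x).hom a hu)
    · rw [← hS]
      exact Submodule.span_le.mpr hi
  intro T
  induction T using Finset.induction_on with
  | empty => exact fun _ => ⟨IsCofiltered.nonempty.some, fun a ha => absurd ha (Finset.notMem_empty a)⟩
  | insert a T _ ih =>
    intro hT
    obtain ⟨i, hi⟩ := ih fun b hb => hT b (Finset.mem_insert_of_mem hb)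
    obtain ⟨i', b, hb⟩ := exists_stalkMap_eq hc x a
    have hbm : b ∈ maximalIdeal ((D.obj i').presheaf.stalk (c.π.app i' x)) := by
      rw [mem_maximalIdeal]
      intro hu
      exact (mem_maximalIdeal _).mp (hT a (Finset.mem_insert_self _ _))
        (hb ▸ hu.map ((c.π.app i').stalkMap x).hom)
    obtain ⟨k, f, f', -⟩ := IsCofilteredOrEmpty.cone_objs i i'
    refine ⟨k, fun d hd => ?_⟩
    rcases Finset.mem_insert.mp hd with rfl | hd
    · exact map_maximalIdeal_comp_le (c.π.app k) (D.map f') (c.π.app i') (c.w f') x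
        (hb ▸ Ideal.mem_map_of_mem _ hbm)
    · exact map_maximalIdeal_comp_le (c.π.app k) (D.map f) (c.π.app i) (c.w f) x (hi d hd)

end Descend

theorem fibLen_eq_one {A B : Scheme.{u}} (g : A ⟶ B) (x : A)
    (h : Ideal.map (g.stalkMap x).hom (maximalIdeal (B.presheaf.stalk (g x))) = maximalIdeal _) :
    FibLen.fibLen g x = 1 := by
  rw [FibLen.fibLen, h]
  have : IsSimpleModule (A.presheaf.stalk x)
      (A.presheaf.stalk x ⧸ maximalIdeal (A.presheaf.stalk x)) :=
    isSimpleModule_iff_isCoatom.mpr (maximalIdeal.isMaximal _).out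
  exact Module.length_eq_one _ _

/-- On a Noetherian scheme, a fibre of a generalizing map has finitely many generic points. -/
theorem finite_isMaxFib {A B : Scheme.{u}} [IsLocallyNoetherian A] [CompactSpace A] (g : A ⟶ B)
    (b : B) : {y : A | g y = b ∧ FibLen.IsMaxFib g y}.Finite := by
  let T : Set A := g ⁻¹' closure {b}
  have hT : IsClosed T := isClosed_closure.preimage g.continuous
  choose U hU hxU hfin using fun x => DimFun.exists_open_finite_maxPts hT x
  obtain ⟨s, hs⟩ := isCompact_univ.elim_finite_subcover U hU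
    (fun x _ => Set.mem_iUnion.mpr ⟨x, hxU x⟩)
  refine (s.finite_toSet.biUnion fun x _ => hfin x).subset ?_
  rintro y ⟨hy, hmax⟩
  obtain ⟨x, hx, hyx⟩ := Set.mem_iUnion₂.mp (hs (Set.mem_univ y))
  refine Set.mem_biUnion hx ⟨hyx, show g y ∈ closure {b} from hy ▸ subset_closure rfl,
    fun z hz hzy => hmax z ?_ hzy⟩
  have h1 : g z ⤳ b := hy ▸ hzy.map g.continuous
  exact ((h1.antisymm (specializes_iff_mem_closure.mpr hz)).eq).trans hy.symm

end Groth.Agent.Lib.Cyc.LimCyc
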