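import Groth.Agent.Lib.CycAlg.Per
import Groth.Agent.Lib.CycAlg.Smul
import Mathlib.RingTheory.Ideal.AssociatedPrime.Finiteness
import Mathlib.RingTheory.OrderOfVanishing.Basic
import Mathlib.Algebra.Module.LocalizedModule.Exact
import Mathlib.RingTheory.Support

/-!
# `length (M/xM) = length (ker x) + Σ ord_{R/p}(x) · length M_p`
-/

universe u

open Pointwise

namespace Groth.Agent.Lib.Cyc.LengthFormula

open LinearMap Submodule Groth.Agent.Lib.CycAlg.Per

set_option linter.style.haveILetI false

variable {R : Type u} [CommRing R]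

/-- the local contribution of a prime -/
noncomputable def term (N : Type u) [AddCommGroup N] [Module R N] (x : R) (p : PrimeSpectrum R) :
    ℕ∞ :=
  Ring.ord (R ⧸ p.asIdeal) (Ideal.Quotient.mk p.asIdeal x) *
    Module.length (Localization.AtPrime p.asIdeal) (LocalizedModule p.asIdeal.primeCompl N)

theorem term_eq_zero (N : Type u) [AddCommGroup N] [Module R N] (x : R) (p : PrimeSpectrum R)
    (hp : p ∉ Module.support R N) : term N x p = 0 := by
  have : Subsingleton (LocalizedModule p.asIdeal.primeCompl N) := Module.notMem_support_iff.1 hp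
  simp [term]

theorem term_add {N₁ N₂ N₃ : Type u} [AddCommGroup N₁] [Module R N₁] [AddCommGroup N₂]
    [Module R N₂] [AddCommGroup N₃] [Module R N₃] (f : N₁ →ₗ[R] N₂) (g : N₂ →ₗ[R] N₃)
    (hf : Function.Injective f) (hg : Function.Surjective g) (hfg : Function.Exact f g)
    (x : R) (p : PrimeSpectrum R) : term N₂ x p = term N₁ x p + term N₃ x p := by
  unfold term
  rw [Module.length_eq_add_of_exact (LocalizedModule.map p.asIdeal.primeCompl f)
    (LocalizedModule.map p.asIdeal.primeCompl g) (LocalizedModule.map_injective _ f hf)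
    (LocalizedModule.map_surjective _ g hg) (LocalizedModule.map_exact _ f g hfg), mul_add]

theorem length_localized_quotient_eq_one (p : PrimeSpectrum R) :
    Module.length (Localization.AtPrime p.asIdeal)
      (LocalizedModule p.asIdeal.primeCompl (R ⧸ p.asIdeal)) = 1 := by
  rw [Module.length_eq_one_iff]
  refine isSimpleModule_iff_toSpanSingleton_surjective.2 ⟨?_, ?_⟩
  · refine ⟨⟨LocalizedModule.mk 1 1, 0, fun h => ?_⟩⟩
    rw [← LocalizedModule.zero_mk (1 : p.asIdeal.primeCompl), LocalizedModule.mk_eq] at h
    obtain ⟨u, hu⟩ := h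
    simp only [one_smul, smul_zero, Submonoid.smul_def] at hu
    rw [Algebra.smul_def, mul_one] at hu
    exact u.2 (Ideal.Quotient.eq_zero_iff_mem.1 hu)
  · intro m hm y
    obtain ⟨⟨a, s⟩, rfl⟩ : ∃ z : (R ⧸ p.asIdeal) × p.asIdeal.primeCompl,
        LocalizedModule.mk z.1 z.2 = m := by
      induction m using LocalizedModule.induction_on with
      | _ a s => exact ⟨(a, s), rfl⟩
    induction y using LocalizedModule.induction_on with
    | _ b t =>
      obtain ⟨r, rfl⟩ := Ideal.Quotient.mk_surjective a
      obtain ⟨r', rfl⟩ := Ideal.Quotient.mk_surjective b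
      have hr : r ∈ p.asIdeal.primeCompl := fun h => hm (by
        simp [Ideal.Quotient.eq_zero_iff_mem.2 h])
      refine ⟨Localization.mk (r' * s) (⟨r, hr⟩ * t), ?_⟩
      rw [LinearMap.toSpanSingleton_apply, LocalizedModule.mk_smul_mk, LocalizedModule.mk_eq]
      refine ⟨1, ?_⟩
      simp only [one_smul, Submonoid.smul_def, Algebra.smul_def, Submonoid.coe_mul,
        Ideal.Quotient.algebraMap_eq, map_mul]
      ring

section

variable [IsLocalRing R]

/-- The hypothesis: away from the closed point the support consists of primes not containing `x`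
under which there is only the maximal ideal. -/
def Hyp (N : Type u) [AddCommGroup N] [Module R N] (x : R) : Prop :=
  ∀ p ∈ Module.support R N, p.asIdeal ≠ IsLocalRing.maximalIdeal R →
    x ∉ p.asIdeal ∧ ∀ q : PrimeSpectrum R, p < q → q.asIdeal = IsLocalRing.maximalIdeal R

/-- The sum over the primes other than the maximal ideal. -/
noncomputable def total (N : Type u) [AddCommGroup N] [Module R N] (x : R) : ℕ∞ :=
  ∑ᶠ (p : PrimeSpectrum R) (_ : p.asIdeal ≠ IsLocalRing.maximalIdeal R), term N x p

variable [IsNoetherianRing R]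

theorem Hyp.finite {N : Type u} [AddCommGroup N] [Module R N] [Module.Finite R N] {x : R}
    (h : Hyp N x) :
    {p : PrimeSpectrum R |
      p ∈ Module.support R N ∧ p.asIdeal ≠ IsLocalRing.maximalIdeal R}.Finite := by
  refine Set.Finite.of_finite_image (f := PrimeSpectrum.asIdeal) ?_
    fun a _ b _ hab => PrimeSpectrum.ext hab
  refine (Module.annihilator R N).finite_minimalPrimes_of_isNoetherianRing.subset ?_
  rintro _ ⟨p, ⟨hp, hpm⟩, rfl⟩
  rw [Module.support_eq_zeroLocus] at hp
  refine ⟨⟨p.2, hp⟩, fun q hq hle => ?_⟩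
  by_contra hne
  have hlt : q < p.asIdeal := lt_of_le_of_ne hle fun he => hne (he ▸ le_rfl)
  have hqs : (⟨q, hq.1⟩ : PrimeSpectrum R) ∈ Module.support R N := by
    rw [Module.support_eq_zeroLocus]; exact hq.2
  have hqm : q ≠ IsLocalRing.maximalIdeal R := fun he =>
    absurd (IsLocalRing.le_maximalIdeal p.2.ne_top) (he ▸ hlt).not_ge
  exact hpm ((h ⟨q, hq.1⟩ hqs hqm).2 p hlt)

theorem lt_top_of_killed {N : Type u} [AddCommGroup N] [Module R N] [Module.Finite R N] {x : R}
    (h : Hyp N x) (K : Type u) [AddCommGroup K] [Module R K] [Module.Finite R K]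
    (hK : Module.support R K ⊆ Module.support R N) (hxK : ∀ k : K, x • k = 0) :
    Module.length R K < ⊤ := by
  refine CycAlg.Smul.length_lt_top_of_supportDim_le_zero K ?_
  have : Subsingleton (Module.support R K) := by
    refine ⟨fun a b => ?_⟩
    have key : ∀ a : Module.support R K, a.1.asIdeal = IsLocalRing.maximalIdeal R := fun a => by
      by_contra hne
      refine (h a.1 (hK a.2) hne).1 ?_
      exact (Set.ext_iff.1 Module.support_eq_zeroLocus a.1).1 a.2 (Module.mem_annihilator.2 hxK)
    exact Subtype.ext (PrimeSpectrum.ext ((key a).trans (key b).symm))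
  exact Order.krullDim_nonpos_of_subsingleton

theorem coker_lt_top {N : Type u} [AddCommGroup N] [Module R N] [Module.Finite R N] {x : R}
    (h : Hyp N x) : Module.length R (N ⧸ x • (⊤ : Submodule R N)) < ⊤ :=
  lt_top_of_killed h _ (Module.support_subset_of_surjective _ (Submodule.mkQ_surjective _))
    fun w => by
      obtain ⟨w, rfl⟩ := Submodule.Quotient.mk_surjective _ w
      rw [← Submodule.Quotient.mk_smul, Submodule.Quotient.mk_eq_zero]
      exact Submodule.smul_mem_pointwise_smul _ _ _ trivial

theorem ker_lt_top {N : Type u} [AddCommGroup N] [Module R N] [Module.Finite R N] {x : R}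
    (h : Hyp N x) : Module.length R (ker (lsmul R N x)) < ⊤ :=
  lt_top_of_killed h _
    (Module.support_subset_of_injective (ker (lsmul R N x)).subtype Subtype.val_injective)
    fun w => Subtype.ext w.2

theorem finCoh {N : Type u} [AddCommGroup N] [Module R N] [Module.Finite R N] {x : R}
    (h : Hyp N x) : CycAlg.FinCoh R (0 : N →ₗ[R] N) (x • LinearMap.id) :=
  ⟨(CycAlg.Smul.length_perH_zero_id N x).1 ▸ coker_lt_top h,
    (CycAlg.Smul.length_perH_zero_id N x).2 ▸ ker_lt_top h⟩

theorem total_add {N₁ N₂ N₃ : Type u} [AddCommGroup N₁] [Module R N₁] [AddCommGroup N₂]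
    [Module R N₂] [Module.Finite R N₂] [AddCommGroup N₃] [Module R N₃] (f : N₁ →ₗ[R] N₂)
    (g : N₂ →ₗ[R] N₃) (hf : Function.Injective f) (hg : Function.Surjective g)
    (hfg : Function.Exact f g) {x : R} (h : Hyp N₂ x) :
    total N₂ x = total N₁ x + total N₃ x := by
  classical
  simp only [total, finsum_eq_if]
  rw [← finsum_add_distrib]
  · refine finsum_congr fun p => ?_
    split_ifs
    · exact term_add f g hf hg hfg x p
    · simp
  · refine h.finite.subset fun p hp => ?_
    rw [Function.mem_support, ite_ne_right_iff] at hp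
    refine ⟨?_, hp.1⟩
    by_contra hn
    exact hp.2 (term_eq_zero N₁ x p fun hh =>
      hn (Module.support_subset_of_injective f hf hh))
  · refine h.finite.subset fun p hp => ?_
    rw [Function.mem_support, ite_ne_right_iff] at hp
    refine ⟨?_, hp.1⟩
    by_contra hn
    exact hp.2 (term_eq_zero N₃ x p fun hh =>
      hn (Module.support_subset_of_surjective g hg hh))

/-- The length formula. -/
theorem length_quot_eq {M : Type u} [AddCommGroup M] [Module R M] [hM : Module.Finite R M] {x : R}
    (h : Hyp M x) : Module.length R (M ⧸ x • (⊤ : Submodule R M)) =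
      Module.length R (ker (lsmul R M x)) + total M x := by
  classical
  induction hM using IsNoetherianRing.induction_on_isQuotientEquivQuotientPrime with
  | subsingleton N =>
    have : Subsingleton (ker (lsmul R N x)) := ⟨fun a b => Subtype.ext (Subsingleton.elim _ _)⟩
    have ht : total N x = 0 := finsum_eq_zero_of_forall_eq_zero fun p => by
      rw [term_eq_zero N x p (by simp [Module.support_eq_empty]), finsum_zero]
    simp [ht]
  | quotient N p e =>
    have hsupp : Module.support R N = PrimeSpectrum.zeroLocus p.asIdeal := by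
      rw [e.support_eq, Module.support_eq_zeroLocus, Ideal.annihilator_quotient]
    by_cases hp : p.asIdeal = IsLocalRing.maximalIdeal R
    · have hone : ∀ q ∈ Module.support R N, q.asIdeal = IsLocalRing.maximalIdeal R := fun q hq => by
        rw [hsupp, PrimeSpectrum.mem_zeroLocus, SetLike.coe_subset_coe, hp] at hq
        exact le_antisymm (IsLocalRing.le_maximalIdeal q.2.ne_top) hq
      have ht : total N x = 0 := finsum_eq_zero_of_forall_eq_zero fun q => by
        by_cases hq : q.asIdeal = IsLocalRing.maximalIdeal R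
        · simp [hq]
        · rw [term_eq_zero N x q (fun hh => hq (hone q hh)), finsum_zero]
      have hN : Module.length R N < ⊤ := by
        rw [e.length_eq, hp, Module.length_eq_one_iff.2 (isSimpleModule_iff_isCoatom.2
          (IsLocalRing.maximalIdeal.isMaximal R).out)]
        exact ENat.one_ne_top.lt_top
      have e1 := length_eq_ker_add_range (lsmul R N x)
      have e2 := Module.length_eq_add_of_exact (range (lsmul R N x)).subtype
        (range (lsmul R N x)).mkQ Subtype.val_injective (Submodule.mkQ_surjective _)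
        (LinearMap.exact_subtype_mkQ _)
      have er : x • (⊤ : Submodule R N) = range (lsmul R N x) := by
        ext w
        simp [Submodule.mem_smul_pointwise_iff_exists]
      rw [ht, add_zero, er]
      rw [e2] at hN
      have hR := (ENat.add_lt_top.1 hN).1
      have := e1.symm.trans e2
      rw [add_comm] at this
      exact ((WithTop.add_left_inj hR.ne).1 this).symm
    · have hpS : p ∈ Module.support R N := by
        rw [hsupp]; exact fun _ h => h
      obtain ⟨hx, hmax⟩ := h p hpS hp
      have hker : ker (lsmul R N x) = ⊥ := by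
        rw [LinearMap.ker_eq_bot']
        intro n hn
        apply e.injective
        obtain ⟨r, hr⟩ := Ideal.Quotient.mk_surjective (e n)
        have h2 : x • e n = 0 := by
          rw [← map_smul]; simpa using congrArg e hn
        rw [← hr, Algebra.smul_def, Ideal.Quotient.algebraMap_eq, ← map_mul,
          Ideal.Quotient.eq_zero_iff_mem] at h2
        rw [map_zero, ← hr, Ideal.Quotient.eq_zero_iff_mem]
        exact (p.2.mem_or_mem h2).resolve_left hx
      have ht : total N x = Ring.ord (R ⧸ p.asIdeal) (Ideal.Quotient.mk p.asIdeal x) := by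
        rw [total, finsum_eq_single _ p fun q hq => ?_]
        · rw [finsum_eq_if, if_pos hp, term, (LinearEquiv.ofBijective
            (LocalizedModule.map p.asIdeal.primeCompl e.toLinearMap)
            ⟨LocalizedModule.map_injective _ _ e.injective,
              LocalizedModule.map_surjective _ _ e.surjective⟩).length_eq,
            length_localized_quotient_eq_one, mul_one]
        · by_cases hqm : q.asIdeal = IsLocalRing.maximalIdeal R
          · simp [hqm]
          · rw [term_eq_zero N x q ?_, finsum_zero]
            intro hqs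
            rw [hsupp] at hqs
            exact hqm (hmax q (lt_of_le_of_ne hqs (Ne.symm hq)))
      rw [hker, ht, Module.length_bot, zero_add]
      let E := Submodule.Quotient.equiv (x • (⊤ : Submodule R N))
        ((Ideal.span {Ideal.Quotient.mk p.asIdeal x}).restrictScalars R) e (by
          ext w
          rw [Submodule.mem_map, Submodule.restrictScalars_mem, Ideal.mem_span_singleton']
          constructor
          · rintro ⟨v, hv, rfl⟩
            obtain ⟨v, -, rfl⟩ := (Submodule.mem_smul_pointwise_iff_exists _ _ _).1 hv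
            exact ⟨e v, by
              rw [LinearEquiv.coe_coe, map_smul, Algebra.smul_def, Ideal.Quotient.algebraMap_eq,
                mul_comm]⟩
          · rintro ⟨a, rfl⟩
            refine ⟨x • e.symm a, Submodule.smul_mem_pointwise_smul _ _ _ trivial, ?_⟩
            rw [LinearEquiv.coe_coe, map_smul, e.apply_symm_apply, Algebra.smul_def,
              Ideal.Quotient.algebraMap_eq, mul_comm])
      rw [E.length_eq, Ring.ord, (Submodule.Quotient.restrictScalarsEquiv R
        (Ideal.span {Ideal.Quotient.mk p.asIdeal x})).length_eq,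
        Module.length_eq_of_surjective (R := R ⧸ p.asIdeal) (S := R) Ideal.Quotient.mk_surjective]
  | exact N₁ N₂ N₃ f g hf hg hfg ih₁ ih₃ =>
    have h₁ : Hyp N₁ x := fun p hp => h p (Module.support_subset_of_injective f hf hp)
    have h₃ : Hyp N₃ x := fun p hp => h p (Module.support_subset_of_surjective g hg hp)
    have S : SES (0 : N₁ →ₗ[R] N₁) (x • LinearMap.id) (0 : N₂ →ₗ[R] N₂) (x • LinearMap.id)
        (0 : N₃ →ₗ[R] N₃) (x • LinearMap.id) f f g g :=
      { p₁ := fun _ => rfl, q₁ := fun _ => by simp, p₂ := fun _ => rfl, q₂ := fun _ => by simp,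
        cφ₁ := fun _ => by simp, cψ₁ := fun _ => by simp, cφ₂ := fun _ => by simp,
        cψ₂ := fun _ => by simp, inj_f := hf, inj_g := hf, surj_f := hg, surj_g := hg,
        exf := hfg, exg := hfg }
    have key := (S.herbrand_eq (Or.inl ⟨finCoh h₁, finCoh h⟩)).2.2.2
    simp only [CycAlg.herbrand, (CycAlg.Smul.length_perH_zero_id _ x).1,
      (CycAlg.Smul.length_perH_zero_id _ x).2] at key
    have q₁ := ih₁ h₁
    have q₃ := ih₃ h₃
    rw [total_add f g hf hg hfg h]
    have t₁ : total N₁ x < ⊤ := lt_of_le_of_lt (by rw [q₁]; exact le_add_self) (coker_lt_top h₁)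
    have t₃ : total N₃ x < ⊤ := lt_of_le_of_lt (by rw [q₃]; exact le_add_self) (coker_lt_top h₃)
    obtain ⟨a₁, ha₁⟩ := ENat.ne_top_iff_exists.1 (coker_lt_top h₁).ne
    obtain ⟨a₂, ha₂⟩ := ENat.ne_top_iff_exists.1 (coker_lt_top h).ne
    obtain ⟨a₃, ha₃⟩ := ENat.ne_top_iff_exists.1 (coker_lt_top h₃).ne
    obtain ⟨b₁, hb₁⟩ := ENat.ne_top_iff_exists.1 (ker_lt_top h₁).ne
    obtain ⟨b₂, hb₂⟩ := ENat.ne_top_iff_exists.1 (ker_lt_top h).ne
    obtain ⟨b₃, hb₃⟩ := ENat.ne_top_iff_exists.1 (ker_lt_top h₃).ne
    obtain ⟨c₁, hc₁⟩ := ENat.ne_top_iff_exists.1 t₁.ne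
    obtain ⟨c₃, hc₃⟩ := ENat.ne_top_iff_exists.1 t₃.ne
    rw [← ha₁, ← hb₁, ← hc₁] at q₁
    rw [← ha₃, ← hb₃, ← hc₃] at q₃
    rw [← ha₂, ← hb₂, ← hc₁, ← hc₃]
    rw [← ha₁, ← ha₂, ← ha₃, ← hb₁, ← hb₂, ← hb₃] at key
    norm_cast at q₁ q₃ ⊢
    simp only [ENat.toNat_natCast] at key
    omega

omit [IsNoetherianRing R] in
theorem hyp_of_supportDim {M : Type u} [AddCommGroup M] [Module R M] [Module.Finite R M] {x : R}
    (h1 : Module.supportDim R M ≤ 1)
    (h0 : Module.supportDim R (M ⧸ x • (⊤ : Submodule R M)) ≤ 0) : Hyp M x := by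
  have hm : ∀ {N : Type u} [AddCommGroup N] [Module R N] [Module.Finite R N],
      ∀ p ∈ Module.support R N, (IsLocalRing.closedPoint R) ∈ Module.support R N := by
    intro N _ _ _ p hp
    exact Module.mem_support_mono (IsLocalRing.le_maximalIdeal p.2.ne_top) hp
  intro p hp hpm
  have hlt : p < IsLocalRing.closedPoint R :=
    lt_of_le_of_ne (IsLocalRing.le_maximalIdeal p.2.ne_top) fun he => hpm (by rw [he]; rfl)
  refine ⟨fun hx => ?_, fun q hpq => ?_⟩
  · have hp' : p ∈ Module.support R (M ⧸ x • (⊤ : Submodule R M)) := by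
      rw [← Submodule.ideal_span_singleton_smul, Module.support_quotient]
      exact ⟨hp, by
        rwa [PrimeSpectrum.mem_zeroLocus, SetLike.coe_subset_coe, Ideal.span_le,
          Set.singleton_subset_iff]⟩
    have := (Order.LTSeries.length_le_krullDim
      ((RelSeries.singleton _ (⟨p, hp'⟩ : Module.support R (M ⧸ x • (⊤ : Submodule R M)))).snoc
        ⟨_, hm p hp'⟩ hlt)).trans h0
    simp at this
    norm_cast at this
  · by_contra hq
    have hqlt : q < IsLocalRing.closedPoint R :=
      lt_of_le_of_ne (IsLocalRing.le_maximalIdeal q.2.ne_top) fun he => hq (by rw [he]; rfl)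
    have := (Order.LTSeries.length_le_krullDim
      (((RelSeries.singleton _ (⟨p, hp⟩ : Module.support R M)).snoc
        ⟨q, Module.mem_support_mono hpq.le hp⟩ hpq).snoc ⟨_, hm p hp⟩ (by simpa using hqlt))).trans h1
    simp at this

end

end Groth.Agent.Lib.Cyc.LengthFormula
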