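import Groth.Agent.Lib.Cyc.C1Indep
import Groth.Agent.Lib.Ample.GG
import Groth.Agent.Lib.TensorMod.Invertible

/-!
Additivity of `c₁`.
-/

set_option autoImplicit false
universe u

open CategoryTheory AlgebraicGeometry Opposite TopologicalSpace

namespace Groth.Agent.Lib.Cyc.C1Tensor

open TensorMod TensorMod.Basic TensorMod.Free TensorMod.Dual TensorMod.Gen TensorMod.Pullback Ample.GG

variable {X : Scheme.{u}} {L N : X.Modules}

lemma exists_common_gen (hL : PicF.IsInvertible L) (hN : PicF.IsInvertible N) (x : X) :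
    ∃ (U : X.Opens) (_ : x ∈ U) (e : Γ(L, U)) (e' : Γ(N, U)), IsGen L U e ∧ IsGen N U e' := by
  obtain ⟨U, e, hxU, he⟩ := isInvertible_iff.1 hL x
  obtain ⟨V, e', hxV, he'⟩ := isInvertible_iff.1 hN x
  exact ⟨U ⊓ V, ⟨hxU, hxV⟩, _, _, he.res inf_le_left, he'.res inf_le_right⟩

/-- The tensor of two sections. -/
noncomputable abbrev tens {U : X.Opens} (a : Γ(L, U)) (b : Γ(N, U)) : Γ(CohB1.tensorMod L N, U) :=
  pairM (𝟙 (CohB1.tensorMod L N)) a b

lemma span_gm {U : X.Opens} {e : Γ(L, U)} (he : IsGen L U e) {x : X} (hx : x ∈ U) :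
    Submodule.span (X.presheaf.stalk x) {gm hx e} = ⊤ := by
  refine eq_top_iff.2 fun v _ => ?_
  obtain ⟨W, hxW, c, rfl⟩ := TopCat.Presheaf.exists_germ_eq L.presheaf v
  obtain ⟨a, ha⟩ := (he (W ⊓ U) inf_le_right).2 (rs L inf_le_left c)
  change gm hxW c ∈ _
  rw [← gm_rs (inf_le_left : W ⊓ U ≤ W) ⟨hxW, hx⟩ c, ← ha]
  refine Submodule.mem_span_singleton.2 ⟨X.presheaf.germ (W ⊓ U) x ⟨hxW, hx⟩ a, ?_⟩
  change _ = gm _ (a • rs L inf_le_right e)
  rw [gm_smul, gm_rs]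

lemma span_tens {U : X.Opens} {e : Γ(L, U)} (he : IsGen L U e) {e' : Γ(N, U)} (he' : IsGen N U e')
    {x : X} (hx : x ∈ U) :
    Submodule.span (X.presheaf.stalk x) {gm hx (tens e e')} = ⊤ := by
  refine mem_of_tmul _ fun W hxW a b => ?_
  obtain ⟨α, hα⟩ := (he (W ⊓ U) inf_le_right).2 (rs L inf_le_left a)
  obtain ⟨β, hβ⟩ := (he' (W ⊓ U) inf_le_right).2 (rs N inf_le_left b)
  have h1 : rs L inf_le_left a = α • rs L (inf_le_right : W ⊓ U ≤ U) e := hα.symm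
  have h2 : rs N inf_le_left b = β • rs N (inf_le_right : W ⊓ U ≤ U) e' := hβ.symm
  rw [← gm_rs (inf_le_left : W ⊓ U ≤ W) ⟨hxW, hx⟩, rs_pairM, h1, h2, pairM_smul_left,
    pairM_smul_right, gm_smul, gm_smul, ← rs_pairM, gm_rs]
  exact Submodule.smul_mem _ _ (Submodule.smul_mem _ _ (Submodule.subset_span rfl))

lemma spec_gm {M : X.Modules} {U : X.Opens} {x ξ : X} (hx : x ∈ U) (h : ξ ⤳ x) (t : Γ(M, U)) :
    M.presheaf.stalkSpecializes h (gm hx t) = gm (h.mem_open U.2 hx) t :=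
  ConcreteCategory.congr_hom (TopCat.Presheaf.germ_stalkSpecializes M.presheaf hx h) t

lemma change_frame {U V : X.Opens} {e : Γ(L, U)} (he : IsGen L U e) {e' : Γ(N, U)}
    (he' : IsGen N U e') (f : Γ(L, V)) (f' : Γ(N, V)) {ξ : X} (hU : ξ ∈ U) (hV : ξ ∈ V) :
    ∃ a b : X.presheaf.stalk ξ, gm hV f = a • gm hU e ∧ gm hV f' = b • gm hU e' ∧
      gm hV (tens f f') = (a * b) • gm hU (tens e e') := by
  obtain ⟨α, hα⟩ := (he (V ⊓ U) inf_le_right).2 (rs L inf_le_left f)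
  obtain ⟨β, hβ⟩ := (he' (V ⊓ U) inf_le_right).2 (rs N inf_le_left f')
  have h1 : rs L inf_le_left f = α • rs L (inf_le_right : V ⊓ U ≤ U) e := hα.symm
  have h2 : rs N inf_le_left f' = β • rs N (inf_le_right : V ⊓ U ≤ U) e' := hβ.symm
  refine ⟨X.presheaf.germ (V ⊓ U) ξ ⟨hV, hU⟩ α, X.presheaf.germ (V ⊓ U) ξ ⟨hV, hU⟩ β, ?_, ?_, ?_⟩
  · rw [← gm_rs (inf_le_left : V ⊓ U ≤ V) ⟨hV, hU⟩ f, h1, gm_smul, gm_rs]
  · rw [← gm_rs (inf_le_left : V ⊓ U ≤ V) ⟨hV, hU⟩ f', h2, gm_smul, gm_rs]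
  · rw [← gm_rs (inf_le_left : V ⊓ U ≤ V) ⟨hV, hU⟩, rs_pairM, h1, h2, pairM_smul_left,
      pairM_smul_right, gm_smul, gm_smul, ← rs_pairM, gm_rs, mul_smul]

lemma mk_smul_mk {M : X.Modules} {ξ : X} (c : X.presheaf.stalk ξ) (v : M.presheaf.stalk ξ) :
    (Submodule.Quotient.mk (c • v) : Cyc.secFibre M ξ) = c • Submodule.Quotient.mk v :=
  rfl

/-- A product of rational sections, with additive divisors. -/
theorem exists_tensor_section [IsLocallyNoetherian X] {δ : X → ℤ} (hδ : Cyc.IsDimFun X δ)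
    (hL : PicF.IsInvertible L) (hN : PicF.IsInvertible N) (ξ : X)
    (s : Cyc.secFibre L ξ) (hs : s ≠ 0) (t : Cyc.secFibre N ξ) (ht : t ≠ 0) :
    ∃ r : Cyc.secFibre (CohB1.tensorMod L N) ξ, r ≠ 0 ∧
      Cyc.secDivFun δ (CohB1.tensorMod L N) ξ r =
        Cyc.secDivFun δ L ξ s + Cyc.secDivFun δ N ξ t := by
  have hT := TensorMod.Invertible.isInvertible_tensorMod hL hN
  obtain ⟨V, hV, f, f', hf, hf'⟩ := exists_common_gen hL hN ξ
  obtain ⟨v, hv⟩ := Submodule.Quotient.mk_surjective _ s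
  obtain ⟨w, hw⟩ := Submodule.Quotient.mk_surjective _ t
  obtain ⟨φ, hφ⟩ := Submodule.mem_span_singleton.1
    (show v ∈ Submodule.span (X.presheaf.stalk ξ) {gm hV f} by rw [span_gm hf hV]; trivial)
  obtain ⟨ψ, hψ⟩ := Submodule.mem_span_singleton.1
    (show w ∈ Submodule.span (X.presheaf.stalk ξ) {gm hV f'} by rw [span_gm hf' hV]; trivial)
  have hs' : s = φ • (Submodule.Quotient.mk (gm hV f) : Cyc.secFibre L ξ) := by
    rw [← hv, ← hφ, mk_smul_mk]
  have ht' : t = ψ • (Submodule.Quotient.mk (gm hV f') : Cyc.secFibre N ξ) := by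
    rw [← hw, ← hψ, mk_smul_mk]
  let r : Cyc.secFibre (CohB1.tensorMod L N) ξ :=
    (φ * ψ) • Submodule.Quotient.mk (gm hV (tens f f'))
  have hu : ∀ {c : X.presheaf.stalk ξ}, X.residue ξ c ≠ 0 → IsUnit c := fun {c} hc => by
    by_contra hu
    exact hc ((IsLocalRing.residue_eq_zero_iff _).mpr ((IsLocalRing.mem_maximalIdeal _).mpr hu))
  have hr : r ≠ 0 := fun h0 => C1Indep.mk_ne_zero hT ξ (span_tens hf hf' hV)
    (((hu (C1Indep.residue_ne_zero_of_smul hs hs')).mul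
      (hu (C1Indep.residue_ne_zero_of_smul ht ht'))).smul_eq_zero.1 h0)
  refine ⟨r, hr, funext fun x => ?_⟩
  simp only [Cyc.secDivFun, Pi.add_apply]
  split_ifs with hc
  · obtain ⟨U, hU, e, e', he, he'⟩ := exists_common_gen hL hN x
    have hξU : ξ ∈ U := hc.1.mem_open U.2 hU
    obtain ⟨a, b, ha, hb, hab⟩ := change_frame he he' f f' hξU hV
    have es : s = (φ * a) • (Submodule.Quotient.mk (L.presheaf.stalkSpecializes hc.1 (gm hU e)) :
        Cyc.secFibre L ξ) := by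
      rw [hs', ha, spec_gm, mk_smul_mk, mul_smul]
    have et : t = (ψ * b) • (Submodule.Quotient.mk (N.presheaf.stalkSpecializes hc.1 (gm hU e')) :
        Cyc.secFibre N ξ) := by
      rw [ht', hb, spec_gm, mk_smul_mk, mul_smul]
    have er : r = (φ * a * (ψ * b)) •
        (Submodule.Quotient.mk ((CohB1.tensorMod L N).presheaf.stalkSpecializes hc.1
          (gm hU (tens e e'))) : Cyc.secFibre (CohB1.tensorMod L N) ξ) := by
      change (φ * ψ) • (Submodule.Quotient.mk (gm hV (tens f f')) :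
        Cyc.secFibre (CohB1.tensorMod L N) ξ) = _
      rw [hab, spec_gm, mk_smul_mk, ← mul_smul]
      congr 1
      ring
    rw [C1Indep.secOrdAt_eq hδ hT x ξ hc.1 hc.2.ge r hr _ (span_tens he he' hU) _ er,
      C1Indep.secOrdAt_eq hδ hL x ξ hc.1 hc.2.ge s hs _ (span_gm he hU) _ es,
      C1Indep.secOrdAt_eq hδ hN x ξ hc.1 hc.2.ge t ht _ (span_gm he' hU) _ et, map_mul]
    exact Ord.ordAt_mul hδ x ξ hc.1 hc.2.ge _ _ (C1Indep.residue_ne_zero_of_smul hs es)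
      (C1Indep.residue_ne_zero_of_smul ht et)
  · rfl

end Groth.Agent.Lib.Cyc.C1Tensor
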