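import Groth.Agent.Lib.Cyc.DimFun
import Mathlib.Topology.JacobsonSpace
import Mathlib.Topology.KrullDimension

/-!
# Dimension of closures from a dimension function
-/

set_option autoImplicit false

universe u

namespace Groth.Agent.Lib.Cyc.DimClosure

open AlgebraicGeometry CategoryTheory Groth.Agent.Lib.Cyc

theorem topologicalKrullDim_closure {X : Scheme.{u}} {δ : X → ℤ} (hδ : Cyc.IsDimFun X δ)
    (hnn : ∀ x, 0 ≤ δ x) (ξ z : X) (hξz : ξ ⤳ z) (hz0 : δ z = 0) :
    topologicalKrullDim (closure ({ξ} : Set X)) = ((δ ξ).toNat : WithBot ℕ∞) := by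
  let T := closure ({ξ} : Set X)
  have : QuasiSober T := isClosed_closure.isClosedEmbedding_subtypeVal.quasiSober
  let g : TopologicalSpace.IrreducibleCloseds T → X := fun C => C.2.genericPoint.1
  have hg : ∀ C C', C ≤ C' ↔ g C' ⤳ g C := by
    intro C C'
    rw [← subtype_specializes_iff]
    have h1 := C.2.isGenericPoint_genericPoint C.3
    have h2 := C'.2.isGenericPoint_genericPoint C'.3
    constructor
    · intro h; exact h2.specializes (h h1.mem)
    · intro h a ha
      exact h2.def.subset (specializes_iff_mem_closure.mp (h.trans (h1.specializes ha)))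
  have hlt : ∀ C C', C < C' → δ (g C) < δ (g C') := by
    intro C C' h
    refine DimFun.lt_of_specializes hδ ((hg C C').mp h.le) fun he => h.ne ?_
    exact le_antisymm h.le ((hg C' C).mpr (specializes_of_eq he.symm))
  refine le_antisymm ?_ ?_
  · refine iSup_le fun l => ?_
    have key : ∀ i : ℕ, (hi : i < l.length + 1) → (i : ℤ) ≤ δ (g (l ⟨i, hi⟩)) := by
      intro i
      induction i with
      | zero => intro _; exact hnn _
      | succ i ih =>
        intro hi
        have := ih (by omega)
        have := hlt _ _ (l.step ⟨i, by omega⟩)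
        simp only [Fin.castSucc_mk, Fin.succ_mk] at this
        push_cast
        omega
    have h1 := key l.length (Nat.lt_succ_self _)
    have h2 := DimFun.le_of_specializes hδ
      (specializes_iff_mem_closure.mpr (l ⟨l.length, Nat.lt_succ_self _⟩).2.genericPoint.2)
    exact_mod_cast (show l.length ≤ (δ ξ).toNat by
      change δ (g _) ≤ _ at h2
      omega)
  · suffices ∀ n : ℕ, ∀ y : X, ∀ hy : ξ ⤳ y, y ⤳ z → δ y = n →
        ∃ l : LTSeries (TopologicalSpace.IrreducibleCloseds T), l.length = n ∧
          (l.last : Set T) = closure {⟨y, specializes_iff_mem_closure.mp hy⟩} by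
      obtain ⟨l, hl, -⟩ := this (δ ξ).toNat ξ specializes_rfl hξz
        (Int.toNat_of_nonneg (hnn ξ)).symm
      exact Order.le_krullDim_iff.mpr ⟨l, hl⟩
    intro n
    induction n with
    | zero =>
      intro y hy hyz h0
      exact ⟨RelSeries.singleton _ ⟨closure {⟨y, specializes_iff_mem_closure.mp hy⟩},
        isIrreducible_singleton.closure, isClosed_closure⟩, rfl, rfl⟩
    | succ n ih =>
      intro y hy hyz hn
      have hne : y ≠ z := fun h => by
        rw [h, hz0] at hn
        omega
      obtain ⟨w, hyw, hwz, hw⟩ := DimFun.exists_step_below hδ hyz hne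
      obtain ⟨l, hl, hlast⟩ := ih w (hy.trans hyw) hwz (by omega)
      let C : TopologicalSpace.IrreducibleCloseds T :=
        ⟨closure {⟨y, specializes_iff_mem_closure.mp hy⟩},
          isIrreducible_singleton.closure, isClosed_closure⟩
      suffices hlt' : l.last < C from ⟨l.snoc C hlt', congrArg (· + 1) hl,
        congrArg SetLike.coe (RelSeries.last_snoc l C hlt')⟩
      refine lt_of_le_of_ne (SetLike.coe_subset_coe.mp fun a ha => ?_) fun he => ?_
      · rw [hlast] at ha
        exact specializes_iff_mem_closure.mp ((Topology.IsInducing.subtypeVal.specializes_iff.mp hyw).trans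
          (specializes_iff_mem_closure.mpr ha))
      · have hy' : (⟨y, specializes_iff_mem_closure.mp hy⟩ : T) ∈ (l.last : Set T) := by
          rw [he]; exact subset_closure rfl
        rw [hlast] at hy'
        have := DimFun.le_of_specializes hδ
          ((specializes_iff_mem_closure.mpr hy').map continuous_subtype_val)
        change δ y ≤ δ w at this
        omega

end Groth.Agent.Lib.Cyc.DimClosure
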