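import Groth.Agent.Lib.Cyc.CH.BCLen
import Groth.Agent.Lib.Cyc.FP.Main
import Groth.Agent.Lib.Cyc.Push

/-!
# Cycles and a finite extension of the base field
-/

set_option autoImplicit false
set_option linter.style.haveILetI false
universe u

open CategoryTheory CategoryTheory.Limits AlgebraicGeometry IsLocalRing

noncomputable section

namespace Groth.Agent.Lib.Cyc.FieldExt

open Groth.Agent.Lib Groth.Agent.Lib.Cyc

variable {k E : Type u} [Field k] [Field E] [Algebra k E] [Module.Finite k E]
  {X X' : Scheme.{u}} {g : X ⟶ Spec (CommRingCat.of k)} {f : X' ⟶ X}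
  {g' : X' ⟶ Spec (CommRingCat.of E)}
  (hsq : IsPullback f g' g (Spec.map (CommRingCat.ofHom (algebraMap k E))))

include hsq in
theorem isFinite : IsFinite f := by
  haveI : IsFinite (Spec.map (CommRingCat.ofHom (algebraMap k E))) :=
    (IsFinite.SpecMap_iff _).2 (RingHom.finite_algebraMap.2 ‹_›)
  exact MorphismProperty.of_isPullback hsq.flip inferInstance

include hsq in
theorem flat : Flat f := by
  haveI : Flat (Spec.map (CommRingCat.ofHom (algebraMap k E))) := inferInstance
  exact MorphismProperty.of_isPullback hsq.flip inferInstance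

include hsq in
theorem trdegAt_eq_zero (x : X') : Residue.trdegAt f x = 0 := by
  haveI := isFinite hsq
  exact Residue.trdegAt_eq_zero_of_finite x
    (Unram.SepDegreeEtale.residueFieldMap_finite_of_quasiFiniteAt f x (Scheme.Hom.quasiFiniteAt f x))

include hsq in
theorem delta_eq {δ : X → ℤ} {δ' : X' → ℤ} (hδ : Cyc.DeltaCompat f δ' δ) (x : X') : δ' x = δ (f x) := by
  obtain ⟨n, h1, h2⟩ := Residue.exists_trdegAt hδ x
  rw [trdegAt_eq_zero hsq] at h1
  obtain rfl : n = 0 := by exact_mod_cast h1.symm
  simp [h2]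

include hsq in
theorem shift {δ : X → ℤ} {δ' : X' → ℤ} (hδ : Cyc.DeltaCompat f δ' δ) : FP.Main.Shift f δ' δ 0 :=
  fun x _ => by rw [add_zero, delta_eq hsq hδ]

include hsq in
theorem isMaxFib (a : X') : FibLen.IsMaxFib f a := by
  haveI := isFinite hsq
  intro b hb hsp
  haveI := (f.isDiscrete_preimage_singleton (f a)).to_subtype
  have hab : (⟨b, hb⟩ : ⇑f ⁻¹' {f a}) ⤳ ⟨a, rfl⟩ :=
    Topology.IsInducing.subtypeVal.specializes_iff.1 hsp
  exact congrArg Subtype.val hab.eq

include hsq in
/-- Lengths times residue degrees over a point add up to `[E : k]`. -/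
theorem sum_fibLen (x : X) [IsLocallyNoetherian X'] :
    (⇑f ⁻¹' {x}).Finite ∧ ∑ᶠ x' ∈ ⇑f ⁻¹' {x}, ((FibLen.fibLen f x').toNat : ℤ) * (f.residueDegree x' : ℤ) =
      Module.finrank k E := by
  classical
  haveI := isFinite hsq
  haveI : IsFinite (f.fiberToSpecResidueField x) :=
    MorphismProperty.of_isPullback (IsPullback.of_hasPullback f (X.fromSpecResidueField x)) inferInstance
  let σ := Spec.map (CommRingCat.ofHom (algebraMap k E))
  haveI hs : Subsingleton (Spec (X.residueField x) : Scheme.{u}) :=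
    inferInstanceAs (Subsingleton (PrimeSpectrum (X.residueField x)))
  let s : (Spec (X.residueField x) : Scheme.{u}) := closedPoint (X.residueField x)
  have hbase : IsPullback (f.fiberToSpecResidueField x) (f.fiberι x ≫ g') (X.fromSpecResidueField x ≫ g) σ :=
    (IsPullback.of_hasPullback f (X.fromSpecResidueField x)).flip.paste_vert hsq
  have hd : letI := (f.fiberToSpecResidueField x).appTop.hom.toAlgebra
      Module.length Γ(Spec (X.residueField x), ⊤) Γ(f.fiber x, ⊤) =
        Module.finrank k E * Module.length Γ(Spec (X.residueField x), ⊤) Γ(Spec (X.residueField x), ⊤) := by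
    have po := isPushout_appTop_of_isPullback hbase
    let eK := (Scheme.ΓSpecIso (CommRingCat.of k)).commRingCatIsoToRingEquiv
    let eL := (Scheme.ΓSpecIso (CommRingCat.of E)).commRingCatIsoToRingEquiv
    algebraize [σ.appTop.hom, (X.fromSpecResidueField x ≫ g).appTop.hom,
      (f.fiberToSpecResidueField x).appTop.hom,
      (f.fiberι x ≫ g').appTop.hom,
      (f.fiberToSpecResidueField x).appTop.hom.comp (X.fromSpecResidueField x ≫ g).appTop.hom]
    haveI : IsScalarTower Γ(Spec (CommRingCat.of k), ⊤) Γ(Spec (CommRingCat.of E), ⊤) Γ(f.fiber x, ⊤) :=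
      IsScalarTower.of_algebraMap_eq' (congrArg CommRingCat.Hom.hom po.w)
    haveI hpo : Algebra.IsPushout Γ(Spec (CommRingCat.of k), ⊤) Γ(Spec (X.residueField x), ⊤)
        Γ(Spec (CommRingCat.of E), ⊤) Γ(f.fiber x, ⊤) :=
      CommRingCat.isPushout_iff_isPushout.1 po
    letI : Field Γ(Spec (CommRingCat.of k), ⊤) := (MulEquiv.isField (Field.toIsField k) eK.toMulEquiv).toField
    haveI : Nontrivial Γ(Spec (X.residueField x), ⊤) :=
      (Scheme.ΓSpecIso (X.residueField x)).commRingCatIsoToRingEquiv.toEquiv.nontrivial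
    have hnat : ∀ a, eL (algebraMap _ Γ(Spec (CommRingCat.of E), ⊤) a) = algebraMap k E (eK a) := fun a =>
      ConcreteCategory.congr_hom (Scheme.ΓSpecIso_naturality (CommRingCat.ofHom (algebraMap k E))) a
    haveI : Module.Finite Γ(Spec (CommRingCat.of k), ⊤) Γ(Spec (CommRingCat.of E), ⊤) :=
      Module.Finite.of_equiv_equiv eK.symm eL.symm (RingHom.ext fun a => eL.injective (by
        simp [hnat]))
    have hrk : Module.finrank Γ(Spec (CommRingCat.of k), ⊤) Γ(Spec (CommRingCat.of E), ⊤) = Module.finrank k E :=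
      Algebra.finrank_eq_of_equiv_equiv eK eL (RingHom.ext fun a => (hnat a).symm)
    rw [← (Algebra.IsPushout.equiv Γ(Spec (CommRingCat.of k), ⊤) Γ(Spec (X.residueField x), ⊤)
        Γ(Spec (CommRingCat.of E), ⊤) Γ(f.fiber x, ⊤)).toLinearEquiv.length_eq,
      Module.length_of_free_of_finite, ← hrk, Module.finrank_baseChange]
  obtain ⟨hT, hsum⟩ := CH.BCLen.sum_length (f.fiberToSpecResidueField x) s _ hd
  have hone : Module.length ((Spec (X.residueField x)).presheaf.stalk s)
      ((Spec (X.residueField x)).presheaf.stalk s) = 1 := by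
    rw [CH.BCLen.length_eq_of_ringEquiv (stalkClosedPointIso (X.residueField x)).commRingCatIsoToRingEquiv,
      Module.length_eq_one_iff]
    infer_instance
  rw [hone, mul_one] at hsum
  have hterm : ∀ t : f.fiber x, FibLen.fibLen f (f.fiberι x t) =
      Module.length ((f.fiber x).presheaf.stalk t) ((f.fiber x).presheaf.stalk t) ∧
      f.residueDegree (f.fiberι x t) = (f.fiberToSpecResidueField x).residueDegree t := fun t => by
    refine ⟨CH.BCLen.fibLen_fiberι f x t, ?_⟩
    have := congrArg (fun h => Scheme.Hom.residueDegree h t) (f.fiber_fac x)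
    simpa only [Residue.residueDegree_comp, CH.BCLen.degree_preimmersion, mul_one, one_mul] using this
  have hset : ⇑f ⁻¹' {x} = ⇑(f.fiberι x) '' Set.univ := by
    rw [Set.image_univ, f.range_fiberι]
  refine ⟨hset ▸ hT.image _, ?_⟩
  rw [hset, finsum_mem_image (f.fiberι x).isEmbedding.injective.injOn,
    finsum_mem_eq_finite_toFinset_sum _ hT]
  have hne : ∀ t ∈ hT.toFinset, Module.length ((f.fiber x).presheaf.stalk t)
      ((f.fiber x).presheaf.stalk t) * ((f.fiberToSpecResidueField x).residueDegree t : ℕ∞) ≠ ⊤ := by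
    have htop : (Module.finrank k E : ℕ∞) ≠ ⊤ := WithTop.natCast_ne_top _
    rw [← hsum] at htop
    exact fun t ht => WithTop.sum_ne_top.1 htop t ht
  have e := congrArg ENat.toNat hsum
  rw [PP.FinStalk.toNat_sum _ _ hne, ENat.toNat_natCast] at e
  rw [← e, Nat.cast_sum]
  refine Finset.sum_congr rfl fun t _ => ?_
  rw [(hterm t).1, (hterm t).2, ENat.toNat_mul, ENat.toNat_natCast, Nat.cast_mul]

end Groth.Agent.Lib.Cyc.FieldExt
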