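import Groth.Agent.Lib.Cyc.FieldExt
import Groth.Agent.Lib.Cyc.PurInsepFibre
import Mathlib.FieldTheory.PurelyInseparable.Basic
import Mathlib.FieldTheory.Normal.Basic
import Mathlib.FieldTheory.SeparableDegree
import Mathlib.FieldTheory.IsAlgClosed.AlgebraicClosure
import Mathlib.AlgebraicGeometry.Morphisms.FormallyUnramified
import Mathlib.RingTheory.Unramified.LocalRing

/-!
# Cycles and a finite normal extension of the base field
-/

set_option autoImplicit false
set_option linter.style.haveILetI false
universe u

open CategoryTheory CategoryTheory.Limits AlgebraicGeometry IsLocalRing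

noncomputable section

namespace Groth.Agent.Lib.Cyc.FieldExt

open Groth.Agent.Lib Groth.Agent.Lib.Cyc

theorem fibLen_eq_one {X Y : Scheme.{u}} (g : X ⟶ Y) [FormallyUnramified g] [LocallyOfFiniteType g]
    (x : X) : FibLen.fibLen g x = 1 := by
  algebraize [(g.stalkMap x).hom]
  haveI : IsLocalHom (algebraMap (Y.presheaf.stalk (g x)) (X.presheaf.stalk x)) :=
    inferInstanceAs <| IsLocalHom (g.stalkMap x).hom
  haveI : Algebra.EssFiniteType (Y.presheaf.stalk (g x)) (X.presheaf.stalk x) := by
    rw [← RingHom.essFiniteType_algebraMap, RingHom.algebraMap_toAlgebra]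
    exact LocallyOfFiniteType.stalkMap g x
  haveI : Algebra.FormallyUnramified (Y.presheaf.stalk (g x)) (X.presheaf.stalk x) := by
    rw [← RingHom.formallyUnramified_algebraMap, RingHom.algebraMap_toAlgebra]
    exact FormallyUnramified.stalkMap g x
  have h : (maximalIdeal (Y.presheaf.stalk (g x))).map (g.stalkMap x).hom = maximalIdeal _ :=
    Algebra.FormallyUnramified.map_maximalIdeal
  rw [FibLen.fibLen, h, Module.length_eq_one_iff]
  exact isSimpleModule_iff_isCoatom.2 (IsLocalRing.maximalIdeal.isMaximal _).out

variable {k k' : Type u} [Field k] [Field k'] [Algebra k k'] [FiniteDimensional k k']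
  {X : Scheme.{u}} (f : X ⟶ Spec (CommRingCat.of k))

/-- The base change to `k'`. -/
abbrev bcProj : pullback f (Spec.map (CommRingCat.ofHom (algebraMap k k'))) ⟶ X := pullback.fst _ _

theorem exists_over (k' : Type u) [Field k'] [Algebra k k'] [FiniteDimensional k k']
    [IsLocallyNoetherian X] (x : X) : ∃ a, bcProj (k' := k') f a = x := by
  haveI : IsFinite (bcProj (k' := k') f) := isFinite (IsPullback.of_hasPullback _ _)
  haveI : IsLocallyNoetherian (pullback f (Spec.map (CommRingCat.ofHom (algebraMap k k'))) : Scheme.{u}) :=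
    LocallyOfFiniteType.isLocallyNoetherian (bcProj (k' := k') f)
  have h := (sum_fibLen (IsPullback.of_hasPullback f (Spec.map (CommRingCat.ofHom (algebraMap k k')))) x).2
  by_contra hne
  rw [show ⇑(pullback.fst f (Spec.map (CommRingCat.ofHom (algebraMap k k')))) ⁻¹' {x} = ∅ from
    Set.eq_empty_of_forall_notMem fun a ha => hne ⟨a, ha⟩, finsum_mem_empty] at h
  have : 0 < Module.finrank k k' := Module.finrank_pos
  omega

/-- Lengths of fibres of the base change divide the inseparable degree. -/
theorem exists_fibLen_mul [IsLocallyNoetherian X] (a) :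
    ∃ d : ℕ, (FibLen.fibLen (bcProj (k' := k') f) a).toNat * d = Field.finInsepDegree k k' := by
  let K := separableClosure k k'
  let s := Spec.map (CommRingCat.ofHom (algebraMap k k'))
  let sK := Spec.map (CommRingCat.ofHom (algebraMap k K))
  let s' := Spec.map (CommRingCat.ofHom (algebraMap K k'))
  have hs : s' ≫ sK = s := by
    rw [← Spec.map_comp, ← CommRingCat.ofHom_comp, ← IsScalarTower.algebraMap_eq k K k']
  let f2 : pullback f s ⟶ pullback f sK :=
    pullback.lift (pullback.fst _ _) (pullback.snd _ _ ≫ s') (by rw [Category.assoc, hs]; exact pullback.condition)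
  have hfac : f2 ≫ pullback.fst f sK = pullback.fst f s := pullback.lift_fst _ _ _
  have hsq : IsPullback f2 (pullback.snd f s) (pullback.snd f sK) s' := by
    refine IsPullback.of_right ?_ (pullback.lift_snd _ _ _) (IsPullback.of_hasPullback f sK).flip.flip
    rw [hfac, hs]
    exact IsPullback.of_hasPullback f s
  haveI : IsFinite f2 := isFinite hsq
  haveI : Flat f2 := flat hsq
  haveI : IsFinite (pullback.fst f sK) := isFinite (IsPullback.of_hasPullback f sK)
  haveI : IsLocallyNoetherian (pullback f sK : Scheme.{u}) :=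
    LocallyOfFiniteType.isLocallyNoetherian (pullback.fst f sK)
  haveI : IsLocallyNoetherian (pullback f s : Scheme.{u}) :=
    LocallyOfFiniteType.isLocallyNoetherian f2
  haveI : Algebra.IsSeparable k K := separableClosure.isSeparable k k'
  haveI : Algebra.FormallyUnramified k K := Algebra.FormallyUnramified.of_isSeparable k K
  haveI : FormallyUnramified sK := (HasRingHomProperty.Spec_iff (P := @FormallyUnramified)).2
    (RingHom.formallyUnramified_algebraMap.2 inferInstance)
  haveI : FormallyUnramified (pullback.fst f sK) :=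
    MorphismProperty.of_isPullback (IsPullback.of_hasPullback f sK).flip inferInstance
  have hinj : Function.Injective f2 := by
    intro b c hbc
    refine hsq.isoPullback.hom.isEmbedding.injective
      (PurInsepFibre.proj_injective K k' (pullback.snd f sK) ?_)
    rw [← Scheme.Hom.comp_apply, ← Scheme.Hom.comp_apply, hsq.isoPullback_hom_fst]
    exact hbc
  have h := (sum_fibLen hsq (f2 a)).2
  rw [show ⇑f2 ⁻¹' {f2 a} = {a} from Set.ext fun b => ⟨fun h => hinj h, fun h => congrArg f2 h⟩,
    finsum_mem_singleton] at h
  refine ⟨f2.residueDegree a, ?_⟩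
  have h1 : FibLen.fibLen (bcProj (k' := k') f) a = FibLen.fibLen f2 a := by
    have e := FibLen.fibLen_comp f2 (pullback.fst f sK) a
    rw [fibLen_eq_one (pullback.fst f sK), one_mul] at e
    exact (congrArg (fun m => FibLen.fibLen m a) hfac).symm.trans e
  rw [h1]
  exact_mod_cast h

variable [Normal k k']

/-- The fibres of the base change are single orbits. -/
theorem exists_conj {a b : (pullback f (Spec.map (CommRingCat.ofHom (algebraMap k k'))) : Scheme.{u})}
    [IsLocallyNoetherian X] (h : bcProj (k' := k') f a = bcProj (k' := k') f b) :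
    ∃ (σ : k' ≃ₐ[k] k') (t : pullback f (Spec.map (CommRingCat.ofHom (algebraMap k k'))) ⟶
        pullback f (Spec.map (CommRingCat.ofHom (algebraMap k k')))),
      IsIso t ∧ t ≫ pullback.fst f _ = pullback.fst f _ ∧
      t ≫ pullback.snd f _ = pullback.snd f _ ≫ Spec.map (CommRingCat.ofHom σ.toAlgHom.toRingHom) ∧
      t a = b := by
  let s := Spec.map (CommRingCat.ofHom (algebraMap k k'))
  let π := pullback.fst f s
  haveI : IsFinite π := isFinite (IsPullback.of_hasPullback f s)
  have hfin : ∀ c, (π.residueFieldMap c).hom.Finite := fun c =>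
    Unram.SepDegreeEtale.residueFieldMap_finite_of_quasiFiniteAt π c (Scheme.Hom.quasiFiniteAt π c)
  let Ω := AlgebraicClosure (X.residueField (π a))
  have key : ∀ c, π c = π a → ∃ g : Spec (CommRingCat.of Ω) ⟶ pullback f s, g (closedPoint Ω) = c ∧
      g ≫ π = Spec.map (CommRingCat.ofHom (algebraMap (X.residueField (π a)) Ω)) ≫
        X.fromSpecResidueField (π a) := by
    intro c hc
    let φ : X.residueField (π a) ⟶ (pullback f s).residueField c :=
      (X.residueFieldCongr hc.symm).hom ≫ π.residueFieldMap c
    letI := φ.hom.toAlgebra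
    haveI : Module.Finite (X.residueField (π a)) ((pullback f s).residueField c) :=
      RingHom.Finite.comp (hfin c)
        (RingHom.Finite.of_surjective _ (X.residueFieldCongr hc.symm).commRingCatIsoToRingEquiv.surjective)
    let e : (pullback f s).residueField c →ₐ[X.residueField (π a)] Ω := IsAlgClosed.lift
    refine ⟨Spec.map (CommRingCat.ofHom e.toRingHom) ≫ (pullback f s).fromSpecResidueField c, ?_, ?_⟩
    · rw [Scheme.Hom.comp_apply]
      exact Scheme.fromSpecResidueField_apply _ _
    · rw [Category.assoc, ← π.SpecMap_residueFieldMap_fromSpecResidueField,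
        ← Scheme.residueFieldCongr_fromSpecResidueField hc.symm, ← Category.assoc, ← Category.assoc,
        ← Spec.map_comp, ← Spec.map_comp]
      congr 2
      exact CommRingCat.hom_ext e.comp_algebraMap
  obtain ⟨ga, hga, hga'⟩ := key a rfl
  obtain ⟨gb, hgb, hgb'⟩ := key b h.symm
  let α := Spec.preimage (ga ≫ pullback.snd f s)
  let β := Spec.preimage (gb ≫ pullback.snd f s)
  have hαβ : CommRingCat.ofHom (algebraMap k k') ≫ α = CommRingCat.ofHom (algebraMap k k') ≫ β := by
    refine Spec.map_injective ?_
    rw [Spec.map_comp, Spec.map_comp, Spec.map_preimage, Spec.map_preimage, Category.assoc,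
      Category.assoc, ← pullback.condition, ← Category.assoc, ← Category.assoc, hga', hgb']
  letI : Algebra k' Ω := α.hom.toAlgebra
  letI : Algebra k Ω := (α.hom.comp (algebraMap k k')).toAlgebra
  haveI : IsScalarTower k k' Ω := IsScalarTower.of_algebraMap_eq' rfl
  let βh : k' →ₐ[k] Ω := { β.hom with commutes' := fun r => (congrArg (fun m => m.hom r) hαβ).symm }
  let σ : k' ≃ₐ[k] k' := Normal.algHomEquivAut k Ω k' βh
  have hσ : ∀ x, algebraMap k' Ω (σ x) = βh x := fun x => by
    have := (Normal.algHomEquivAut k Ω k').symm_apply_apply βh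
    exact DFunLike.congr_fun this x
  have hsσ : Spec.map (CommRingCat.ofHom σ.toAlgHom.toRingHom) ≫ s = s := by
    rw [← Spec.map_comp, ← CommRingCat.ofHom_comp]
    exact congrArg (fun m => Spec.map (CommRingCat.ofHom m)) (RingHom.ext fun x => σ.commutes x)
  haveI : IsIso (Spec.map (CommRingCat.ofHom σ.toAlgHom.toRingHom)) := by
    haveI : IsIso (CommRingCat.ofHom σ.toAlgHom.toRingHom) :=
      σ.toRingEquiv.toCommRingCatIso.isIso_hom
    infer_instance
  let t : pullback f s ⟶ pullback f s :=
    pullback.map f s f s (𝟙 _) (Spec.map (CommRingCat.ofHom σ.toAlgHom.toRingHom)) (𝟙 _)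
      (by simp) (by rw [Category.comp_id, hsσ])
  have ht1 : t ≫ pullback.fst f s = pullback.fst f s := (pullback.lift_fst _ _ _).trans (Category.comp_id _)
  have ht2 : t ≫ pullback.snd f s = pullback.snd f s ≫ Spec.map (CommRingCat.ofHom σ.toAlgHom.toRingHom) :=
    pullback.lift_snd _ _ _
  refine ⟨σ, t, inferInstance, ht1, ht2, ?_⟩
  have e : ga ≫ t = gb := pullback.hom_ext
    (by rw [Category.assoc, ht1]; exact hga'.trans hgb'.symm)
    (by
      rw [Category.assoc, ht2, ← Category.assoc, ← Spec.map_preimage (ga ≫ pullback.snd f s),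
        ← Spec.map_preimage (gb ≫ pullback.snd f s), ← Spec.map_comp]
      exact congrArg Spec.map (CommRingCat.hom_ext (RingHom.ext fun x => hσ x)))
  rw [← hga, ← Scheme.Hom.comp_apply, e, hgb]

end Groth.Agent.Lib.Cyc.FieldExt
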