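import Groth.Agent.Lib.Cyc.LimCyc

/-!
# Stages isolating finitely many points of a limit
-/

set_option autoImplicit false
universe u

namespace Groth.Agent.Lib.Cyc.LimStage

open AlgebraicGeometry CategoryTheory CategoryTheory.Limits Groth.Agent.Lib Groth.Agent.Lib.Cyc

variable {I : Type u} [Preorder I] [IsDirected I (fun a b => a ≤ b)] [Nonempty I]
  {D : Iᵒᵖ ⥤ Scheme.{u}} {c : Cone D}

/-- `x` is the only generic point of its fibre, and the fibre is reduced there. -/
def Isolated (i : Iᵒᵖ) (x : c.pt) : Prop :=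
  Ideal.map ((c.π.app i).stalkMap x).hom
      (IsLocalRing.maximalIdeal ((D.obj i).presheaf.stalk (c.π.app i x))) =
        IsLocalRing.maximalIdeal (c.pt.presheaf.stalk x) ∧
      ∀ y, c.π.app i y = c.π.app i x → FibLen.IsMaxFib (c.π.app i) y → y = x

theorem isMaxFib [IsLocallyNoetherian c.pt] {i : Iᵒᵖ} {x : c.pt} (h : Isolated i x) :
    FibLen.IsMaxFib (c.π.app i) x :=
  (@FibLen.fibLen_ne_top_iff _ _ ‹IsLocallyNoetherian c.pt› (c.π.app i) x).mp
    (by rw [LimCyc.fibLen_eq_one _ x h.1]; exact ENat.one_ne_top)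

theorem exists_isolated (hc : IsLimit c) (haff : ∀ {i j : Iᵒᵖ} (f : i ⟶ j), IsAffineHom (D.map f))
    (hflat' : ∀ i, Flat (c.π.app i)) [IsLocallyNoetherian c.pt] [CompactSpace ↥c.pt] (i₁ : Iᵒᵖ)
    (s : Finset c.pt) : ∃ (i : Iᵒᵖ) (_ : i ⟶ i₁), ∀ x ∈ s, Isolated i x := by
  classical
  have := @haff
  let P : Iᵒᵖ → c.pt → Prop := fun i x => Isolated i x
  have hmaxOf : ∀ i x, Ideal.map ((c.π.app i).stalkMap x).hom
      (IsLocalRing.maximalIdeal ((D.obj i).presheaf.stalk (c.π.app i x))) =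
        IsLocalRing.maximalIdeal (c.pt.presheaf.stalk x) →
      FibLen.IsMaxFib (c.π.app i) x := fun i x h =>
    (@FibLen.fibLen_ne_top_iff _ _ ‹IsLocallyNoetherian c.pt› (c.π.app i) x).mp
      (by rw [LimCyc.fibLen_eq_one _ x h]; exact ENat.one_ne_top)
  have hmono : ∀ {i j : Iᵒᵖ} (f : j ⟶ i) x, P i x → P j x := by
    intro i j f x hP
    refine ⟨le_antisymm ?_ (hP.1.ge.trans
      (LimCyc.map_maximalIdeal_comp_le (c.π.app j) (D.map f) (c.π.app i) (c.w f) x)), ?_⟩
    · rw [Ideal.map_le_iff_le_comap]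
      intro a ha
      rw [Ideal.mem_comap, IsLocalRing.mem_maximalIdeal] at *
      exact fun hu => ha (isUnit_of_map_unit ((c.π.app j).stalkMap x).hom a hu)
    · intro y hy hymax
      have hflatj := hflat' j
      have h1 := hmaxOf i x hP.1
      have hw : ∀ w, c.π.app i w = D.map f (c.π.app j w) := fun w => by
        rw [← Scheme.Hom.comp_apply, c.w]
      refine hP.2 y (by rw [hw, hw, hy]) fun z hz hzy => hymax z ?_ hzy
      have hmid := (FibLen.isMaxFib_of_comp (c.π.app j) (D.map f) x (by rw [c.w]; exact h1)).2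
      rw [hy]
      refine hmid _ ?_ (hy ▸ hzy.map (c.π.app j).continuous)
      rw [← hw, ← hw, hz, hw, hw, hy]
  have hex : ∀ x : c.pt, ∃ i, P i x := by
    intro x
    obtain ⟨i₀, h₀⟩ := LimCyc.exists_map_maximalIdeal_eq hc x
    have hfin := LimCyc.finite_isMaxFib (A := c.pt) (c.π.app i₀) (c.π.app i₀ x)
    suffices h : ∀ s : Finset c.pt, (∀ y ∈ s, y ≠ x) →
        ∃ (i : Iᵒᵖ) (_ : i ⟶ i₀), ∀ y ∈ s, c.π.app i y ≠ c.π.app i x by
      obtain ⟨i, f, hi⟩ := h (hfin.toFinset.erase x) fun y hy => Finset.ne_of_mem_erase hy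
      have hflati := hflat' i
      have hw : ∀ w, c.π.app i₀ w = D.map f (c.π.app i w) := fun w => by
        rw [← Scheme.Hom.comp_apply, c.w]
      have hmid := (FibLen.isMaxFib_of_comp (c.π.app i) (D.map f) x
        (by rw [c.w]; exact hmaxOf i₀ x h₀)).2
      refine ⟨i, le_antisymm ?_ (h₀.ge.trans
        (LimCyc.map_maximalIdeal_comp_le (c.π.app i) (D.map f) (c.π.app i₀) (c.w f) x)), ?_⟩
      · rw [Ideal.map_le_iff_le_comap]
        intro a ha
        rw [Ideal.mem_comap, IsLocalRing.mem_maximalIdeal] at *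
        exact fun hu => ha (isUnit_of_map_unit ((c.π.app i).stalkMap x).hom a hu)
      intro y hy hymax
      by_contra hne
      refine hi y (Finset.mem_erase.mpr ⟨hne, hfin.mem_toFinset.mpr ⟨by rw [hw, hw, hy],
        fun z hz hzy => hymax z ?_ hzy⟩⟩) hy
      rw [hy]
      refine hmid _ ?_ (hy ▸ hzy.map (c.π.app i).continuous)
      rw [← hw, ← hw, hz, hw, hw, hy]
    intro s
    induction s using Finset.induction_on with
    | empty => exact fun _ => ⟨i₀, 𝟙 i₀, fun y hy => absurd hy (Finset.notMem_empty y)⟩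
    | insert a s _ ih =>
      intro hs
      obtain ⟨i, f, hi⟩ := ih fun y hy => hs y (Finset.mem_insert_of_mem hy)
      obtain ⟨j, hj⟩ : ∃ j, c.π.app j a ≠ c.π.app j x := by
        by_contra! hall
        exact hs a (Finset.mem_insert_self _ _) (Lim.Topology.point_ext hc hall)
      obtain ⟨k, g, g', -⟩ := IsCofilteredOrEmpty.cone_objs i j
      refine ⟨k, g ≫ f, fun y hy he => ?_⟩
      have he' : ∀ {l : Iᵒᵖ} (u : k ⟶ l), c.π.app l y = c.π.app l x := fun u => by
        rw [← c.w u, Scheme.Hom.comp_apply, Scheme.Hom.comp_apply, he]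
      rcases Finset.mem_insert.mp hy with rfl | hy
      · exact hj (he' g')
      · exact hi y hy (he' g)
  choose ix hix using hex
  obtain ⟨i, hi⟩ := IsCofiltered.inf_objs_exists (insert i₁ (s.image ix))
  exact ⟨i, (hi (Finset.mem_insert_self _ _)).some, fun x hx =>
    hmono (hi (Finset.mem_insert_of_mem (Finset.mem_image_of_mem _ hx))).some x (hix x)⟩

end Groth.Agent.Lib.Cyc.LimStage
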