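import Groth.Agent.Lib.Cyc.Gys.Closed
import Groth.Agent.Lib.Cyc.PB.Span

/-!
# Mayer–Vietoris for cycles modulo rational equivalence
-/

set_option autoImplicit false
universe u

open CategoryTheory AlgebraicGeometry

namespace Groth.Agent.Lib.Cyc.MayerVietoris

open Groth.Agent.Lib Groth.Agent.Lib.Cyc

variable {X : Scheme.{u}} [IsLocallyNoetherian X] {δ : X → ℤ} {k : ℤ}

theorem exists_divFun_lift {D : Scheme.{u}} (i : D ⟶ X) [IsClosedImmersion i]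
    (hδ : Cyc.IsDimFun X δ) {x : X} (hx : x ∈ Set.range i) (f : X.residueField x) (hf : f ≠ 0) :
    ∃ (ζ : D) (g : D.residueField ζ), i ζ = x ∧ g ≠ 0 ∧
      ∀ d, Cyc.divFun (fun d => δ (i d)) ζ g d = Cyc.divFun δ x f (i d) := by
  obtain ⟨ζ, rfl⟩ := hx
  exact ⟨ζ, i.residueFieldMap ζ f, rfl,
    fun h => hf ((Gys.Closed.residue_bijective i ζ).1 (h.trans (map_zero _).symm)),
    Gys.Closed.divFun_map i hδ ζ f⟩

/-- The part of a relation lying on a closed subscheme is a relation on it. -/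
theorem exists_restrict {D : Scheme.{u}} (i : D ⟶ X) [IsClosedImmersion i]
    (hδ : Cyc.IsDimFun X δ) {ι : Type u} (ξ : ι → X) (f : ∀ n, X.residueField (ξ n))
    (hmem : ∀ n, ξ n ∈ Set.range i) (hξ : ∀ n, δ (ξ n) = k + 1) (hf : ∀ n, f n ≠ 0)
    (hlf : ∀ x : X, ∃ U : Set X, IsOpen U ∧ x ∈ U ∧ {n | (closure {ξ n} ∩ U).Nonempty}.Finite) :
    ∃ R : AlgebraicCycle D ℤ, Cyc.RatEquivZero (fun d => δ (i d)) k R ∧
      R ∈ Cyc.Zk D (fun d => δ (i d)) k ∧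
      ∀ d, R d = ∑ᶠ n, Cyc.divFun δ (ξ n) (f n) (i d) := by
  haveI : IsLocallyNoetherian D := LocallyOfFiniteType.isLocallyNoetherian i
  choose ζ g hζ hg hdiv using fun n => exists_divFun_lift i hδ (hmem n) (f n) (hf n)
  have hlf' : ∀ d : D, ∃ U : Set D, IsOpen U ∧ d ∈ U ∧
      {n | (closure {ζ n} ∩ U).Nonempty}.Finite := fun d => by
    obtain ⟨U, hU, hd, hfin⟩ := hlf (i d)
    refine ⟨i ⁻¹' U, hU.preimage i.continuous, hd, hfin.subset ?_⟩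
    rintro n ⟨a, ha, haU⟩
    refine ⟨i a, ?_, haU⟩
    rw [← specializes_iff_mem_closure] at ha ⊢
    rw [← hζ n]
    exact ha.map i.continuous
  obtain ⟨R, hR⟩ := PB.Span.exists_cycle_of_family (Gys.Closed.isDimFun i hδ) ζ g hlf'
  refine ⟨R, ⟨ι, ζ, g, fun n => ?_, hg, hlf', hR⟩, fun d hd => ?_, fun d => ?_⟩
  · show δ (i (ζ n)) = k + 1
    rw [hζ, hξ]
  · rw [hR]
    refine finsum_eq_zero_of_forall_eq_zero fun n => ?_
    rw [Cyc.divFun, dif_neg]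
    rintro ⟨-, h⟩
    simp only [hζ, hξ] at h
    have hd' : δ (i d) ≠ k := hd
    omega
  · rw [hR]
    exact finsum_congr fun n => hdiv n d

/-- Exactness in the middle of the Mayer–Vietoris sequence. -/
theorem exists_cycle_on_inter {X₁ X₂ Y : Scheme.{u}} (i₁ : X₁ ⟶ X) (i₂ : X₂ ⟶ X)
    [IsClosedImmersion i₁] [IsClosedImmersion i₂]
    (hcov : Set.range i₁ ∪ Set.range i₂ = Set.univ)
    (j₁ : Y ⟶ X₁) (j₂ : Y ⟶ X₂) [IsClosedImmersion j₁] [IsClosedImmersion j₂]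
    (hcomm : j₁ ≫ i₁ = j₂ ≫ i₂) (hY : Set.range (j₁ ≫ i₁) = Set.range i₁ ∩ Set.range i₂)
    (hδ : Cyc.IsDimFun X δ) (α₁ : AlgebraicCycle X₁ ℤ) (α₂ : AlgebraicCycle X₂ ℤ)
    (h₁ : α₁ ∈ Cyc.Zk X₁ (fun x => δ (i₁ x)) k)
    (h : Cyc.RatEquivZero δ k
      (AlgebraicCycle.map i₁ (fun x => δ (i₁ x)) δ α₁ +
        AlgebraicCycle.map i₂ (fun x => δ (i₂ x)) δ α₂)) :
    ∃ γ : AlgebraicCycle Y ℤ, γ ∈ Cyc.Zk Y (fun y => δ (i₁ (j₁ y))) k ∧
      Cyc.RatEquiv (fun x => δ (i₁ x)) k α₁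
        (AlgebraicCycle.map j₁ (fun y => δ (i₁ (j₁ y))) (fun x => δ (i₁ x)) γ) ∧
      Cyc.RatEquiv (fun x => δ (i₂ x)) k α₂
        (-AlgebraicCycle.map j₂ (fun y => δ (i₁ (j₁ y))) (fun x => δ (i₂ x)) γ) := by
  classical
  haveI : IsLocallyNoetherian X₁ := LocallyOfFiniteType.isLocallyNoetherian i₁
  haveI : IsLocallyNoetherian X₂ := LocallyOfFiniteType.isLocallyNoetherian i₂
  obtain ⟨ι, ξ, f, hξ, hf, hlf, hα⟩ := h
  let P : Set ι := {n | ξ n ∈ Set.range i₁}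
  have hlfP : ∀ Q : Set ι, ∀ x : X, ∃ U : Set X, IsOpen U ∧ x ∈ U ∧
      {n : Q | (closure {ξ n} ∩ U).Nonempty}.Finite := fun Q x => by
    obtain ⟨U, hU, hx, hfin⟩ := hlf x
    exact ⟨U, hU, hx,
      (hfin.preimage (f := (Subtype.val : Q → ι)) Subtype.val_injective.injOn).subset fun n hn => hn⟩
  obtain ⟨R₁, hR₁, hZ₁, hR₁a⟩ := exists_restrict i₁ hδ (k := k) (fun n : P => ξ n) (fun n => f n)
    (fun n => n.2) (fun n => hξ n) (fun n => hf n) (hlfP P)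
  obtain ⟨R₂, hR₂, -, hR₂a⟩ := exists_restrict i₂ hδ (k := k) (fun n : (Pᶜ : Set ι) => ξ n)
    (fun n => f n) (fun n => (Set.eq_univ_iff_forall.1 hcov (ξ n)).resolve_left n.2) (fun n => hξ n)
    (fun n => hf n) (hlfP Pᶜ)
  have hfinS := Ord.finite_support_divFun_family δ ξ f hlf
  have hsplit : ∀ x : X, (∑ᶠ n, Cyc.divFun δ (ξ n) (f n) x) =
      (∑ᶠ n : P, Cyc.divFun δ (ξ n) (f n) x) + ∑ᶠ n : (Pᶜ : Set ι), Cyc.divFun δ (ξ n) (f n) x :=
    fun x => by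
      rw [finsum_set_coe_eq_finsum_mem (f := fun n => Cyc.divFun δ (ξ n) (f n) x) P,
        finsum_set_coe_eq_finsum_mem (f := fun n => Cyc.divFun δ (ξ n) (f n) x) Pᶜ,
        ← finsum_mem_union' disjoint_compl_right ((hfinS x).subset Set.inter_subset_right)
          ((hfinS x).subset Set.inter_subset_right), Set.union_compl_self, finsum_mem_univ]
  have hout : ∀ {Q : Set ι} {Z : Set X}, IsClosed Z → (∀ n ∈ Q, ξ n ∈ Z) → ∀ x ∉ Z,
      (∑ᶠ n : Q, Cyc.divFun δ (ξ n) (f n) x) = 0 := fun hZ hQ x hx =>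
    finsum_eq_zero_of_forall_eq_zero fun n =>
      Ord.divFun_eq_zero_of_not_specializes δ _ _ _ fun hs => hx (hs.mem_closed hZ (hQ n n.2))
  have hj : ∀ y, i₁ (j₁ y) = i₂ (j₂ y) := fun y => congrArg (fun φ : Y ⟶ X => φ y) hcomm
  have hkey : ∀ d : X₁, d ∉ Set.range j₁ → α₁ d - R₁ d = 0 := by
    intro d hd
    have hd2 : i₁ d ∉ Set.range i₂ := fun hc => by
      obtain ⟨y, hy⟩ : i₁ d ∈ Set.range (j₁ ≫ i₁) := by rw [hY]; exact ⟨⟨d, rfl⟩, hc⟩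
      exact hd ⟨y, Gys.Closed.injective i₁ hy⟩
    have := hα (i₁ d)
    rw [Function.locallyFinsuppWithin.coe_add, Pi.add_apply, Gys.Closed.map_apply_image,
      Gys.Closed.map_apply_of_not_mem i₂ α₂ hd2, add_zero, hsplit, ← hR₁a,
      hout (Q := Pᶜ) i₂.isClosedEmbedding.isClosed_range
        (fun n hn => (Set.eq_univ_iff_forall.1 hcov (ξ n)).resolve_left hn) _ hd2, add_zero] at this
    omega
  let γ : AlgebraicCycle Y ℤ := ⟨fun y => (α₁ - R₁) (j₁ y), fun _ _ => trivial, fun y _ => by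
    obtain ⟨W, hW, hWfin⟩ := (α₁ - R₁).supportLocallyFiniteWithinDomain' (j₁ y) trivial
    exact ⟨j₁ ⁻¹' W, j₁.continuous.continuousAt.preimage_mem_nhds hW,
      (hWfin.preimage (Gys.Closed.injective j₁).injOn).subset fun z hz => hz⟩⟩
  have hγ : ∀ y, γ y = α₁ (j₁ y) - R₁ (j₁ y) := fun y => by
    show (α₁ - R₁) (j₁ y) = _
    rw [Function.locallyFinsuppWithin.coe_sub, Pi.sub_apply]
  refine ⟨γ, fun y hy => ?_, ?_, ?_⟩
  · rw [hγ, h₁ _ hy, hZ₁ _ hy, sub_zero]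
  · suffices e : α₁ - AlgebraicCycle.map j₁ (fun y => δ (i₁ (j₁ y))) (fun x => δ (i₁ x)) γ = R₁ by
      rw [Cyc.RatEquiv, e]
      exact hR₁
    ext d
    rw [Function.locallyFinsuppWithin.coe_sub, Pi.sub_apply]
    by_cases hd : d ∈ Set.range j₁
    · obtain ⟨y, rfl⟩ := hd
      rw [Gys.Closed.map_apply_image (δ := fun x => δ (i₁ x)) j₁ γ y, hγ]
      omega
    · rw [Gys.Closed.map_apply_of_not_mem (δ := fun x => δ (i₁ x)) j₁ γ hd]
      have := hkey d hd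
      omega
  · suffices e : α₂ - -AlgebraicCycle.map j₂ (fun y => δ (i₁ (j₁ y))) (fun x => δ (i₂ x)) γ = R₂ by
      rw [Cyc.RatEquiv, e]
      exact hR₂
    simp only [hj]
    ext d
    rw [sub_neg_eq_add, Function.locallyFinsuppWithin.coe_add, Pi.add_apply]
    have hαd := hα (i₂ d)
    rw [Function.locallyFinsuppWithin.coe_add, Pi.add_apply, Gys.Closed.map_apply_image i₂ α₂ d,
      hsplit, ← hR₂a] at hαd
    by_cases hd : d ∈ Set.range j₂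
    · obtain ⟨y, rfl⟩ := hd
      rw [Gys.Closed.map_apply_image (δ := fun x => δ (i₂ x)) j₂ γ y, hγ]
      rw [← hj y, Gys.Closed.map_apply_image i₁ α₁ (j₁ y), ← hR₁a] at hαd
      omega
    · rw [Gys.Closed.map_apply_of_not_mem (δ := fun x => δ (i₂ x)) j₂ γ hd]
      have hd1 : i₂ d ∉ Set.range i₁ := fun hc => by
        obtain ⟨y, hy⟩ : i₂ d ∈ Set.range (j₁ ≫ i₁) := by rw [hY]; exact ⟨hc, ⟨d, rfl⟩⟩
        exact hd ⟨y, Gys.Closed.injective i₂ ((hj y).symm.trans hy)⟩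
      rw [Gys.Closed.map_apply_of_not_mem i₁ α₁ hd1,
        hout (Q := P) i₁.isClosedEmbedding.isClosed_range (fun n hn => hn) _ hd1] at hαd
      omega

end Groth.Agent.Lib.Cyc.MayerVietoris
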