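import Mathlib.FieldTheory.PurelyInseparable.Basic
import Mathlib.RingTheory.Spectrum.Prime.Homeomorph
import Mathlib.RingTheory.LocalRing.Length
import Mathlib.RingTheory.RingHom.Flat
import Mathlib.RingTheory.Artinian.Module
import Mathlib.RingTheory.HopkinsLevitzki
import Mathlib.LinearAlgebra.TensorProduct.Finiteness

/-!
# Tensor products of a field with a purely inseparable extension

`K ⊗[k] κ` has a single prime ideal and, when Noetherian, its length is a power of the exponential
characteristic.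
-/

set_option autoImplicit false

universe u

open TensorProduct IsLocalRing

namespace Groth.Agent.Lib.Cyc.PurInsep

variable (k κ K : Type u) [Field k] [Field κ] [Field K] [Algebra k κ] [Algebra k K]
  [IsPurelyInseparable k K]

theorem exists_pow_mem (b : K ⊗[k] κ) :
    ∃ n > 0, b ^ n ∈
      (Algebra.TensorProduct.includeRight : κ →ₐ[k] K ⊗[k] κ).toRingHom.range := by
  obtain ⟨n, hn, a, ha⟩ :=
    IsPurelyInseparable.exists_pow_mem_range_tensorProduct (Algebra.TensorProduct.comm k K κ b)
  refine ⟨n, hn, a, ?_⟩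
  apply (Algebra.TensorProduct.comm k K κ).injective
  rw [map_pow, ← ha]
  simp

theorem nontrivial_tensor : Nontrivial (K ⊗[k] κ) :=
  (Algebra.TensorProduct.includeRight_injective (A := K) (B := κ)
    (algebraMap k K).injective).nontrivial

theorem subsingleton_primeSpectrum : Subsingleton (PrimeSpectrum (K ⊗[k] κ)) := by
  have hker : RingHom.ker (Algebra.TensorProduct.includeRight : κ →ₐ[k] K ⊗[k] κ).toRingHom ≤
      nilradical κ := by
    have := nontrivial_tensor k κ K
    exact ((RingHom.injective_iff_ker_eq_bot _).mp (RingHom.injective _)).le.trans bot_le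
  exact (PrimeSpectrum.isHomeomorph_comap _ (exists_pow_mem k κ K) hker).injective.subsingleton

theorem isLocalRing_tensor : IsLocalRing (K ⊗[k] κ) := by
  have := nontrivial_tensor k κ K
  have := subsingleton_primeSpectrum k κ K
  obtain ⟨m, hm⟩ := Ideal.exists_maximal (K ⊗[k] κ)
  exact IsLocalRing.of_unique_max_ideal ⟨m, hm, fun I hI =>
    congrArg PrimeSpectrum.asIdeal
      (Subsingleton.elim (⟨I, hI.isPrime⟩ : PrimeSpectrum _) ⟨m, hm.isPrime⟩)⟩

theorem krullDimLE_zero : Ring.KrullDimLE 0 (K ⊗[k] κ) := by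
  have := subsingleton_primeSpectrum k κ K
  rw [Ring.krullDimLE_iff]
  exact Order.krullDim_nonpos_iff_forall_isMax.mpr fun p q _ => (Subsingleton.elim q p).le

section Lift

theorem flat_map (L : Type u) [Field L] [Algebra k L] [Algebra L K] [IsScalarTower k L K] :
    (Algebra.TensorProduct.map (IsScalarTower.toAlgHom k L K) (AlgHom.id k κ)).toRingHom.Flat := by
  let e : K ⊗[L] (L ⊗[k] κ) ≃ₐ[K] K ⊗[k] κ :=
    Algebra.TensorProduct.cancelBaseChange k L K K κ
  let c : (L ⊗[k] κ) ⊗[L] K ≃ₐ[L] K ⊗[L] (L ⊗[k] κ) := Algebra.TensorProduct.comm L _ K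
  have h1 : (Algebra.TensorProduct.includeLeftRingHom : L ⊗[k] κ →+* (L ⊗[k] κ) ⊗[L] K).Flat := by
    exact RingHom.flat_algebraMap_iff.mpr
      (inferInstance : Module.Flat (L ⊗[k] κ) ((L ⊗[k] κ) ⊗[L] K))
  have h2 : (e.toRingEquiv.toRingHom.comp c.toRingEquiv.toRingHom).Flat :=
    RingHom.Flat.of_bijective (f := e.toRingEquiv.toRingHom.comp c.toRingEquiv.toRingHom)
      (e.bijective.comp c.bijective)
  have h3 := h1.comp h2
  convert h3 using 1
  ext x
  · simp [e, c, Algebra.algebraMap_eq_smul_one]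
  · simp [e, c]

end Lift

theorem length_eq_of_flat {A B : Type u} [CommRing A] [CommRing B] [IsLocalRing A] [IsLocalRing B]
    (ψ : A →+* B) (hψ : ψ.Flat) (hloc : IsLocalHom ψ)
    (hm : (maximalIdeal A).map ψ = maximalIdeal B) : Module.length B B = Module.length A A := by
  let := ψ.toAlgebra
  have : Module.Flat A B := hψ
  have : IsLocalHom (algebraMap A B) := hloc
  have h := IsLocalRing.length_baseChange A B A
  have hm' : (maximalIdeal A).map (algebraMap A B) = maximalIdeal B := hm
  rw [hm', (AlgebraTensorModule.rid A B B).length_eq] at h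
  have : IsSimpleModule B (B ⧸ maximalIdeal B) :=
    isSimpleModule_iff_isCoatom.mpr (maximalIdeal.isMaximal _).out
  rwa [Module.length_eq_one B (B ⧸ maximalIdeal B), mul_one] at h

/-- The finite case. -/
theorem exists_length_eq_pow_of_finite (k κ : Type u) [Field k] [Field κ] [Algebra k κ] (p : ℕ)
    [ExpChar k p] (L : Type u) [Field L] [Algebra k L] [FiniteDimensional k L]
    [IsPurelyInseparable k L] :
    ∃ m : ℕ, Module.length (L ⊗[k] κ) (L ⊗[k] κ) = ((p ^ m : ℕ) : ℕ∞) := by
  have := isLocalRing_tensor k κ L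
  let : Algebra κ (L ⊗[k] κ) :=
    (Algebra.TensorProduct.includeRight : κ →ₐ[k] L ⊗[k] κ).toRingHom.toAlgebra
  have hloc : IsLocalHom (algebraMap κ (L ⊗[k] κ)) := ⟨fun a ha => by
    by_contra hc
    rw [isUnit_iff_ne_zero, not_not] at hc
    rw [hc, map_zero] at ha
    exact not_isUnit_zero ha⟩
  let E : κ ⊗[k] L ≃ₗ[κ] L ⊗[k] κ :=
    { (Algebra.TensorProduct.comm k κ L).toRingEquiv with
      map_smul' := fun a b => by
        rw [Algebra.smul_def, Algebra.smul_def]
        simp [RingHom.algebraMap_toAlgebra] }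
  have : Module.Finite κ (L ⊗[k] κ) := Module.Finite.equiv E
  have h2 := IsLocalRing.length_restrictScalars κ (L ⊗[k] κ) (L ⊗[k] κ)
  have hL : Module.length κ (L ⊗[k] κ) = ((Module.finrank k L : ℕ) : ℕ∞) := by
    rw [Module.length_eq_finrank, ← E.finrank_eq, Module.finrank_baseChange]
  obtain ⟨m, hm'⟩ := IsPurelyInseparable.finrank_eq_pow k L p
  rw [hL, hm'] at h2
  generalize hd : Module.length (ResidueField κ) (ResidueField (L ⊗[k] κ)) = d at h2
  generalize Module.length (L ⊗[k] κ) (L ⊗[k] κ) = l at h2 ⊢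
  have hp0 : (p ^ m : ℕ) ≠ 0 := pow_ne_zero _ (expChar_pos k p).ne'
  induction l using ENat.recTopCoe with
  | top =>
    exfalso
    by_cases hd0 : d = 0
    · rw [hd0, mul_zero] at h2
      exact hp0 (by exact_mod_cast h2)
    · rw [ENat.top_mul hd0] at h2
      exact ENat.coe_ne_top _ h2
  | coe a =>
    induction d using ENat.recTopCoe with
    | top =>
      exfalso
      by_cases ha : a = 0
      · rw [ha, Nat.cast_zero, zero_mul] at h2
        exact hp0 (by exact_mod_cast h2)
      · rw [ENat.mul_top (by exact_mod_cast ha)] at h2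
        exact ENat.coe_ne_top _ h2
    | coe b =>
      have hab : p ^ m = a * b := by exact_mod_cast h2
      rcases expChar_is_prime_or_one k p with hp | hp
      · obtain ⟨j, -, hj⟩ := (Nat.dvd_prime_pow hp).mp (Dvd.intro b hab.symm)
        exact ⟨j, by rw [hj]⟩
      · refine ⟨0, ?_⟩
        rw [hp, one_pow] at hab
        rw [pow_zero, Nat.eq_one_of_mul_eq_one_right hab.symm]


/-- The length of `K ⊗[k] κ` is a power of the exponential characteristic. -/
theorem exists_length_eq_pow (p : ℕ) [ExpChar k p] [IsNoetherianRing (K ⊗[k] κ)] :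
    ∃ m : ℕ, Module.length (K ⊗[k] κ) (K ⊗[k] κ) = ((p ^ m : ℕ) : ℕ∞) := by
  classical
  have := isLocalRing_tensor k κ K
  obtain ⟨S, hS⟩ := IsNoetherian.noetherian (maximalIdeal (K ⊗[k] κ))
  choose T hT using fun b : K ⊗[k] κ => TensorProduct.exists_finset b
  let F : Finset K := S.biUnion fun b => (T b).image Prod.fst
  let L : IntermediateField k K := IntermediateField.adjoin k (F : Set K)
  have : FiniteDimensional k L :=
    IntermediateField.finiteDimensional_adjoin fun x _ => Algebra.IsIntegral.isIntegral x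
  have : IsPurelyInseparable k L :=
    IsPurelyInseparable.tower_bot k L K
  let ψ := Algebra.TensorProduct.map (IsScalarTower.toAlgHom k L K) (AlgHom.id k κ)
  have hrange : ∀ b ∈ S, ∃ t : L ⊗[k] κ, ψ t = b := by
    intro b hb
    refine ⟨∑ i ∈ T b, (if h : i.1 ∈ L then (⟨i.1, h⟩ : L) else 0) ⊗ₜ[k] i.2, ?_⟩
    rw [map_sum]
    refine Eq.trans (Finset.sum_congr rfl fun i hi => ?_) (hT b).symm
    have hm : i.1 ∈ L := IntermediateField.subset_adjoin (F := k) (E := K) (F : Set K)
      (Finset.mem_biUnion.mpr ⟨b, hb, Finset.mem_image_of_mem _ hi⟩)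
    simp [ψ, hm]
  have := isLocalRing_tensor k κ L
  have hdim := krullDimLE_zero k κ L
  have hnil : ∀ t : L ⊗[k] κ, ¬ IsUnit t → IsNilpotent t := by
    intro t ht
    refine (nilpotent_iff_mem_prime (R := L ⊗[k] κ) (x := t)).mpr fun J hJ => ?_
    have hmax : J.IsMaximal := Ideal.IsPrime.isMaximal' hJ
    rw [IsLocalRing.eq_maximalIdeal hmax]
    exact ht
  have hψloc : IsLocalHom ψ.toRingHom := ⟨fun t ht => by
    by_contra hc
    exact ((hnil t hc).map ψ).not_isUnit ht⟩
  have hm : (maximalIdeal (L ⊗[k] κ)).map ψ.toRingHom = maximalIdeal (K ⊗[k] κ) := by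
    refine le_antisymm (Ideal.map_le_iff_le_comap.mpr fun t ht hu =>
      ht (hψloc.map_nonunit t hu)) ?_
    rw [← hS]
    refine Submodule.span_le.mpr fun b hb => ?_
    obtain ⟨t, rfl⟩ := hrange b hb
    refine Ideal.mem_map_of_mem ψ.toRingHom fun hu => ?_
    have h1 : ψ t ∈ maximalIdeal (K ⊗[k] κ) := hS ▸ Submodule.subset_span hb
    exact h1 (hu.map ψ)
  have h1 : Module.length (K ⊗[k] κ) (K ⊗[k] κ) = Module.length (L ⊗[k] κ) (L ⊗[k] κ) :=
    length_eq_of_flat ψ.toRingHom (flat_map k κ K L) hψloc hm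
  rw [h1]
  exact exists_length_eq_pow_of_finite k κ p L

end Groth.Agent.Lib.Cyc.PurInsep
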